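import Cfsg.Agent.Lib.Recog.G2TwoSpec.Semiregular

/-!
# Abelian Sylow 3-subgroups: fusion, fixed points and planes
-/

set_option autoImplicit false
set_option linter.unusedSectionVars false
set_option linter.style.haveILetI false

open Subgroup
open scoped Pointwise

namespace CfsgLib.Recog.G2TwoSpec

variable {G : Type*} [Group G] [Finite G]

/-- The Sylow 3-subgroups are abelian. -/
def AbS (G : Type*) [Group G] : Prop :=
  ∀ (S : Sylow 3 G), ∀ a ∈ (S : Subgroup G), ∀ b ∈ (S : Subgroup G), Commute a b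

theorem conj_normalizer (hab : AbS G) (S : Sylow 3 G) (D : Subgroup G) (hD : D ≤ (S : Subgroup G))
    (g : G) (hg : ∀ d ∈ D, g * d * g⁻¹ ∈ (S : Subgroup G)) :
    ∃ n ∈ normalizer ((S : Subgroup G) : Set G), ∀ d ∈ D, n * d * n⁻¹ = g * d * g⁻¹ := by
  haveI : Fact (Nat.Prime 3) := ⟨Nat.prime_three⟩
  set C := centralizer ((fun d => g * d * g⁻¹) '' (D : Set G))
  have h1 : (S : Subgroup G) ≤ C := by
    intro s hs
    rw [mem_centralizer_iff]
    rintro _ ⟨d, hd, rfl⟩
    exact (hab S _ (hg d hd) s hs).eq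
  have h2 : ((g • S : Sylow 3 G) : Subgroup G) ≤ C := by
    intro s hs
    rw [mem_smul_iff] at hs
    rw [mem_centralizer_iff]
    rintro _ ⟨d, hd, rfl⟩
    calc g * d * g⁻¹ * s = g * (d * (g⁻¹ * s * g)) * g⁻¹ := by group
      _ = g * ((g⁻¹ * s * g) * d) * g⁻¹ := by rw [(hab S _ (hD hd) _ hs).eq]
      _ = s * (g * d * g⁻¹) := by group
  obtain ⟨c, hc⟩ := MulAction.exists_smul_eq ↥C ((g • S).subtype h2) (S.subtype h1)
  simp_rw [Sylow.smul_subtype, Subgroup.smul_def, smul_smul] at hc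
  refine ⟨(c : G) * g, Sylow.smul_eq_iff_mem_normalizer.1 (Sylow.subtype_injective hc), fun d hd => ?_⟩
  have := mem_centralizer_iff.1 c.2 _ ⟨d, hd, rfl⟩
  calc (c : G) * g * d * ((c : G) * g)⁻¹ = (c : G) * (g * d * g⁻¹) * (c : G)⁻¹ := by group
    _ = g * d * g⁻¹ := by rw [← this, mul_inv_cancel_right]

theorem conj_card (K : Subgroup G) (x : G) :
    Nat.card ↥({y | ∃ n ∈ K, n * x * n⁻¹ = y} : Set G) *
      Nat.card ↥(K ⊓ centralizer ({x} : Set G) : Subgroup G) = Nat.card K := by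
  letI : MulAction ↥K G :=
    { smul := fun n y => n.1 * y * n.1⁻¹
      one_smul := fun y => show (1 : G) * y * (1 : G)⁻¹ = y by group
      mul_smul := fun a b y => show a.1 * b.1 * y * (a.1 * b.1)⁻¹ = a.1 * (b.1 * y * b.1⁻¹) * a.1⁻¹ by group }
  have e : MulAction.stabilizer ↥K x = (K ⊓ centralizer ({x} : Set G)).subgroupOf K := by
    ext n
    rw [MulAction.mem_stabilizer_iff, mem_subgroupOf, mem_inf, mem_centralizer_singleton_iff]
    show n.1 * x * n.1⁻¹ = x ↔ _
    rw [mul_inv_eq_iff_eq_mul]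
    exact ⟨fun hn => ⟨n.2, hn⟩, fun hn => hn.2⟩
  have horb : MulAction.orbit ↥K x = {y | ∃ n ∈ K, n * x * n⁻¹ = y} := by
    ext y
    exact ⟨fun ⟨n, hn⟩ => ⟨n.1, n.2, hn⟩, fun ⟨n, hn, e⟩ => ⟨⟨n, hn⟩, e⟩⟩
  have h1 := (MulAction.stabilizer ↥K x).card_mul_index
  rw [MulAction.index_stabilizer, horb, ← Nat.card_coe_set_eq, e,
    Nat.card_congr (subgroupOfEquivOfLe (inf_le_left : K ⊓ centralizer ({x} : Set G) ≤ K)).toEquiv] at h1
  rw [mul_comm]; exact h1

variable (h : Hyp G) (hab : AbS G)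
include h hab

theorem conj_set_eq (S : Sylow 3 G) {x : G} (hx : x ∈ (S : Subgroup G)) :
    ({y | y ∈ normalizer ((S : Subgroup G) : Set G) ∧ IsConj x y} : Set G) =
      {y | ∃ n ∈ normalizer ((S : Subgroup G) : Set G), n * x * n⁻¹ = y} := by
  ext y
  constructor
  · rintro ⟨hy, hc⟩
    obtain ⟨g, rfl⟩ := isConj_iff.1 hc
    have hS : g * x * g⁻¹ ∈ (S : Subgroup G) := mem_of_normalizer h S hy (by
      rw [conj_pow, cube h S hx, mul_one, mul_inv_cancel])
    obtain ⟨n, hn, e⟩ := conj_normalizer hab S (zpowers x) (zpowers_le.2 hx) g (by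
      intro d hd
      obtain ⟨k, rfl⟩ := mem_zpowers_iff.1 hd
      rw [← conj_zpow]; exact zpow_mem hS k)
    exact ⟨n, hn, e x (mem_zpowers x)⟩
  · rintro ⟨n, hn, rfl⟩
    exact ⟨le_normalizer ((mem_normalizer_iff.1 hn x).1 hx), isConj_iff.2 ⟨n, rfl⟩⟩

theorem fix_ab (S : Sylow 3 G) {x : G} (hx : x ∈ (S : Subgroup G)) :
    fixCard x * Nat.card ↥(normalizer ((S : Subgroup G) : Set G) ⊓ centralizer ({x} : Set G) : Subgroup G) =
      Nat.card ↥(centralizer ({x} : Set G)) := by
  have h1 := fixCard_mul h S (cube h S hx)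
  rw [conj_set_eq h hab S hx, ← card_normalizer h S,
    ← conj_card (normalizer ((S : Subgroup G) : Set G)) x] at h1
  have hpos : 0 < Nat.card ↥({y | ∃ n ∈ normalizer ((S : Subgroup G) : Set G), n * x * n⁻¹ = y} : Set G) := by
    haveI : Nonempty ↥({y | ∃ n ∈ normalizer ((S : Subgroup G) : Set G), n * x * n⁻¹ = y} : Set G) :=
      ⟨⟨x, 1, one_mem _, by group⟩⟩
    exact Nat.card_pos
  apply Nat.eq_of_mul_eq_mul_left hpos
  rw [mul_comm _ (Nat.card ↥(centralizer _)), ← h1]; ring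

theorem cN_dvd (S : Sylow 3 G) {x : G} (hx : x ∈ (S : Subgroup G)) :
    ∃ b : ℕ, b ∣ compOrder G ∧
      Nat.card ↥(normalizer ((S : Subgroup G) : Set G) ⊓ centralizer ({x} : Set G) : Subgroup G) = 27 * b := by
  have hS : (S : Subgroup G) ≤ normalizer ((S : Subgroup G) : Set G) ⊓ centralizer ({x} : Set G) :=
    le_inf le_normalizer fun s hs => mem_centralizer_singleton_iff.2 (hab S s hs x hx).eq
  obtain ⟨b, hb⟩ := card_dvd_of_le hS
  rw [card_S h S] at hb
  refine ⟨b, ?_, hb⟩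
  have := card_dvd_of_le (inf_le_left : normalizer ((S : Subgroup G) : Set G) ⊓ centralizer ({x} : Set G) ≤ _)
  rw [hb, card_normalizer h S] at this
  exact Nat.dvd_of_mul_dvd_mul_left (by norm_num) this

theorem fix_cases (S : Sylow 3 G) {x : G} (hx : x ∈ (S : Subgroup G)) (hx1 : x ≠ 1) :
    fixCard x = 1 ∨ fixCard x = 4 ∨ fixCard x = 16 ∨ fixCard x = 64 := by
  obtain ⟨b, -, hb⟩ := cN_dvd h hab S hx
  have h1 := fix_ab h hab S hx
  rw [hb] at h1
  have h2 : fixCard x ∣ 64 := by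
    have hd := card_centralizer_three h (cube h S hx) hx1
    rw [← h1] at hd
    have h3 : fixCard x * 27 ∣ 64 * 27 := (mul_dvd_mul_left _ (dvd_mul_right 27 b)).trans hd
    exact Nat.dvd_of_mul_dvd_mul_right (by norm_num) h3
  have key : ∀ d ∈ Nat.divisors 64, d % 3 = 1 → d = 1 ∨ d = 4 ∨ d = 16 ∨ d = 64 := by decide
  exact key _ (Nat.mem_divisors.2 ⟨h2, by norm_num⟩) (fixCard_mod h (cube h S hx))

theorem no_central (S : Sylow 3 G) {x : G} (hx : x ∈ (S : Subgroup G))
    (hfix : ∀ n ∈ normalizer ((S : Subgroup G) : Set G), n * x * n⁻¹ = x) : x = 1 := by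
  refine mem_bot.1 (no_central_quot h S ⊥ bot_le ?_ (fun a ha b hb => ?_) hx fun n hn => ?_)
  · intro g _; rw [normalizer_eq_top]; exact mem_top g
  · rw [mem_bot, mul_inv_eq_one, mul_inv_eq_iff_eq_mul]; exact (hab S a ha b hb).eq
  · rw [mem_bot, mul_inv_eq_one]; exact hfix n hn

theorem inverter_of_half (S : Sylow 3 G) {x : G} (hx : x ∈ (S : Subgroup G))
    (h2 : 2 * Nat.card ↥(normalizer ((S : Subgroup G) : Set G) ⊓ centralizer ({x} : Set G) : Subgroup G) =
      Nat.card ↥(normalizer ((S : Subgroup G) : Set G))) :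
    ∃ n ∈ normalizer ((S : Subgroup G) : Set G), n * x * n⁻¹ = x⁻¹ := by
  set N := normalizer ((S : Subgroup G) : Set G)
  set K := (N ⊓ centralizer ({x} : Set G)).subgroupOf N
  have hK : K.index = 2 := by
    have := K.card_mul_index
    rw [Nat.card_congr (subgroupOfEquivOfLe (inf_le_left : N ⊓ centralizer ({x} : Set G) ≤ N)).toEquiv, ← h2] at this
    have hp : 0 < Nat.card ↥(N ⊓ centralizer ({x} : Set G) : Subgroup G) := Nat.card_pos
    nlinarith
  obtain ⟨u, hu⟩ : ∃ u : N, u ∉ K := by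
    by_contra hc
    push Not at hc
    rw [show K = ⊤ from (eq_top_iff' K).2 hc, index_top] at hK
    norm_num at hK
  have hmem : ∀ k : N, k ∈ K → (k : G) * x * (k : G)⁻¹ = x := fun k hk =>
    mul_inv_eq_iff_eq_mul.2 (mem_centralizer_singleton_iff.1 (mem_subgroupOf.1 hk).2)
  set x' := (u : G) * x * (u : G)⁻¹
  have hx' : x' ∈ (S : Subgroup G) := (mem_normalizer_iff.1 u.2 x).1 hx
  have huu : (u : G) * x' * (u : G)⁻¹ = x := by
    have := hmem (u * u) ((mul_mem_iff_of_index_two hK).2 Iff.rfl)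
    rw [show x = (u : G) * (u : G) * x * ((u : G) * (u : G))⁻¹ from this.symm]
    simp only [x']; group
  have hKx : ∀ k : N, k ∈ K → (k : G) * x' * (k : G)⁻¹ = x' := by
    intro k hk
    have hk' : u⁻¹ * k * u ∈ K := by
      haveI := normal_of_index_eq_two hK
      simpa using (inferInstance : K.Normal).conj_mem k hk u⁻¹
    have := hmem _ hk'
    simp only [Subgroup.coe_mul, Subgroup.coe_inv] at this
    calc (k : G) * x' * (k : G)⁻¹ = (u : G) * (((u : G)⁻¹ * k * u) * x * ((u : G)⁻¹ * k * u)⁻¹) * (u : G)⁻¹ := by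
          simp only [x']; group
      _ = x' := by rw [this]
  have hp : x * x' = 1 := by
    refine no_central h hab S (mul_mem hx hx') fun n hn => ?_
    by_cases hnK : (⟨n, hn⟩ : N) ∈ K
    · rw [show n * (x * x') * n⁻¹ = (n * x * n⁻¹) * (n * x' * n⁻¹) by group, hmem _ hnK, hKx _ hnK]
    · have hk : (⟨n, hn⟩ : N) * u⁻¹ ∈ K := (mul_mem_iff_of_index_two hK).2 (by simp [hnK, hu])
      have e1 := hmem _ hk
      have e2 := hKx _ hk
      simp only [Subgroup.coe_mul, Subgroup.coe_inv] at e1 e2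
      calc n * (x * x') * n⁻¹
          = (n * (u : G)⁻¹) * (((u : G) * x * (u : G)⁻¹) * ((u : G) * x' * (u : G)⁻¹)) * (n * (u : G)⁻¹)⁻¹ := by group
        _ = ((n * (u : G)⁻¹) * x' * (n * (u : G)⁻¹)⁻¹) * ((n * (u : G)⁻¹) * x * (n * (u : G)⁻¹)⁻¹) := by
            rw [huu, show (u : G) * x * (u : G)⁻¹ = x' from rfl]; group
        _ = x * x' := by rw [e1, e2]; exact (hab S _ hx' _ hx).eq
  exact ⟨u, u.2, eq_inv_of_mul_eq_one_right hp⟩

omit h hab in
theorem card_normalizer_real {x g : G} (hx : x ^ 3 = 1) (hx1 : x ≠ 1) (hg : g * x * g⁻¹ = x⁻¹) :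
    Nat.card ↥(normalizer ((zpowers x : Subgroup G) : Set G)) = 2 * Nat.card ↥(centralizer ({x} : Set G)) := by
  set M := normalizer ((zpowers x : Subgroup G) : Set G)
  have hne : x⁻¹ ≠ x := by
    intro e
    apply hx1
    have h2 : x * x = 1 := by rw [← inv_eq_iff_mul_eq_one]; exact e
    calc x = x ^ 3 * (x * x)⁻¹ := by group
      _ = 1 := by rw [hx, h2, one_mul, inv_one]
  have hconj : ∀ m ∈ M, m * x * m⁻¹ = x ∨ m * x * m⁻¹ = x⁻¹ := by
    intro m hm
    obtain ⟨k, hk⟩ := mem_zpowers_iff.1 ((mem_normalizer_iff.1 hm x).1 (mem_zpowers x))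
    have e : x ^ k = x ^ (k % 3) := by
      conv_lhs => rw [← Int.emod_add_mul_ediv k 3]
      rw [zpow_add, zpow_mul, show x ^ (3 : ℤ) = 1 from by exact_mod_cast hx, one_zpow, mul_one]
    have h0 : 0 ≤ k % 3 := Int.emod_nonneg k (by norm_num)
    have h3 : k % 3 < 3 := Int.emod_lt_of_pos k (by norm_num)
    rw [← hk, e]
    interval_cases hk3 : k % 3
    · exfalso
      rw [e, zpow_zero] at hk
      exact hx1 (by have := mul_inv_eq_one.1 hk.symm; exact mul_eq_left.1 this)
    · exact Or.inl (zpow_one x)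
    · refine Or.inr (eq_inv_of_mul_eq_one_left ?_)
      rw [show x ^ (2 : ℤ) * x = x ^ 3 by group]; exact hx
  have hgM : g ∈ M := by
    refine mem_normalizer_fintype' fun y hy => ?_
    obtain ⟨k, rfl⟩ := mem_zpowers_iff.1 hy
    rw [← conj_zpow, hg, inv_zpow]
    exact inv_mem (zpow_mem (mem_zpowers x) k)
  have hle := centralizer_le_normalizer_zpowers x
  have hmem : ∀ m : G, m ∈ centralizer ({x} : Set G) ↔ m * x * m⁻¹ = x := fun m => by
    rw [mem_centralizer_singleton_iff, mul_inv_eq_iff_eq_mul]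
  have hidx : ((centralizer ({x} : Set G)).subgroupOf M).index = 2 := by
    rw [index_eq_two_iff]
    refine ⟨⟨g, hgM⟩, fun b => ?_⟩
    rw [mem_subgroupOf, mem_subgroupOf, hmem, hmem]
    show Xor' ((b : G) * g * x * ((b : G) * g)⁻¹ = x) _
    rw [show (b : G) * g * x * ((b : G) * g)⁻¹ = (b : G) * (g * x * g⁻¹) * (b : G)⁻¹ by group, hg,
      show (b : G) * x⁻¹ * (b : G)⁻¹ = ((b : G) * x * (b : G)⁻¹)⁻¹ by group]
    rcases hconj b b.2 with e | e <;> rw [e]
    · exact Or.inr ⟨rfl, fun e' => hne e'⟩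
    · exact Or.inl ⟨inv_inv x, fun e' => hne e'⟩
  have := ((centralizer ({x} : Set G)).subgroupOf M).card_mul_index
  rw [hidx, Nat.card_congr (subgroupOfEquivOfLe hle).toEquiv] at this
  omega
where
  mem_normalizer_fintype' {M : Subgroup G} {g : G} (hc : ∀ y ∈ M, g * y * g⁻¹ ∈ M) :
      g ∈ normalizer (M : Set G) := mem_normalizer_of_forall hc
  mem_normalizer_of_forall {M : Subgroup G} {g : G} (hc : ∀ y ∈ M, g * y * g⁻¹ ∈ M) :
      g ∈ normalizer (M : Set G) := by
    have e : M.map (MulAut.conj g).toMonoidHom = M := eq_of_le_of_card_ge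
      (by rintro _ ⟨y, hy, rfl⟩; exact hc y hy)
      (by rw [card_map_of_injective (MulAut.conj g).injective])
    rw [mem_normalizer_iff]
    refine fun y => ⟨hc y, fun hy => ?_⟩
    obtain ⟨z, hz, ez⟩ : g * y * g⁻¹ ∈ M.map (MulAut.conj g).toMonoidHom := e.symm ▸ hy
    exact (MulAut.conj g).injective ez ▸ hz

/-- No plane normalised by the normaliser lies in two Sylow subgroups. -/
theorem no_invariant_plane (S : Sylow 3 G) (D : Subgroup G) (hD : Nat.card D = 9)
    (hDS : D ≤ (S : Subgroup G))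
    (hinv : normalizer ((S : Subgroup G) : Set G) ≤ normalizer (D : Set G))
    (h112 : compOrder G = 4) (Q : Sylow 3 G) (hQ : Q ≠ S) (hDQ : D ≤ (Q : Subgroup G)) : False := by
  haveI : Fact (Nat.Prime 3) := ⟨Nat.prime_three⟩
  have hab' : ∀ (R : Sylow 3 G), D ≤ (R : Subgroup G) → (R : Subgroup G) ≤ centralizer (D : Set G) :=
    fun R hR r hr => mem_centralizer_iff.2 fun d hd => (hab R d (hR hd) r hr).eq
  set H := normalizer (D : Set G) with hHdef
  have hSH : (S : Subgroup G) ≤ H := (hab' S hDS).trans (centralizer_le_normalizer _)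
  have hQH : (Q : Subgroup G) ≤ H := (hab' Q hDQ).trans (centralizer_le_normalizer _)
  obtain ⟨c, hc3, hc, hc1⟩ := card_over h S hSH
  have hc1' : c ≠ 1 := fun e => hQ (hc1 e Q hQH)
  rw [inf_eq_left.2 hinv, card_normalizer h S, h112] at hc
  have hc4 : c = 4 := by
    have hd : c ∣ 112 := by
      have := h.card ▸ card_subgroup_dvd_card H
      rw [hc] at this
      exact Nat.dvd_of_mul_dvd_mul_right (by norm_num) (show c * 108 ∣ 112 * 108 by norm_num at this ⊢; exact this)
    have h7 : ¬ 7 ∣ c := fun h7 => not_seven_normalizer h D (S.2.to_le hDS) (by rw [hD]; norm_num)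
      (hc ▸ dvd_mul_of_dvd_left h7 _)
    have key : ∀ d ∈ Nat.divisors 112, ¬ 7 ∣ d → d % 3 = 1 → d = 1 ∨ d = 4 ∨ d = 16 := by decide +kernel
    rcases key c (Nat.mem_divisors.2 ⟨hd, by norm_num⟩) h7 hc3 with e | e | e
    · exact absurd e hc1'
    · exact e
    · exact absurd (no_two_adic h (dvd_of_eq (show 1728 = Nat.card H by rw [hc, e]))) (normal_nine h D hD)
  have hH : Nat.card H = 432 := by rw [hc, hc4]
  have hi : H.index = 28 := by
    have := H.card_mul_index
    rw [hH, h.card] at this; omega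
  -- conjugates of elements of D in H lie in D
  have hSyl : ∀ y ∈ H, y ^ 3 = 1 → ∃ k ∈ H, k⁻¹ * y * k ∈ (S : Subgroup G) := by
    intro y hy h3
    have hP : IsPGroup 3 ↥(zpowers (⟨y, hy⟩ : H)) := by
      rintro ⟨w, hw⟩
      obtain ⟨j, rfl⟩ := mem_zpowers_iff.1 hw
      refine ⟨1, Subtype.ext ?_⟩
      show ((⟨y, hy⟩ : H) ^ j) ^ (3 ^ 1) = 1
      rw [pow_one, ← zpow_natCast, ← zpow_mul, mul_comm, zpow_mul, zpow_natCast,
        show (⟨y, hy⟩ : H) ^ 3 = 1 from Subtype.ext h3, one_zpow]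
    obtain ⟨R, hR⟩ := hP.exists_le_sylow
    obtain ⟨k, hk⟩ := MulAction.exists_smul_eq ↥H (S.subtype hSH) R
    have hy' : (⟨y, hy⟩ : H) ∈ ((k • S.subtype hSH : Sylow 3 ↥H) : Subgroup ↥H) := hk ▸ hR (mem_zpowers _)
    rw [conj_mem_sylow] at hy'
    exact ⟨k.1, k.2, hy'⟩
  have hfree : ∀ d ∈ D, d ≠ 1 → ∀ p : G ⧸ H, d • p = p → p = ((1 : G) : G ⧸ H) := by
    -- the numbers of fixed points
    have hval : ∀ d ∈ D, d ≠ 1 → ∃ f o : ℕ,
        Nat.card ↥(MulAction.fixedBy (G ⧸ H) d) = f ∧ (f = 1 ∨ (f = 4 ∧ o = 4)) ∧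
        Nat.card ↥({y | ∃ n ∈ normalizer ((S : Subgroup G) : Set G), n * d * n⁻¹ = y} : Set G) = o := by
      intro d hd hd1
      have hd3 := cube h S (hDS hd)
      have h1 := fix_count (Ω := G ⧸ H) ((1 : G) : G ⧸ H) d
      rw [MulAction.stabilizer_quotient, hH] at h1
      have hset : ({y | y ∈ H ∧ IsConj d y} : Set G) =
          {y | ∃ n ∈ normalizer ((S : Subgroup G) : Set G), n * d * n⁻¹ = y} := by
        ext y
        constructor
        · rintro ⟨hy, hcj⟩
          obtain ⟨g, rfl⟩ := isConj_iff.1 hcj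
          obtain ⟨k, hk, hkS⟩ := hSyl _ hy (by rw [conj_pow, hd3, mul_one, mul_inv_cancel])
          obtain ⟨n, hn, e⟩ := conj_normalizer hab S (zpowers d) (zpowers_le.2 (hDS hd)) (k⁻¹ * g) (by
            intro w hw
            obtain ⟨j, rfl⟩ := mem_zpowers_iff.1 hw
            rw [← conj_zpow]
            refine zpow_mem ?_ j
            rwa [show k⁻¹ * g * d * (k⁻¹ * g)⁻¹ = k⁻¹ * (g * d * g⁻¹) * k by group])
          have e' := e d (mem_zpowers d)
          have hnd : n * d * n⁻¹ ∈ D := (mem_normalizer_iff.1 (hinv hn) d).1 hd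
          have hgd : g * d * g⁻¹ ∈ D := by
            have h2 := (mem_normalizer_iff.1 hk _).1 hnd
            rwa [e', show k * (k⁻¹ * g * d * (k⁻¹ * g)⁻¹) * k⁻¹ = g * d * g⁻¹ by group] at h2
          exact (conj_set_eq h hab S (hDS hd)).le ⟨le_normalizer (hDS hgd), isConj_iff.2 ⟨g, rfl⟩⟩
        · rintro ⟨n, hn, rfl⟩
          exact ⟨(le_normalizer : D ≤ H) ((mem_normalizer_iff.1 (hinv hn) d).1 hd), isConj_iff.2 ⟨n, rfl⟩⟩
      rw [hset] at h1
      set o := Nat.card ↥({y | ∃ n ∈ normalizer ((S : Subgroup G) : Set G), n * d * n⁻¹ = y} : Set G) with ho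
      set f := Nat.card ↥(MulAction.fixedBy (G ⧸ H) d) with hf
      refine ⟨f, o, rfl, ?_, rfl⟩
      obtain ⟨b, hb4, hb⟩ := cN_dvd h hab S (hDS hd)
      have hob := conj_card (normalizer ((S : Subgroup G) : Set G)) d
      rw [hb, card_normalizer h S, h112, ← ho] at hob
      have hob' : o * b = 4 := by linarith
      have hC := fix_ab h hab S (hDS hd)
      rw [hb] at hC
      rw [← hC] at h1
      -- h1 : f * 432 = fixCard d * (27 * b) * o
      have h1' : f * 4 = fixCard d := by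
        have : f * 432 = fixCard d * 108 := by
          rw [h1, show fixCard d * (27 * b) * o = fixCard d * 27 * (o * b) by ring, hob']; ring
        omega
      have ho1 : o ≠ 1 := by
        intro e1
        refine hd1 (no_central h hab S (hDS hd) fun n hn => ?_)
        obtain ⟨hsub, -⟩ := Nat.card_eq_one_iff_unique.1 (ho ▸ e1 :
          Nat.card ↥({y | ∃ n ∈ normalizer ((S : Subgroup G) : Set G), n * d * n⁻¹ = y} : Set G) = 1)
        exact congrArg Subtype.val (@Subsingleton.elim _ hsub ⟨n * d * n⁻¹, n, hn, rfl⟩ ⟨d, 1, one_mem _, by group⟩)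
      have hb0 : b = 1 ∧ o = 4 ∨ b = 2 ∧ o = 2 := by
        have : o ≤ 4 := Nat.le_of_dvd (by norm_num) ⟨b, hob'.symm⟩
        interval_cases o <;> omega
      rcases fix_cases h hab S (hDS hd) hd1 with e | e | e | e
      · omega
      · exact Or.inl (by omega)
      · rcases hb0 with ⟨rfl, ho4⟩ | ⟨rfl, -⟩
        · exact Or.inr ⟨by omega, ho4⟩
        · exfalso
          obtain ⟨n, hn, en⟩ := inverter_of_half h hab S (hDS hd) (by rw [hb, card_normalizer h S, h112])
          have hM := card_normalizer_real hd3 hd1 en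
          rw [← hC, e] at hM
          have htop := no_two_adic h (show 1728 ∣ Nat.card ↥(normalizer ((zpowers d : Subgroup G) : Set G)) by
            rw [hM])
          have hz : Nat.card ↥(zpowers d) = 3 := by
            rw [Nat.card_zpowers]; haveI := Fact.mk Nat.prime_three; exact orderOf_eq_prime hd3 hd1
          haveI : (zpowers d).Normal := normalizer_eq_top_iff.1 htop
          rcases normal_card_cases h (zpowers d) (fun e' => hd1 (zpowers_eq_bot.1 e')) with e' | e' <;> omega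
      · exfalso
        rcases hb0 with ⟨rfl, -⟩ | ⟨rfl, -⟩
        · exact not_full_centralizer h hd3 hd1 (hC ▸ by rw [e])
        · have := card_centralizer_three h hd3 hd1
          rw [← hC, e] at this; norm_num at this
    classical
    obtain ⟨s, hs, hdvd⟩ := burnside_dvd D (G ⧸ H)
    haveI := Fintype.ofFinite ↥D
    have hs' : s = Finset.univ := Finset.eq_univ_iff_forall.2 hs
    rw [hD, hs', ← Finset.add_sum_erase _ _ (Finset.mem_univ (1 : ↥D))] at hdvd
    have h1 : Nat.card ↥(MulAction.fixedBy (G ⧸ H) ((1 : ↥D) : G)) = 28 := by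
      rw [Subgroup.coe_one, MulAction.fixedBy_one_eq_univ, Nat.card_congr (Equiv.Set.univ _), ← index_eq_card, hi]
    set E := Finset.univ.erase (1 : ↥D)
    have hE : E.card = 8 := by
      rw [Finset.card_erase_of_mem (Finset.mem_univ _), Finset.card_univ, ← Nat.card_eq_fintype_card, hD]
    set B := E.filter fun d => Nat.card ↥(MulAction.fixedBy (G ⧸ H) ((d : ↥D) : G)) = 4
    have hsum : ∑ d ∈ E, Nat.card ↥(MulAction.fixedBy (G ⧸ H) ((d : ↥D) : G)) = 8 + 3 * B.card := by
      have : ∀ d ∈ E, Nat.card ↥(MulAction.fixedBy (G ⧸ H) ((d : ↥D) : G)) =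
          1 + if Nat.card ↥(MulAction.fixedBy (G ⧸ H) ((d : ↥D) : G)) = 4 then 3 else 0 := by
        intro d hd
        obtain ⟨f, o, hf, hcase, -⟩ := hval d.1 d.2 (fun e => (Finset.mem_erase.1 hd).1 (Subtype.ext e))
        rw [hf]
        rcases hcase with rfl | ⟨rfl, -⟩ <;> norm_num
      rw [Finset.sum_congr rfl this, Finset.sum_add_distrib, Finset.sum_const, hE, ← Finset.sum_filter,
        Finset.sum_const, smul_eq_mul, smul_eq_mul]
      ring
    rw [h1, hsum] at hdvd
    -- classes of size four inside B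
    let cls : ↥D → Finset ↥D := fun d => E.filter fun e =>
      ∃ n ∈ normalizer ((S : Subgroup G) : Set G), n * (d : G) * n⁻¹ = (e : G)
    have hcls : ∀ d ∈ B, (cls d).card = 4 ∧ cls d ⊆ B := by
      intro d hdB
      obtain ⟨hdE, hd4⟩ := Finset.mem_filter.1 hdB
      have hd1 : (d : G) ≠ 1 := fun e => (Finset.mem_erase.1 hdE).1 (Subtype.ext e)
      obtain ⟨f, o, hf, hcase, ho⟩ := hval d.1 d.2 hd1
      constructor
      · rcases hcase with rfl | ⟨-, rfl⟩
        · omega
        rw [← ho, ← Nat.card_eq_finsetCard]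
        exact Nat.card_congr
          { toFun := fun e => ⟨e.1.1, (Finset.mem_filter.1 e.2).2⟩
            invFun := fun y => ⟨⟨y.1, by
                obtain ⟨n, hn, hy⟩ := y.2
                rw [← hy]; exact (mem_normalizer_iff.1 (hinv hn) _).1 d.2⟩,
              Finset.mem_filter.2 ⟨Finset.mem_erase.2 ⟨fun e => by
                obtain ⟨n, hn, hy⟩ := y.2
                have : y.1 = 1 := congrArg Subtype.val e
                rw [this, mul_inv_eq_one, mul_eq_left] at hy
                exact hd1 hy, Finset.mem_univ _⟩, y.2⟩⟩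
            left_inv := fun e => rfl
            right_inv := fun y => rfl }
      · intro e he
        obtain ⟨heE, n, hn, hne⟩ := Finset.mem_filter.1 he
        refine Finset.mem_filter.2 ⟨heE, ?_⟩
        rw [← hd4, ← hne]
        have h1' : ∀ p : G ⧸ H, (d : G) • p = p → (n * (d : G) * n⁻¹) • n • p = n • p := fun p hp => by
          rw [← mul_smul, inv_mul_cancel_right, mul_smul, hp]
        have h2' : ∀ p : G ⧸ H, (n * (d : G) * n⁻¹) • p = p → (d : G) • n⁻¹ • p = n⁻¹ • p := fun p hp => by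
          rw [eq_inv_smul_iff, ← mul_smul, ← mul_smul]; exact hp
        exact Nat.card_congr
          { toFun := fun p => ⟨n⁻¹ • p.1, h2' p.1 p.2⟩
            invFun := fun p => ⟨n • p.1, h1' p.1 p.2⟩
            left_inv := fun p => Subtype.ext (smul_inv_smul n p.1)
            right_inv := fun p => Subtype.ext (inv_smul_smul n p.1) }
    have hB0 : B.card = 0 := by
      have hle : B.card ≤ 8 := hE ▸ Finset.card_filter_le _ _
      rcases B.eq_empty_or_nonempty with e | ⟨d, hd⟩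
      · rw [e, Finset.card_empty]
      · obtain ⟨h4, hsub⟩ := hcls d hd
        have hd4 : 4 ≤ B.card := h4 ▸ Finset.card_le_card hsub
        by_cases hex : ∃ e ∈ B, e ∉ cls d
        · obtain ⟨e, he, hne⟩ := hex
          obtain ⟨h4', hsub'⟩ := hcls e he
          have hdis : Disjoint (cls d) (cls e) := by
            rw [Finset.disjoint_left]
            intro w hw hw'
            obtain ⟨-, n, hn, e1⟩ := Finset.mem_filter.1 hw
            obtain ⟨-, m, hm, e2⟩ := Finset.mem_filter.1 hw'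
            refine hne (Finset.mem_filter.2 ⟨(Finset.mem_filter.1 he).1, m⁻¹ * n, mul_mem (inv_mem hm) hn, ?_⟩)
            calc m⁻¹ * n * (d : G) * (m⁻¹ * n)⁻¹ = m⁻¹ * (n * (d : G) * n⁻¹) * m := by group
              _ = (e : G) := by rw [e1, ← e2]; group
          have := Finset.card_le_card (Finset.union_subset hsub hsub')
          rw [Finset.card_union_of_disjoint hdis, h4, h4'] at this
          omega
        · push Not at hex
          have : B.card ≤ 4 := h4 ▸ Finset.card_le_card hex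
          omega
    intro d hd hd1 p hp
    obtain ⟨f, o, hf, hcase, -⟩ := hval d hd hd1
    rcases hcase with rfl | ⟨rfl, -⟩
    · have hmem : ((1 : G) : G ⧸ H) ∈ MulAction.fixedBy (G ⧸ H) d := by
        show ((d * 1 : G) : G ⧸ H) = ((1 : G) : G ⧸ H)
        rw [QuotientGroup.eq, mul_one, mul_one]; exact inv_mem ((le_normalizer : D ≤ H) hd)
      haveI := (Nat.card_eq_one_iff_unique.1 hf).1
      exact congrArg Subtype.val (Subsingleton.elim (⟨p, hp⟩ : ↥(MulAction.fixedBy (G ⧸ H) d)) ⟨_, hmem⟩)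
    · exact absurd (Finset.mem_filter.2 ⟨Finset.mem_erase.2 ⟨fun e => hd1 (congrArg Subtype.val e),
        Finset.mem_univ (⟨d, hd⟩ : ↥D)⟩, hf⟩) (Finset.card_eq_zero.1 hB0 ▸ Finset.notMem_empty _)
  obtain ⟨π, -, -, hker, -⟩ := orbit_hom h H D hi hD le_normalizer le_rfl hfree
  set C := centralizer (D : Set G)
  have hCH : C ≤ H := centralizer_le_normalizer _
  obtain ⟨c', hc'3, hc', hc'1⟩ := card_over h S (hab' S hDS)
  have h4C : 4 ∣ Nat.card C := by
    have hdv : Nat.card C ∣ 432 := hH ▸ card_dvd_of_le hCH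
    have hne : c' ≠ 1 := fun e => hQ (hc'1 e Q (hab' Q hDQ))
    have h27 : 27 ∣ Nat.card ↥(normalizer ((S : Subgroup G) : Set G) ⊓ C : Subgroup G) :=
      card_S h S ▸ card_dvd_of_le (le_inf le_normalizer (hab' S hDS))
    obtain ⟨m, hm⟩ := h27
    rw [hm, mul_comm 27 m, ← mul_assoc] at hc'
    rw [hc'] at hdv
    have h16 : c' * m ∣ 16 := Nat.dvd_of_mul_dvd_mul_right (by norm_num) (show c' * m * 27 ∣ 16 * 27 by norm_num; exact hdv)
    have key : ∀ d ∈ Nat.divisors 16, d % 3 = 1 → d ≠ 1 → 4 ∣ d := by decide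
    rw [hc']
    exact dvd_mul_of_dvd_left (dvd_mul_of_dvd_left
      (key c' (Nat.mem_divisors.2 ⟨(dvd_mul_right c' m).trans h16, by norm_num⟩) hc'3 hne) m) 27
  let φ : ↥C →* Equiv.Perm (Fin 3) := π.comp (Subgroup.inclusion hCH)
  have hk2 : ¬ 2 ∣ Nat.card φ.ker := by
    intro h2
    haveI : Fact (Nat.Prime 2) := ⟨Nat.prime_two⟩
    obtain ⟨k, hk⟩ := exists_prime_orderOf_dvd_card' (G := φ.ker) 2 h2
    have h3 : ((k : ↥C) : G) ^ 3 = 1 := kernel_cube h H D hi (S.2.to_le hDS)
      (fun d hd => (mem_centralizer_iff.1 (k : ↥C).2 d hd).symm) (hker _ k.2)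
    have h3' : k ^ 3 = 1 := Subtype.ext (Subtype.ext h3)
    have := orderOf_dvd_of_pow_eq_one h3'
    rw [hk] at this
    norm_num at this
  have hrange := card_subgroup_dvd_card φ.range
  rw [Nat.card_perm, Nat.card_fin] at hrange
  have hmul := φ.ker.card_mul_index
  rw [Subgroup.index_ker] at hmul
  have h4r : 4 ∣ Nat.card φ.range :=
    Nat.Coprime.dvd_of_dvd_mul_left (show Nat.Coprime (2 ^ 2) _ from Nat.Coprime.pow_left 2
      ((Nat.Prime.coprime_iff_not_dvd Nat.prime_two).2 hk2)) (hmul.symm ▸ h4C : 2 ^ 2 ∣ Nat.card φ.ker * Nat.card φ.range)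
  exact absurd (h4r.trans hrange) (by decide)

end CfsgLib.Recog.G2TwoSpec
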