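import Cfsg.Agent.Lib.Recog.G2TwoSpec.Abelian

/-!
# There are not 112 abelian Sylow 3-subgroups
-/

set_option autoImplicit false
set_option linter.unusedSectionVars false
set_option linter.style.haveILetI false

open Subgroup
open scoped Pointwise

namespace CfsgLib.Recog.G2TwoSpec

variable {G : Type*} [Group G] [Finite G]

theorem sylow_smul_fixed_set (h : Hyp G) (A : Subgroup G) (hA : IsPGroup 3 A) :
    Nat.card {Q : Sylow 3 G // A ≤ (Q : Subgroup G)} % 3 = 1 := by
  haveI : Fact (Nat.Prime 3) := ⟨Nat.prime_three⟩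
  have hmod := hA.card_modEq_card_fixedPoints (Sylow 3 G)
  have e : Nat.card {Q : Sylow 3 G // A ≤ (Q : Subgroup G)} = Nat.card ↥(MulAction.fixedPoints ↥A (Sylow 3 G)) := by
    refine Nat.card_congr (Equiv.subtypeEquivRight fun Q => ⟨fun hQ a => ?_, fun hQ a ha => ?_⟩)
    · exact (fixed_iff h Q (three_elem h hA a.2)).2 (hQ a.2)
    · exact (fixed_iff h Q (three_elem h hA ha)).1 (hQ ⟨a, ha⟩)
  rw [e]
  exact hmod.symm.trans (card_sylow_modEq_one 3 G)

theorem sup_eq_of_nine (h : Hyp G) (S : Sylow 3 G) {D E : Subgroup G} (hD : Nat.card D = 9)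
    (hE : Nat.card E = 9) (hDS : D ≤ (S : Subgroup G)) (hES : E ≤ (S : Subgroup G)) (hne : E ≠ D) :
    D ⊔ E = (S : Subgroup G) := by
  refine eq_of_le_of_card_ge (sup_le hDS hES) ?_
  have h1 := card_three_group h (S.2.to_le (sup_le hDS hES))
  have h2 : 9 ≤ Nat.card ↥(D ⊔ E) := hD ▸ Nat.le_of_dvd Nat.card_pos (card_dvd_of_le le_sup_left)
  have h3 : Nat.card ↥(D ⊔ E) ≠ 9 := by
    intro e
    refine hne (eq_of_le_of_card_ge (le_sup_right.trans
      (eq_of_le_of_card_ge (le_sup_left : D ≤ D ⊔ E) (by rw [e, hD])).symm.le) (by rw [hD, hE]))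
  rw [card_S h S]
  simp only [List.mem_cons, List.not_mem_nil, or_false] at h1
  omega

theorem inf_of_nine (h : Hyp G) (S : Sylow 3 G) {D E : Subgroup G} (hD : Nat.card D = 9)
    (hE : Nat.card E = 9) (hDS : D ≤ (S : Subgroup G)) (hES : E ≤ (S : Subgroup G)) :
    ∃ x ∈ D, x ∈ E ∧ x ≠ 1 := by
  by_contra hc
  push Not at hc
  have hbot : D ⊓ E = ⊥ := by
    refine eq_bot_iff.2 fun x hx => ?_
    by_contra hne
    exact hne (mem_bot.2 (hc x hx.1 hx.2))
  let f : ↥D × ↥E → ↥(S : Subgroup G) := fun p => ⟨p.1.1 * p.2.1, mul_mem (hDS p.1.2) (hES p.2.2)⟩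
  have hf : Function.Injective f := by
    rintro ⟨⟨a, ha⟩, ⟨b, hb⟩⟩ ⟨⟨a', ha'⟩, ⟨b', hb'⟩⟩ e
    have e' : a * b = a' * b' := congrArg Subtype.val e
    have e2 : a'⁻¹ * a = b' * b⁻¹ := by
      rw [eq_mul_inv_iff_mul_eq, mul_assoc, e', inv_mul_cancel_left]
    have hm : a'⁻¹ * a ∈ D ⊓ E := Subgroup.mem_inf.2 ⟨D.mul_mem (D.inv_mem ha') ha, e2 ▸ E.mul_mem hb' (E.inv_mem hb)⟩
    rw [hbot, mem_bot] at hm
    have h1 : a = a' := (inv_mul_eq_one.1 hm).symm
    subst h1
    have h2 : b = b' := mul_left_cancel e'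
    subst h2
    rfl
  have := Nat.card_le_card_of_injective f hf
  rw [Nat.card_prod, hD, hE, card_S h S] at this
  omega

theorem comp_112 (h112 : Nat.card (Sylow 3 G) = 112) : compOrder G = 4 := by
  rw [compOrder, h112]

variable (h : Hyp G) (hab : AbS G)
include h hab

theorem orbit_four (S : Sylow 3 G) (h112 : compOrder G = 4) {x : G} (hx : x ∈ (S : Subgroup G)) (hx1 : x ≠ 1) :
    ∃ b, Nat.card ↥(normalizer ((S : Subgroup G) : Set G) ⊓ centralizer ({x} : Set G) : Subgroup G) = 27 * b ∧
      (b = 1 ∨ b = 2) := by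
  obtain ⟨b, hb4, hb⟩ := cN_dvd h hab S hx
  refine ⟨b, hb, ?_⟩
  rw [h112] at hb4
  have hle : b ≤ 4 := Nat.le_of_dvd (by norm_num) hb4
  interval_cases b
  · norm_num at hb4
  · exact Or.inl rfl
  · exact Or.inr rfl
  · norm_num at hb4
  · exfalso
    refine hx1 (no_central h hab S hx fun n hn => ?_)
    have hle' : normalizer ((S : Subgroup G) : Set G) ≤ centralizer ({x} : Set G) := by
      have e : normalizer ((S : Subgroup G) : Set G) ⊓ centralizer ({x} : Set G) = normalizer ((S : Subgroup G) : Set G) :=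
        eq_of_le_of_card_ge inf_le_left (by rw [hb, card_normalizer h S, h112])
      exact e.symm.le.trans inf_le_right
    exact mul_inv_eq_iff_eq_mul.2 (mem_centralizer_singleton_iff.1 (hle' hn))

theorem no_half_fix (S : Sylow 3 G) (h112 : compOrder G = 4) {x : G} (hx : x ∈ (S : Subgroup G)) (hx1 : x ≠ 1)
    (hb : Nat.card ↥(normalizer ((S : Subgroup G) : Set G) ⊓ centralizer ({x} : Set G) : Subgroup G) = 54) :
    fixCard x = 1 := by
  haveI : Fact (Nat.Prime 3) := ⟨Nat.prime_three⟩
  set N := normalizer ((S : Subgroup G) : Set G)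
  have hx3 := cube h S hx
  have hN : Nat.card N = 108 := by rw [card_normalizer h S, h112]
  obtain ⟨n, hn, en⟩ := inverter_of_half h hab S hx (by rw [hb, hN])
  have hC := fix_ab h hab S hx
  rw [hb] at hC
  have hM := card_normalizer_real hx3 hx1 en
  rw [← hC] at hM
  set H := normalizer ((zpowers x : Subgroup G) : Set G)
  have hxZ : Nat.card ↥(zpowers x) = 3 := by rw [Nat.card_zpowers]; exact orderOf_eq_prime hx3 hx1
  have htop : ¬ 1728 ∣ Nat.card H := by
    intro hd
    haveI : (zpowers x).Normal := normalizer_eq_top_iff.1 (no_two_adic h hd)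
    rcases normal_card_cases h (zpowers x) (fun e' => hx1 (zpowers_eq_bot.1 e')) with e' | e' <;> omega
  rcases fix_cases h hab S hx hx1 with e | e | e | e
  · exact e
  · exfalso
    rw [e] at hM
    have hCS : ∀ R : Sylow 3 G, x ∈ (R : Subgroup G) → (R : Subgroup G) ≤ centralizer ({x} : Set G) :=
      fun R hR r hr => mem_centralizer_singleton_iff.2 (hab R r hr x hR).eq
    have hSH : (S : Subgroup G) ≤ H := (hCS S hx).trans (centralizer_le_normalizer_zpowers x)
    have hNH : N ≤ H := by
      intro m hm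
      by_cases hmc : m ∈ centralizer ({x} : Set G)
      · exact centralizer_le_normalizer_zpowers x hmc
      · set K := (N ⊓ centralizer ({x} : Set G)).subgroupOf N
        have hK : K.index = 2 := by
          have := K.card_mul_index
          rw [Nat.card_congr (subgroupOfEquivOfLe (inf_le_left : N ⊓ centralizer ({x} : Set G) ≤ N)).toEquiv, hb, hN] at this
          omega
        have hnK : (⟨n, hn⟩ : N) ∉ K := by
          intro hmem
          have := mul_inv_eq_iff_eq_mul.2 (mem_centralizer_singleton_iff.1 (mem_subgroupOf.1 hmem).2)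
          rw [en] at this
          apply hx1
          have h2 : x * x = 1 := by rw [← inv_eq_iff_mul_eq_one]; exact this
          calc x = x ^ 3 * (x * x)⁻¹ := by group
            _ = 1 := by rw [hx3, h2, one_mul, inv_one]
        have hk : (⟨m, hm⟩ : N) * (⟨n, hn⟩ : N)⁻¹ ∈ K := (mul_mem_iff_of_index_two hK).2
          ⟨fun hmem => absurd (mem_subgroupOf.1 hmem).2 hmc, fun hmem => absurd (by simpa using hmem) hnK⟩
        have h1 : m * n⁻¹ ∈ centralizer ({x} : Set G) := (mem_subgroupOf.1 hk).2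
        have hnH : n ∈ H := card_normalizer_real.mem_normalizer_of_forall fun y hy => by
          obtain ⟨j, rfl⟩ := mem_zpowers_iff.1 hy
          rw [← conj_zpow, en, inv_zpow]
          exact inv_mem (zpow_mem (mem_zpowers x) j)
        simpa using mul_mem (centralizer_le_normalizer_zpowers x h1) hnH
    obtain ⟨c, -, hc, hc1⟩ := card_over h S hSH
    rw [inf_eq_left.2 hNH, hN, hM] at hc
    have hc4 : c = 4 := by omega
    obtain ⟨Q, hQx, hQ⟩ : ∃ Q : Sylow 3 G, x ∈ (Q : Subgroup G) ∧ Q ≠ S := by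
      by_contra hc'
      push Not at hc'
      haveI : Subsingleton {Q : Sylow 3 G // x ∈ (Q : Subgroup G)} :=
        ⟨fun a b => Subtype.ext ((hc' a a.2).trans (hc' b b.2).symm)⟩
      have := Finite.card_le_one_iff_subsingleton.2 ‹Subsingleton {Q : Sylow 3 G // x ∈ (Q : Subgroup G)}›
      rw [show Nat.card {Q : Sylow 3 G // x ∈ (Q : Subgroup G)} = fixCard x from rfl, e] at this
      omega
    set S' := S.subtype hSH
    have hn4 : Nat.card (Sylow 3 ↥H) = 4 := by
      have h2 := (normalizer ((S' : Subgroup ↥H) : Set ↥H)).card_mul_index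
      rw [← sylow_index S'] at h2
      have hle : N ⊓ H = N := inf_eq_left.2 hNH
      have hS' : normalizer ((S' : Subgroup ↥H) : Set ↥H) = N.subgroupOf H := by
        ext y
        rw [mem_subgroupOf, mem_normalizer_iff, mem_normalizer_iff]
        refine ⟨fun hy z => ⟨fun hz => (hy ⟨z, hSH hz⟩).1 hz, fun hz => ?_⟩, fun hy z => hy z⟩
        have hzK : z ∈ H := by
          have := mul_mem (mul_mem (inv_mem y.2) (hSH hz)) y.2
          simpa [mul_assoc] using this
        exact (hy ⟨z, hzK⟩).2 hz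
      rw [hS', Nat.card_congr (subgroupOfEquivOfLe hNH).toEquiv, hN, hM] at h2
      omega
    let ρ := MulAction.toPermHom ↥H (Sylow 3 ↥H)
    set D0 := (S' : Subgroup ↥H) ⊓ ρ.ker
    have hall : ∀ R : Sylow 3 ↥H, D0 ≤ (R : Subgroup ↥H) := by
      intro R y hy
      have hR : y • R = R := DFunLike.congr_fun (MonoidHom.mem_ker.1 hy.2) R
      have hP : IsPGroup 3 ↥(zpowers y) := (S'.2.to_le (inf_le_left : D0 ≤ _)).to_le (zpowers_le.2 hy)
      have := (hP.inf_normalizer_sylow R).ge
      have hyn : y ∈ normalizer ((R : Subgroup ↥H) : Set ↥H) := Sylow.smul_eq_iff_mem_normalizer.1 hR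
      have hmem : y ∈ zpowers y ⊓ normalizer ((R : Subgroup ↥H) : Set ↥H) := ⟨mem_zpowers y, hyn⟩
      exact ((hP.inf_normalizer_sylow R).le hmem).2
    set D := D0.map H.subtype
    have hDS : D ≤ (S : Subgroup G) := by
      rintro _ ⟨y, hy, rfl⟩; exact hy.1
    have hDQ : D ≤ (Q : Subgroup G) := by
      have hQH : (Q : Subgroup G) ≤ H := (hCS Q hQx).trans (centralizer_le_normalizer_zpowers x)
      rintro _ ⟨y, hy, rfl⟩; exact hall (Q.subtype hQH) hy
    have hinv : N ≤ normalizer (D : Set G) := fun m hm => card_normalizer_real.mem_normalizer_of_forall fun z hz => by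
      obtain ⟨y, hy, rfl⟩ := hz
      refine ⟨⟨m, hNH hm⟩ * y * (⟨m, hNH hm⟩ : H)⁻¹, ⟨?_, ?_⟩, rfl⟩
      · exact (mem_normalizer_iff.1 hm y.1).1 hy.1
      · exact ρ.normal_ker.conj_mem _ hy.2 _
    have hD9 : Nat.card D = 9 := by
      have h1 := card_three_group h (S.2.to_le hDS)
      have hle : Nat.card D ≤ 9 := by
        by_contra hlt
        have h27 : Nat.card D = 27 := by simp only [List.mem_cons, List.not_mem_nil, or_false] at h1; omega
        have := eq_of_le_of_card_ge hDS (by rw [h27, card_S h S])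
        exact hQ (sylow_eq_of_le h (this ▸ hDQ)).symm
      have h24 : Nat.card ↥(S' : Subgroup ↥H) ≤ Nat.card D0 * 24 := by
        set f := ρ.comp (S' : Subgroup ↥H).subtype
        have h2 := f.ker.card_mul_index
        rw [Subgroup.index_ker] at h2
        have h3 := Nat.le_of_dvd Nat.card_pos (card_subgroup_dvd_card f.range)
        rw [Nat.card_perm, hn4] at h3
        have h4 : Nat.card f.ker = Nat.card D0 := Nat.card_congr
          { toFun := fun a => ⟨a.1.1, a.1.2, a.2⟩
            invFun := fun a => ⟨⟨a.1, a.2.1⟩, a.2.2⟩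
            left_inv := fun a => rfl
            right_inv := fun a => rfl }
        rw [← h2, h4]
        exact Nat.mul_le_mul_left _ (h3.trans (by norm_num [Nat.factorial]))
      -- the image of the Sylow subgroup is a 3-group of permutations of four points
      have h27' : Nat.card ↥(S' : Subgroup ↥H) = 27 := by
        rw [show (S' : Subgroup ↥H) = (S : Subgroup G).subgroupOf H from rfl,
          Nat.card_congr (subgroupOfEquivOfLe hSH).toEquiv, card_S h S]
      have hD0 : Nat.card D0 = Nat.card D := (card_map_of_injective H.subtype_injective).symm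
      set f := ρ.comp (S' : Subgroup ↥H).subtype
      have h2 := f.ker.card_mul_index
      rw [Subgroup.index_ker, h27'] at h2
      have h4 : Nat.card f.ker = Nat.card D0 := Nat.card_congr
        { toFun := fun a => ⟨a.1.1, a.1.2, a.2⟩
          invFun := fun a => ⟨⟨a.1, a.2.1⟩, a.2.2⟩
          left_inv := fun a => rfl
          right_inv := fun a => rfl }
      rw [h4, hD0] at h2
      have h3 := card_subgroup_dvd_card f.range
      rw [Nat.card_perm, hn4] at h3
      generalize Nat.card f.range = r at h2 h3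
      have h5 : r ∣ 27 := ⟨_, by rw [← h2, mul_comm]⟩
      have h6 := Nat.dvd_gcd h3 h5
      norm_num [Nat.factorial] at h6
      have h7 := Nat.le_of_dvd (by norm_num) h6
      simp only [List.mem_cons, List.not_mem_nil, or_false] at h1
      rcases h1 with e' | e' | e' | e' <;> rw [e'] at h2 <;> omega
    exact no_invariant_plane h hab S D hD9 hDS hinv h112 Q hQ hDQ
  · exact absurd (show 1728 ∣ Nat.card H by rw [hM, e]) htop
  · exfalso
    have := card_centralizer_three h hx3 hx1
    rw [← hC, e] at this; norm_num at this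

theorem abelian_not_112 (h112' : Nat.card (Sylow 3 G) = 112) : False := by
  classical
  haveI : Fact (Nat.Prime 3) := ⟨Nat.prime_three⟩
  have h112 := comp_112 h112'
  obtain ⟨S⟩ := (inferInstance : Nonempty (Sylow 3 G))
  -- two Sylow subgroups meet in a plane
  obtain ⟨Q, hQ, hD9⟩ : ∃ Q : Sylow 3 G, Q ≠ S ∧ Nat.card ↥((S : Subgroup G) ⊓ Q : Subgroup G) = 9 := by
    by_contra hc
    push Not at hc
    let Ω := {Q : Sylow 3 G // Q ≠ S}
    letI : MulAction ↥(S : Subgroup G) Ω :=
      { smul := fun s Q => ⟨(s : G) • Q.1, fun e => Q.2 (by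
          have e' := congrArg ((s : G)⁻¹ • ·) e
          simp only [inv_smul_smul] at e'
          rw [e']; exact Sylow.smul_eq_iff_mem_normalizer.2 (inv_mem (le_normalizer s.2)))⟩
        one_smul := fun Q => Subtype.ext (one_smul G Q.1)
        mul_smul := fun a b Q => Subtype.ext (mul_smul (a : G) b Q.1) }
    haveI := Fintype.ofFinite (MulAction.orbitRel.Quotient ↥(S : Subgroup G) Ω)
    have hdvd : 9 ∣ Nat.card Ω := by
      rw [Nat.card_congr (MulAction.selfEquivSigmaOrbits ↥(S : Subgroup G) Ω), Nat.card_sigma]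
      refine Finset.dvd_sum fun ω _ => ?_
      set Q := ω.out
      have hst : Nat.card ↥(MulAction.stabilizer ↥(S : Subgroup G) Q) =
          Nat.card ↥((S : Subgroup G) ⊓ Q.1 : Subgroup G) := by
        refine Nat.card_congr
          { toFun := fun s => ⟨s.1.1, s.1.2, (fixed_iff h Q.1 (cube h S s.1.2)).1 (congrArg Subtype.val s.2)⟩
            invFun := fun s => ⟨⟨s.1, s.2.1⟩, Subtype.ext ((fixed_iff h Q.1 (cube h S s.2.1)).2 s.2.2)⟩
            left_inv := fun s => rfl
            right_inv := fun s => rfl }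
      have h1 := (MulAction.stabilizer ↥(S : Subgroup G) Q).card_mul_index
      rw [card_S h S, MulAction.index_stabilizer, ← Nat.card_coe_set_eq, hst] at h1
      have h2 := inter_card h Q.2
      simp only [List.mem_cons, List.not_mem_nil, or_false] at h2
      rcases h2 with e | e | e
      · exact ⟨3, by rw [e] at h1; omega⟩
      · exact ⟨1, by rw [e] at h1; omega⟩
      · exact absurd e (hc Q.1 Q.2)
    have hΩ : Nat.card Ω = 111 := by
      have : Nat.card Ω = (({S} : Set (Sylow 3 G))ᶜ).ncard := rfl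
      rw [this, Set.ncard_compl, Set.ncard_singleton, h112']
    rw [hΩ] at hdvd; norm_num at hdvd
  set D := (S : Subgroup G) ⊓ (Q : Subgroup G)
  have hDS : D ≤ (S : Subgroup G) := inf_le_left
  have hfull : ∀ x ∈ D, x ≠ 1 → Nat.card ↥(normalizer ((S : Subgroup G) : Set G) ⊓ centralizer ({x} : Set G) : Subgroup G) = 27 := by
    intro x hx hx1
    obtain ⟨b, hb, hb'⟩ := orbit_four h hab S h112 (hDS hx) hx1
    rcases hb' with rfl | rfl
    · exact hb
    · exfalso
      have := no_half_fix h hab S h112 (hDS hx) hx1 (by rw [hb])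
      haveI := (Nat.card_eq_one_iff_unique.1 (this : Nat.card {Q : Sylow 3 G // x ∈ (Q : Subgroup G)} = 1)).1
      exact hQ (congrArg Subtype.val (Subsingleton.elim (⟨Q, hx.2⟩ : {Q : Sylow 3 G // x ∈ (Q : Subgroup G)}) ⟨S, hDS hx⟩))
  set N := normalizer ((S : Subgroup G) : Set G)
  by_cases hinv : N ≤ normalizer (D : Set G)
  · exact no_invariant_plane h hab S D hD9 hDS hinv h112 Q hQ inf_le_right
  obtain ⟨n, hn, hnD⟩ : ∃ n ∈ N, n ∉ normalizer (D : Set G) := SetLike.not_le_iff_exists.1 hinv
  haveI : ((S : Subgroup G).subgroupOf N).Normal := normal_in_normalizer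
  have hcardQ : Nat.card (↥N ⧸ (S : Subgroup G).subgroupOf N) = 4 := by
    have := ((S : Subgroup G).subgroupOf N).card_mul_index
    rw [Nat.card_congr (subgroupOfEquivOfLe le_normalizer).toEquiv, card_S h S, card_normalizer h S, h112, index_eq_card] at this
    omega
  haveI : Fact (Nat.Prime 2) := ⟨Nat.prime_two⟩
  have hcommS : ∀ a ∈ N, ∀ b ∈ N, (a * b)⁻¹ * (b * a) ∈ (S : Subgroup G) := by
    intro a ha b hb
    have := IsPGroup.commutative_of_card_eq_prime_sq (p := 2) hcardQ
      ((⟨a, ha⟩ : N) : ↥N ⧸ (S : Subgroup G).subgroupOf N) ((⟨b, hb⟩ : N) : ↥N ⧸ (S : Subgroup G).subgroupOf N)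
    rw [← QuotientGroup.mk_mul, ← QuotientGroup.mk_mul, QuotientGroup.eq, mem_subgroupOf] at this
    exact this
  have hpow4 : ∀ a ∈ N, a ^ 4 ∈ (S : Subgroup G) := by
    intro a ha
    have := hcardQ ▸ pow_card_eq_one' (x := ((⟨a, ha⟩ : N) : ↥N ⧸ (S : Subgroup G).subgroupOf N))
    rw [← QuotientGroup.mk_pow, QuotientGroup.eq_one_iff, mem_subgroupOf] at this
    exact this
  have hcS : ∀ y ∈ D, ∀ s ∈ (S : Subgroup G), s * y * s⁻¹ = y := fun y hy s hs =>
    mul_inv_eq_iff_eq_mul.2 (hab S s hs y (hDS hy)).eq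
  have hSD : (S : Subgroup G) ≤ normalizer (D : Set G) := fun s hs =>
    card_normalizer_real.mem_normalizer_of_forall fun y hy => by rw [hcS y hy s hs]; exact hy
  -- an element moving D whose square is in S
  obtain ⟨τ, hτ, hτ2, hτD⟩ : ∃ τ ∈ N, τ * τ ∈ (S : Subgroup G) ∧ τ ∉ normalizer (D : Set G) := by
    by_cases hn2 : n * n ∈ normalizer (D : Set G)
    · refine ⟨n, hn, ?_, hnD⟩
      let E := D.map (MulAut.conj n).toMonoidHom
      obtain ⟨x, hxD, hxE, hx1⟩ := inf_of_nine h S hD9
        (show Nat.card E = 9 by rw [card_map_of_injective (MulAut.conj n).injective, hD9]) hDS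
        (by rintro _ ⟨y, hy, rfl⟩; exact (mem_normalizer_iff.1 hn y).1 (hDS hy))
      obtain ⟨y, hy, exy⟩ := hxE
      have exy' : n * y * n⁻¹ = x := exy
      have hne : E ≠ D := fun e => hnD (card_normalizer_real.mem_normalizer_of_forall fun z hz => e ▸ ⟨z, hz, rfl⟩)
      have hxE' : n * x * n⁻¹ ∈ D := by
        have := (mem_normalizer_iff.1 hn2 y).1 hy
        rwa [show n * n * y * (n * n)⁻¹ = n * (n * y * n⁻¹) * n⁻¹ by group, exy'] at this
      have hline : n * x * n⁻¹ ∈ zpowers x := by
        by_contra hnot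
        apply hne
        have hle : zpowers x ⊔ zpowers (n * x * n⁻¹) ≤ D ⊓ E :=
          sup_le (zpowers_le.2 ⟨hxD, ⟨y, hy, exy⟩⟩) (zpowers_le.2 ⟨hxE', ⟨x, hxD, rfl⟩⟩)
        have h3 : Nat.card ↥(zpowers x) = 3 := by
          rw [Nat.card_zpowers]; exact orderOf_eq_prime (cube h S (hDS hxD)) hx1
        have hlt : 3 < Nat.card ↥(zpowers x ⊔ zpowers (n * x * n⁻¹)) := by
          by_contra hle3
          exact hnot ((eq_of_le_of_card_ge (le_sup_left : zpowers x ≤ _) (by omega)).symm.le
            ((le_sup_right : zpowers (n * x * n⁻¹) ≤ zpowers x ⊔ _) (mem_zpowers _)))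
        have h9 : 9 ≤ Nat.card ↥(D ⊓ E : Subgroup G) := by
          have h1 := card_three_group h (S.2.to_le ((inf_le_left.trans hDS) : D ⊓ E ≤ _))
          have h2 := Nat.le_of_dvd Nat.card_pos (card_dvd_of_le hle)
          simp only [List.mem_cons, List.not_mem_nil, or_false] at h1
          omega
        have e1 : D ⊓ E = D := eq_of_le_of_card_ge inf_le_left (by rw [hD9]; exact h9)
        exact eq_of_le_of_card_ge (e1.symm.le.trans inf_le_right)
          (by rw [hD9, card_map_of_injective (MulAut.conj n).injective, hD9]) |>.symm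
      -- so the square of n centralises x
      have hsq : n * n * x * (n * n)⁻¹ = x := by
        obtain ⟨j, hj⟩ := mem_zpowers_iff.1 hline
        rw [show n * n * x * (n * n)⁻¹ = n * (n * x * n⁻¹) * n⁻¹ by group, ← hj, ← conj_zpow, ← hj, ← zpow_mul]
        have hx3 := cube h S (hDS hxD)
        have hj3 : ¬ (3 : ℤ) ∣ j := by
          rintro ⟨i, rfl⟩
          rw [zpow_mul, show x ^ (3 : ℤ) = 1 by exact_mod_cast hx3, one_zpow] at hj
          exact hx1 (mul_eq_left.1 (mul_inv_eq_one.1 hj.symm))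
        have : (3 : ℤ) ∣ j * j - 1 := by
          have h0 : j % 3 = 1 ∨ j % 3 = 2 := by omega
          rw [Int.dvd_iff_emod_eq_zero, Int.sub_emod, Int.mul_emod]
          rcases h0 with e | e <;> rw [e] <;> rfl
        obtain ⟨i, hi⟩ := this
        rw [show j * j = 3 * i + 1 by linarith, zpow_add, zpow_mul,
          show x ^ (3 : ℤ) = 1 by exact_mod_cast hx3, one_zpow, one_mul, zpow_one]
      have hmem : n * n ∈ N ⊓ centralizer ({x} : Set G) :=
        ⟨mul_mem hn hn, mem_centralizer_singleton_iff.2 (mul_inv_eq_iff_eq_mul.1 hsq)⟩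
      have hle : (S : Subgroup G) ≤ N ⊓ centralizer ({x} : Set G) :=
        le_inf le_normalizer fun s hs => mem_centralizer_singleton_iff.2 (hab S s hs x (hDS hxD)).eq
      rwa [← eq_of_le_of_card_ge hle (by rw [hfull x hxD hx1, card_S h S])] at hmem
    · exact ⟨n * n, mul_mem hn hn, by
        have := hpow4 n hn
        rwa [show n * n * (n * n) = n ^ 4 by simp [pow_succ, mul_assoc]], hn2⟩
  let E := D.map (MulAut.conj τ).toMonoidHom
  have hE9 : Nat.card E = 9 := by rw [card_map_of_injective (MulAut.conj τ).injective, hD9]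
  have hES : E ≤ (S : Subgroup G) := by
    rintro _ ⟨y, hy, rfl⟩; exact (mem_normalizer_iff.1 hτ y).1 (hDS hy)
  have hne : E ≠ D := fun e => hτD (card_normalizer_real.mem_normalizer_of_forall fun z hz => e ▸ ⟨z, hz, rfl⟩)
  obtain ⟨x, hxD, hxE, hx1⟩ := inf_of_nine h S hD9 hE9 hDS hES
  have hx3 := cube h S (hDS hxD)
  -- x is inverted by τ
  have hxτ : τ * x * τ⁻¹ = x⁻¹ := by
    obtain ⟨y, hy, exy⟩ := hxE
    have exy' : τ * y * τ⁻¹ = x := exy
    set x' := τ * x * τ⁻¹
    have hx'D : x' ∈ D := by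
      have := hcS y hy (τ * τ) hτ2
      rw [show τ * τ * y * (τ * τ)⁻¹ = τ * (τ * y * τ⁻¹) * τ⁻¹ by group, exy'] at this
      show τ * x * τ⁻¹ ∈ D
      rw [this]; exact hy
    have hx'E : x' ∈ E := ⟨x, hxD, rfl⟩
    have hfix : τ * x' * τ⁻¹ = x := by
      rw [show τ * x' * τ⁻¹ = τ * τ * x * (τ * τ)⁻¹ by simp only [x']; group]
      exact hcS x hxD _ hτ2
    have hcomm := (hab S _ (hDS hx'D) _ (hDS hxD)).eq
    -- the meet of the two planes is a line
    have hline : x' ∈ zpowers x := by
      by_contra hnot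
      apply hne
      have hle : zpowers x ⊔ zpowers x' ≤ D ⊓ E :=
        sup_le (zpowers_le.2 ⟨hxD, ⟨y, hy, exy⟩⟩) (zpowers_le.2 ⟨hx'D, hx'E⟩)
      have h3 : Nat.card ↥(zpowers x) = 3 := by rw [Nat.card_zpowers]; exact orderOf_eq_prime hx3 hx1
      have hlt : 3 < Nat.card ↥(zpowers x ⊔ zpowers x') := by
        by_contra hle3
        exact hnot ((eq_of_le_of_card_ge (le_sup_left : zpowers x ≤ _) (by omega)).symm.le
          ((le_sup_right : zpowers x' ≤ zpowers x ⊔ _) (mem_zpowers _)))
      have h9 : 9 ≤ Nat.card ↥(D ⊓ E : Subgroup G) := by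
        have h1 := card_three_group h (S.2.to_le ((inf_le_left.trans hDS) : D ⊓ E ≤ _))
        have h2 := Nat.le_of_dvd Nat.card_pos (card_dvd_of_le hle)
        simp only [List.mem_cons, List.not_mem_nil, or_false] at h1
        omega
      have e1 : D ⊓ E = D := eq_of_le_of_card_ge inf_le_left (by rw [hD9]; exact h9)
      exact (eq_of_le_of_card_ge (e1.symm.le.trans inf_le_right) (by rw [hD9, hE9])).symm
    obtain ⟨j, hj⟩ := mem_zpowers_iff.1 hline
    have h0 : j % 3 = 0 ∨ j % 3 = 1 ∨ j % 3 = 2 := by omega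
    have e : x ^ j = x ^ (j % 3) := by
      conv_lhs => rw [← Int.emod_add_mul_ediv j 3]
      rw [zpow_add, zpow_mul, show x ^ (3 : ℤ) = 1 by exact_mod_cast hx3, one_zpow, mul_one]
    rw [e] at hj
    rcases h0 with h0 | h0 | h0 <;> rw [h0] at hj
    · rw [zpow_zero] at hj
      exact absurd (mul_eq_left.1 (mul_inv_eq_one.1 hj.symm)) hx1
    · exfalso
      rw [zpow_one] at hj
      have hle : (S : Subgroup G) ≤ N ⊓ centralizer ({x} : Set G) :=
        le_inf le_normalizer fun s hs => mem_centralizer_singleton_iff.2 (hab S s hs x (hDS hxD)).eq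
      have hτC : τ ∈ N ⊓ centralizer ({x} : Set G) :=
        ⟨hτ, mem_centralizer_singleton_iff.2 (mul_inv_eq_iff_eq_mul.1 hj.symm)⟩
      rw [← eq_of_le_of_card_ge hle (by rw [hfull x hxD hx1, card_S h S])] at hτC
      exact hτD (hSD hτC)
    · rw [← hj, zpow_ofNat]
      exact eq_inv_of_mul_eq_one_left (by rw [← pow_succ]; exact hx3)
  have hCx := fix_ab h hab S (hDS hxD)
  rw [hfull x hxD hx1] at hCx
  -- the Sylow subgroups over D and over E
  have hFD : 4 ≤ Nat.card {R : Sylow 3 G // D ≤ (R : Subgroup G)} := by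
    have h1 := sylow_smul_fixed_set h D (S.2.to_le hDS)
    have h2 : 1 < Nat.card {R : Sylow 3 G // D ≤ (R : Subgroup G)} := by
      rw [Finite.one_lt_card_iff_nontrivial]
      exact ⟨⟨Q, inf_le_right⟩, ⟨S, hDS⟩, fun e => hQ (congrArg Subtype.val e)⟩
    omega
  have hf : fixCard x = 16 := by
    rcases fix_cases h hab S (hDS hxD) hx1 with e | e | e | e
    · exfalso
      haveI := (Nat.card_eq_one_iff_unique.1 (e : Nat.card {R : Sylow 3 G // x ∈ (R : Subgroup G)} = 1)).1
      exact hQ (congrArg Subtype.val (Subsingleton.elim (⟨Q, hxD.2⟩ : {R : Sylow 3 G // x ∈ (R : Subgroup G)}) ⟨S, hDS hxD⟩))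
    · exfalso
      let F : {R : Sylow 3 G // D ≤ (R : Subgroup G)} → {R : Sylow 3 G // x ∈ (R : Subgroup G)} :=
        fun R => ⟨R.1, R.2 hxD⟩
      have hF : Function.Injective F := fun a b eab => Subtype.ext (congrArg (fun R : {R : Sylow 3 G // x ∈ (R : Subgroup G)} => R.1) eab)
      have hbij : Function.Bijective F := (Nat.bijective_iff_injective_and_card F).2
        ⟨hF, le_antisymm (Nat.card_le_card_of_injective F hF) (by rw [show Nat.card {R : Sylow 3 G // x ∈ (R : Subgroup G)} = 4 from e]; exact hFD)⟩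
      -- Q' := τ • Q contains E, hence x, hence D
      have hEQ : E ≤ ((τ • Q : Sylow 3 G) : Subgroup G) := by
        rintro _ ⟨z, hz, rfl⟩
        rw [mem_smul_iff]
        show τ⁻¹ * (τ * z * τ⁻¹) * τ ∈ _
        rw [show τ⁻¹ * (τ * z * τ⁻¹) * τ = z by group]
        exact hz.2
      obtain ⟨R, hR⟩ := hbij.2 ⟨τ • Q, hEQ hxE⟩
      have hR' : R.1 = τ • Q := congrArg Subtype.val hR
      have hDR : D ≤ ((τ • Q : Sylow 3 G) : Subgroup G) := hR' ▸ R.2
      have := sup_le hDR hEQ
      rw [sup_eq_of_nine h S hD9 hE9 hDS hES hne] at this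
      have e' := sylow_eq_of_le h this
      apply hQ
      calc Q = τ⁻¹ • (τ • Q) := (inv_smul_smul τ Q).symm
        _ = τ⁻¹ • S := by rw [e']
        _ = S := Sylow.smul_eq_iff_mem_normalizer.2 (inv_mem hτ)
    · exact e
    · exfalso
      exact not_full_centralizer h hx3 hx1 (hCx ▸ by rw [e])
  rw [hf] at hCx
  -- the line of x has fourteen conjugates
  set L := zpowers x
  set M := normalizer (L : Set G)
  have hMc : Nat.card M = 864 := by rw [card_normalizer_real hx3 hx1 hxτ, ← hCx]
  have hMi : M.index = 14 := by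
    have := M.card_mul_index
    rw [hMc, h.card] at this; omega
  -- a second conjugate of the line inside S
  obtain ⟨u, hu, hux⟩ : ∃ u ∈ N, u * x * u⁻¹ ∉ L := by
    by_contra hc
    push Not at hc
    have hle : N ≤ M := fun u hu => card_normalizer_real.mem_normalizer_of_forall fun z hz => by
      obtain ⟨j, rfl⟩ := mem_zpowers_iff.1 hz
      rw [← conj_zpow]; exact zpow_mem (hc u hu) j
    have h1 := conj_card N x
    rw [hfull x hxD hx1, card_normalizer h S, h112] at h1
    have h4 : Nat.card ↥({y | ∃ n ∈ N, n * x * n⁻¹ = y} : Set G) = 4 := by omega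
    let F : ↥({y | ∃ n ∈ N, n * x * n⁻¹ = y} : Set G) → {z : ↥L // z ≠ 1} := fun y => ⟨⟨y.1, by
      obtain ⟨n, hn, e⟩ := y.2; rw [← e]; exact hc n hn⟩, fun e => by
        obtain ⟨n, hn, e'⟩ := y.2
        have : y.1 = 1 := congrArg Subtype.val e
        rw [this, mul_inv_eq_one, mul_eq_left] at e'
        exact hx1 e'⟩
    have hF : Function.Injective F := fun a b eab => Subtype.ext (congrArg (fun z : {z : ↥L // z ≠ 1} => z.1.1) eab)
    have := Nat.card_le_card_of_injective F hF
    rw [h4] at this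
    have hL : Nat.card ↥L = 3 := by rw [Nat.card_zpowers]; exact orderOf_eq_prime hx3 hx1
    have h2 : Nat.card {z : ↥L // z ≠ 1} ≤ Nat.card ↥L := Nat.card_le_card_of_injective _ Subtype.val_injective
    omega
  set x' := u * x * u⁻¹ with hx'
  set P0 := L ⊔ zpowers x' with hP0
  have hx'S : x' ∈ (S : Subgroup G) := (mem_normalizer_iff.1 hu x).1 (hDS hxD)
  have hP0S : P0 ≤ (S : Subgroup G) := sup_le (zpowers_le.2 (hDS hxD)) (zpowers_le.2 hx'S)
  -- the centraliser of x cannot keep the second line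
  obtain ⟨c, hc, hcp, hcN⟩ : ∃ c ∈ centralizer ({x} : Set G), c • (u : G ⧸ M) = (u : G ⧸ M) ∧ c ∉ N := by
    set C := centralizer ({x} : Set G)
    letI : MulAction ↥C {p : G ⧸ M // p ≠ ((1 : G) : G ⧸ M)} :=
      { smul := fun c p => ⟨(c : G) • p.1, fun e => p.2 (by
          have e' := congrArg ((c : G)⁻¹ • ·) e
          simp only [inv_smul_smul] at e'
          rw [e']
          show (((c : G)⁻¹ * 1 : G) : G ⧸ M) = _
          rw [QuotientGroup.eq]
          simp only [mul_one, inv_inv]
          exact centralizer_le_normalizer_zpowers x c.2)⟩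
        one_smul := fun p => Subtype.ext (one_smul G p.1)
        mul_smul := fun a b p => Subtype.ext (mul_smul (a : G) b p.1) }
    have hne1 : (u : G ⧸ M) ≠ ((1 : G) : G ⧸ M) := by
      intro e
      rw [QuotientGroup.eq, mul_one, inv_mem_iff] at e
      exact hux ((mem_normalizer_iff.1 e x).1 (mem_zpowers x))
    let p0 : {p : G ⧸ M // p ≠ ((1 : G) : G ⧸ M)} := ⟨u, hne1⟩
    have h1 := (MulAction.stabilizer ↥C p0).card_mul_index
    rw [MulAction.index_stabilizer, ← hCx] at h1
    have h13 : (MulAction.orbit ↥C p0).ncard ≤ 13 := by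
      refine (Set.ncard_le_card _).trans (le_of_eq ?_)
      have : Nat.card {p : G ⧸ M // p ≠ ((1 : G) : G ⧸ M)} = (({((1 : G) : G ⧸ M)} : Set (G ⧸ M))ᶜ).ncard := rfl
      rw [this, Set.ncard_compl, Set.ncard_singleton, ← index_eq_card, hMi]
    by_contra hcon
    push Not at hcon
    let F : ↥(MulAction.stabilizer ↥C p0) → ↥(N ⊓ C : Subgroup G) :=
      fun c => ⟨c.1.1, hcon c.1.1 c.1.2 (congrArg Subtype.val c.2), c.1.2⟩
    have hF : Function.Injective F := fun a b eab => Subtype.ext (Subtype.ext (congrArg (fun z : ↥(N ⊓ C : Subgroup G) => (z : G)) eab))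
    have h27 := Nat.card_le_card_of_injective F hF
    rw [hfull x hxD hx1] at h27
    nlinarith
  have hcx : c * x * c⁻¹ = x := mul_inv_eq_iff_eq_mul.2 (mem_centralizer_singleton_iff.1 hc)
  have hcx' : c⁻¹ * x' * c ∈ P0 := by
    have e : c • (u : G ⧸ M) = (u : G ⧸ M) := hcp
    have e' : ((c * u : G) : G ⧸ M) = (u : G ⧸ M) := e
    rw [QuotientGroup.eq] at e'
    have h2 := (mem_normalizer_iff.1 e' x).1 (mem_zpowers x)
    obtain ⟨j, hj⟩ := mem_zpowers_iff.1 h2
    have h3 : u * x ^ j * u⁻¹ = c⁻¹ * x' * c := by rw [hj, hx']; group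
    rw [← h3, ← conj_zpow]
    exact zpow_mem (le_sup_right (a := L) (mem_zpowers x')) j
  have hP0inv : N ≤ normalizer (P0 : Set G) := by
    have hset : ∀ m ∈ N, m * x * m⁻¹ ∈ ({x, x⁻¹, x', x'⁻¹} : Finset G) := by
      intro m hm
      classical
      have h1 := conj_card N x
      rw [hfull x hxD hx1, card_normalizer h S, h112] at h1
      have h4 : ({y | ∃ n ∈ N, n * x * n⁻¹ = y} : Set G).ncard = 4 := by
        rw [← Nat.card_coe_set_eq]; omega
      have hsub : (({x, x⁻¹, x', x'⁻¹} : Finset G) : Set G) ⊆ {y | ∃ n ∈ N, n * x * n⁻¹ = y} := by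
        intro y hy
        simp only [Finset.coe_insert, Finset.coe_singleton, Set.mem_insert_iff, Set.mem_singleton_iff] at hy
        rcases hy with rfl | rfl | rfl | rfl
        · exact ⟨1, one_mem _, by group⟩
        · exact ⟨τ, hτ, hxτ⟩
        · exact ⟨u, hu, rfl⟩
        · refine ⟨u * τ, mul_mem hu hτ, ?_⟩
          rw [show u * τ * x * (u * τ)⁻¹ = u * (τ * x * τ⁻¹) * u⁻¹ by group, hxτ, hx']
          group
      have hd1 : x ≠ x⁻¹ := fun e => hx1 (by
        have h2 : x * x = 1 := by rw [← inv_eq_iff_mul_eq_one]; exact e.symm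
        calc x = x ^ 3 * (x * x)⁻¹ := by group
          _ = 1 := by rw [hx3, h2, one_mul, inv_one])
      have n1 : x' ≠ x := fun e => hux (e ▸ mem_zpowers x)
      have n2 : x' ≠ x⁻¹ := fun e => hux (e ▸ inv_mem (mem_zpowers x))
      have n3 : x'⁻¹ ≠ x := fun e => n2 (by rw [← e, inv_inv])
      have n4 : x'⁻¹ ≠ x⁻¹ := fun e => n1 (inv_injective e)
      have n5 : x' ≠ x'⁻¹ := fun e => hd1 (by
        have e2 := congrArg (fun z => u⁻¹ * z * u) e
        simp only [hx'] at e2
        calc x = u⁻¹ * (u * x * u⁻¹) * u := by group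
          _ = u⁻¹ * (u * x * u⁻¹)⁻¹ * u := e2
          _ = x⁻¹ := by group)
      have hc4 : ({x, x⁻¹, x', x'⁻¹} : Finset G).card = 4 := by
        simp [hd1, n1.symm, n2.symm, n3.symm, n4.symm, n5]
      have := Set.eq_of_subset_of_ncard_le hsub (by rw [Set.ncard_coe_finset, hc4, h4])
      exact Finset.mem_coe.1 (this ▸ (⟨m, hm, rfl⟩ : m * x * m⁻¹ ∈ {y | ∃ n ∈ N, n * x * n⁻¹ = y}))
    have hxP : ∀ m ∈ N, m * x * m⁻¹ ∈ P0 := by
      intro m hm
      have := hset m hm
      simp only [Finset.mem_insert, Finset.mem_singleton] at this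
      rcases this with e | e | e | e <;> rw [e]
      · exact le_sup_left (b := zpowers x') (mem_zpowers x)
      · exact inv_mem (le_sup_left (b := zpowers x') (mem_zpowers x))
      · exact le_sup_right (a := L) (mem_zpowers x')
      · exact inv_mem (le_sup_right (a := L) (mem_zpowers x'))
    intro m hm
    refine card_normalizer_real.mem_normalizer_of_forall fun z hz => ?_
    have hle : P0 ≤ P0.comap (MulAut.conj m).toMonoidHom := by
      refine sup_le (zpowers_le.2 ?_) (zpowers_le.2 ?_)
      · exact hxP m hm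
      · show m * (u * x * u⁻¹) * m⁻¹ ∈ P0
        rw [show m * (u * x * u⁻¹) * m⁻¹ = m * u * x * (m * u)⁻¹ by group]
        exact hxP _ (mul_mem hm hu)
    exact hle hz
  have hP9 : Nat.card ↥P0 = 9 := by
    have h1 := card_three_group h (S.2.to_le hP0S)
    have h3 : Nat.card ↥L = 3 := by rw [Nat.card_zpowers]; exact orderOf_eq_prime hx3 hx1
    have hlt : 3 < Nat.card ↥P0 := by
      by_contra hle3
      exact hux ((eq_of_le_of_card_ge (le_sup_left : L ≤ P0) (show Nat.card ↥P0 ≤ Nat.card ↥L by omega)).symm.le ((le_sup_right : zpowers x' ≤ P0) (mem_zpowers _)))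
    have h27 : Nat.card ↥P0 ≠ 27 := by
      intro e
      -- a group generated by two commuting elements of order three has order at most nine
      let f := MonoidHom.noncommCoprod L.subtype (zpowers x').subtype fun a b =>
        (show Commute (L.subtype a) ((zpowers x').subtype b) from
          hab S _ (zpowers_le.2 (hDS hxD) a.2) _ (zpowers_le.2 hx'S b.2))
      have hr : f.range = P0 := by
        simp only [f]
        rw [MonoidHom.noncommCoprod_range, range_subtype, range_subtype]
      have h3' : Nat.card ↥(zpowers x') = 3 := by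
        rw [Nat.card_zpowers]
        exact orderOf_eq_prime (cube h S hx'S) (fun e' => hux (e' ▸ one_mem _))
      have := Nat.card_le_card_of_surjective f.rangeRestrict f.rangeRestrict_surjective
      rw [hr, Nat.card_prod, h3, h3', e] at this
      omega
    simp only [List.mem_cons, List.not_mem_nil, or_false] at h1
    omega
  refine no_invariant_plane h hab S P0 hP9 hP0S hP0inv h112 (c • S) ?_ ?_
  · exact fun e => hcN (Sylow.smul_eq_iff_mem_normalizer.1 e)
  · refine sup_le (zpowers_le.2 ?_) (zpowers_le.2 ?_)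
    · rw [mem_smul_iff]
      rw [show c⁻¹ * x * c = x from by
        rw [mul_assoc, ← mem_centralizer_singleton_iff.1 hc, inv_mul_cancel_left]]
      exact hDS hxD
    · rw [mem_smul_iff]
      exact hP0S hcx'
end CfsgLib.Recog.G2TwoSpec
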