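import Cfsg.Agent.Lib.Recog.G2TwoSpec.Tools

/-!
# Orbits of a Sylow 3-subgroup on the Sylow 3-subgroups
-/

set_option autoImplicit false
set_option linter.unusedSectionVars false
set_option linter.style.haveILetI false

open Subgroup
open scoped Pointwise

namespace CfsgLib.Recog.G2TwoSpec

variable {G : Type*} [Group G] [Finite G] (h : Hyp G) (S : Sylow 3 G)
include h

theorem orbit_card (Q : Sylow 3 G) :
    Nat.card ↥({R | ∃ s ∈ (S : Subgroup G), s • Q = R} : Set (Sylow 3 G)) *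
      Nat.card ↥((S : Subgroup G) ⊓ Q : Subgroup G) = 27 := by
  have horb : MulAction.orbit ↥(S : Subgroup G) Q = {R | ∃ s ∈ (S : Subgroup G), s • Q = R} := by
    ext R
    exact ⟨fun ⟨s, hs⟩ => ⟨s.1, s.2, hs⟩, fun ⟨s, hs, e⟩ => ⟨⟨s, hs⟩, e⟩⟩
  have hst : Nat.card ↥(MulAction.stabilizer ↥(S : Subgroup G) Q) =
      Nat.card ↥((S : Subgroup G) ⊓ Q : Subgroup G) := by
    refine Nat.card_congr
      { toFun := fun s => ⟨s.1.1, s.1.2, (fixed_iff h Q (cube h S s.1.2)).1 s.2⟩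
        invFun := fun s => ⟨⟨s.1, s.2.1⟩, (fixed_iff h Q (cube h S s.2.1)).2 s.2.2⟩
        left_inv := fun s => rfl
        right_inv := fun s => rfl }
  have h1 := (MulAction.stabilizer ↥(S : Subgroup G) Q).card_mul_index
  rw [card_S h S, MulAction.index_stabilizer, horb, ← Nat.card_coe_set_eq, hst] at h1
  rw [mul_comm]; exact h1

theorem inter_smul {s : G} (hs : s ∈ (S : Subgroup G)) (Q : Sylow 3 G) (y : G) :
    y ∈ (S : Subgroup G) ⊓ ((s • Q : Sylow 3 G) : Subgroup G) ↔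
      s⁻¹ * y * s ∈ (S : Subgroup G) ⊓ (Q : Subgroup G) := by
  rw [Subgroup.mem_inf, Subgroup.mem_inf, mem_smul_iff]
  refine and_congr ⟨fun hy => mul_mem (mul_mem (inv_mem hs) hy) hs, fun hy => ?_⟩ Iff.rfl
  have := mul_mem (mul_mem hs hy) (inv_mem hs)
  rwa [show s * (s⁻¹ * y * s) * s⁻¹ = y by group] at this

theorem nine_dvd (P : Sylow 3 G → Prop)
    (hinv : ∀ s ∈ (S : Subgroup G), ∀ Q, P Q → P (s • Q))
    (hsmall : ∀ Q, P Q → Nat.card ↥((S : Subgroup G) ⊓ Q : Subgroup G) ≤ 3) :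
    9 ∣ Nat.card {Q // P Q} := by
  haveI : Fact (Nat.Prime 3) := ⟨Nat.prime_three⟩
  letI : MulAction ↥(S : Subgroup G) {Q // P Q} :=
    { smul := fun s Q => ⟨(s : G) • Q.1, hinv s s.2 _ Q.2⟩
      one_smul := fun Q => Subtype.ext (one_smul G Q.1)
      mul_smul := fun a b Q => Subtype.ext (mul_smul (a : G) b Q.1) }
  haveI := Fintype.ofFinite (MulAction.orbitRel.Quotient ↥(S : Subgroup G) {Q // P Q})
  rw [Nat.card_congr (MulAction.selfEquivSigmaOrbits ↥(S : Subgroup G) {Q // P Q}), Nat.card_sigma]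
  refine Finset.dvd_sum fun ω _ => ?_
  set Q := ω.out
  have e : Nat.card ↥(MulAction.orbit ↥(S : Subgroup G) Q) =
      Nat.card ↥({R | ∃ s ∈ (S : Subgroup G), s • Q.1 = R} : Set (Sylow 3 G)) :=
    Nat.card_congr
      { toFun := fun R => ⟨R.1.1, by
          obtain ⟨s, hs⟩ := R.2
          exact ⟨s.1, s.2, congrArg Subtype.val hs⟩⟩
        invFun := fun R => ⟨⟨R.1, by
            obtain ⟨s, hs, e⟩ := R.2
            exact e ▸ hinv s hs _ Q.2⟩, by
          obtain ⟨s, hs, e⟩ := R.2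
          exact ⟨⟨s, hs⟩, Subtype.ext e⟩⟩
        left_inv := fun R => rfl
        right_inv := fun R => rfl }
  rw [e]
  have h1 := orbit_card h S Q.1
  have h2 := hsmall Q.1 Q.2
  have h3 : 0 < Nat.card ↥((S : Subgroup G) ⊓ Q.1 : Subgroup G) := Nat.card_pos
  interval_cases hc : Nat.card ↥((S : Subgroup G) ⊓ Q.1 : Subgroup G) <;> omega

omit h in
theorem card_others (h28 : Nat.card (Sylow 3 G) = 28) : Nat.card {Q : Sylow 3 G // Q ≠ S} = 27 := by
  have : Nat.card {Q : Sylow 3 G // Q ≠ S} = (({S} : Set (Sylow 3 G))ᶜ).ncard := rfl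
  rw [this, Set.ncard_compl, Set.ncard_singleton, h28]

end CfsgLib.Recog.G2TwoSpec
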