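import Cfsg.Agent.Lib.Recog.G2TwoSpec.Abelian
import Cfsg.Agent.Lib.Recog.G2TwoSpec.Orbits

/-!
# With 28 abelian Sylow 3-subgroups any two meet trivially
-/

set_option autoImplicit false
set_option linter.unusedSectionVars false
set_option linter.style.haveILetI false

open Subgroup
open scoped Pointwise

namespace CfsgLib.Recog.G2TwoSpec

variable {G : Type*} [Group G] [Finite G]

/-- A subgroup of index 14 over a Sylow subgroup, meeting its normaliser in order 54. -/
theorem index_fourteen (h : Hyp G) (S : Sylow 3 G) (h16 : compOrder G = 16) (H : Subgroup G)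
    (hH : Nat.card H = 864) (hS : (S : Subgroup G) ≤ H)
    (hN : Nat.card ↥(normalizer ((S : Subgroup G) : Set G) ⊓ H : Subgroup G) = 54) : False := by
  classical
  set N := normalizer ((S : Subgroup G) : Set G)
  have hi : H.index = 14 := by
    have := H.card_mul_index
    rw [hH, h.card] at this; omega
  set a : G ⧸ H := ((1 : G) : G ⧸ H)
  let Fs : Set (G ⧸ H) := {p | ∀ s ∈ (S : Subgroup G), s • p = p}
  have h8 : 8 ≤ Fs.ncard := by
    have hsub : MulAction.orbit ↥N a ⊆ Fs := by
      rintro _ ⟨n, rfl⟩ s hs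
      show s • ((n : G) • a) = (n : G) • a
      have hs' : (n : G)⁻¹ * s * n ∈ H := hS (by
        have := (mem_normalizer_iff.1 (inv_mem n.2) s).1 hs
        rwa [inv_inv] at this)
      rw [show s • (n : G) • a = (n : G) • (((n : G)⁻¹ * s * n) • a) by rw [← mul_smul, ← mul_smul]; group]
      congr 1
      show (((n : G)⁻¹ * s * n * 1 : G) : G ⧸ H) = ((1 : G) : G ⧸ H)
      rw [QuotientGroup.eq, mul_one, mul_one]
      exact inv_mem hs'
    have hst : Nat.card ↥(MulAction.stabilizer ↥N a) = 54 := by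
      rw [← hN]
      refine (Nat.card_congr (Equiv.trans ?_ (subgroupOfEquivOfLe (inf_le_left : N ⊓ H ≤ N)).toEquiv))
      refine Equiv.subtypeEquivRight fun n => ?_
      rw [MulAction.mem_stabilizer_iff, mem_subgroupOf, Subgroup.mem_inf]
      show ((((n : G) * 1 : G)) : G ⧸ H) = ((1 : G) : G ⧸ H) ↔ _
      rw [QuotientGroup.eq, mul_one, mul_one, inv_mem_iff]
      exact ⟨fun hn => ⟨n.2, hn⟩, fun hn => hn.2⟩
    have h1 := (MulAction.stabilizer ↥N a).card_mul_index
    rw [hst, MulAction.index_stabilizer, card_normalizer h S, h16] at h1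
    have := Set.ncard_le_ncard hsub
    omega
  let M := ↥(Fsᶜ : Set (G ⧸ H))
  letI : MulAction ↥(S : Subgroup G) M :=
    { smul := fun s p => ⟨(s : G) • p.1, fun hp => p.2 fun t ht => by
        have h1 := hp ((s : G) * t * (s : G)⁻¹) (mul_mem (mul_mem s.2 ht) (inv_mem s.2))
        rw [← mul_smul, inv_mul_cancel_right, mul_smul] at h1
        exact MulAction.injective (s : G) h1⟩
      one_smul := fun p => Subtype.ext (one_smul G p.1)
      mul_smul := fun x y p => Subtype.ext (mul_smul (x : G) y p.1) }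
  have hinj : Function.Injective (MulAction.toPermHom ↥(S : Subgroup G) M) := by
    rw [injective_iff_map_eq_one]
    intro s hs
    refine Subtype.ext (faithful_cosets' h H (by omega) fun p => ?_)
    by_cases hp : p ∈ Fs
    · exact hp s s.2
    · exact congrArg Subtype.val (DFunLike.congr_fun hs (⟨p, hp⟩ : M))
  have hd := Subgroup.card_dvd_of_injective _ hinj
  rw [card_S h S, Nat.card_perm] at hd
  have hM : Nat.card M ≤ 6 := by
    have : Nat.card M = (Fsᶜ).ncard := rfl
    rw [this, Set.ncard_compl, ← index_eq_card, hi]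
    omega
  exact absurd (hd.trans (Nat.factorial_dvd_factorial hM)) (by decide)
where
  faithful_cosets' (h : Hyp G) (H : Subgroup G) (hi : 3 ≤ H.index) {g : G}
      (hg : ∀ p : G ⧸ H, g • p = p) : g = 1 := by
    have hc : H.normalCore = ⊥ := by
      by_contra hb
      have h1 := Nat.le_of_dvd Nat.card_pos (card_dvd_of_le H.normalCore_le)
      have h2 := H.card_mul_index
      rw [h.card] at h2
      rcases normal_card_cases h H.normalCore hb with e | e <;> rw [e] at h1 <;> nlinarith
    have hm : g ∈ (MulAction.toPermHom G (G ⧸ H)).ker := by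
      rw [MonoidHom.mem_ker]; exact Equiv.ext hg
    rw [← Subgroup.normalCore_eq_ker, hc] at hm
    exact mem_bot.1 hm

variable (h : Hyp G) (hab : AbS G)
include h hab

theorem fix_at_most_four (h28 : Nat.card (Sylow 3 G) = 28) (S : Sylow 3 G) {x : G}
    (hx : x ∈ (S : Subgroup G)) (hx1 : x ≠ 1) : fixCard x = 1 ∨ fixCard x = 4 := by
  classical
  haveI : Fact (Nat.Prime 3) := ⟨Nat.prime_three⟩
  have h16 : compOrder G = 16 := by rw [compOrder, h28]
  have hle : fixCard x ≤ 28 := h28 ▸ Nat.card_le_card_of_injective _ Subtype.val_injective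
  rcases fix_cases h hab S hx hx1 with e | e | e | e
  · exact Or.inl e
  · exact Or.inr e
  · exfalso
    have hx3 := cube h S hx
    set N := normalizer ((S : Subgroup G) : Set G)
    set C := centralizer ({x} : Set G)
    have hSC : (S : Subgroup G) ≤ C := fun s hs => mem_centralizer_singleton_iff.2 (hab S s hs x hx).eq
    obtain ⟨b, hb16, hb⟩ := cN_dvd h hab S hx
    have hC := fix_ab h hab S hx
    rw [hb, e] at hC
    have hCd := card_centralizer_three h hx3 hx1
    have hb4 : b ≤ 4 := by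
      have := Nat.le_of_dvd (by norm_num) hCd
      rw [← hC] at this; omega
    have hb1 : 1 ≤ b := Nat.one_le_iff_ne_zero.2 fun e0 => by
      have : 0 < Nat.card ↥C := Nat.card_pos
      rw [← hC, e0] at this; simp at this
    rw [h16] at hb16
    interval_cases b
    · -- centraliser of order 432, x conjugate to its inverse in the normaliser
      have hk := conj_card N x
      rw [hb, card_normalizer h S, h16] at hk
      set A : Set G := {y | ∃ n ∈ N, n * x * n⁻¹ = y}
      have hA : A.ncard = 16 := by rw [← Nat.card_coe_set_eq]; omega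
      obtain ⟨n, hn, en⟩ : ∃ n ∈ N, n * x * n⁻¹ = x⁻¹ := by
        have hAS : A ⊆ ((S : Subgroup G) : Set G) \ {1} := by
          rintro _ ⟨n, hn, rfl⟩
          refine ⟨(mem_normalizer_iff.1 hn x).1 hx, fun e1 => hx1 ?_⟩
          have : n * x * n⁻¹ = 1 := e1
          rwa [mul_inv_eq_one, mul_eq_left] at this
        have hAS' : (fun y => y⁻¹) '' A ⊆ ((S : Subgroup G) : Set G) \ {1} := by
          rintro _ ⟨y, hy, rfl⟩
          exact ⟨inv_mem (hAS hy).1, fun e1 => (hAS hy).2 (inv_eq_one.1 e1)⟩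
        have h26 : (((S : Subgroup G) : Set G) \ {1}).ncard = 26 := by
          rw [Set.ncard_diff_singleton_of_mem (one_mem (S : Subgroup G)), ← Nat.card_coe_set_eq]
          rw [show Nat.card ↥((S : Subgroup G) : Set G) = 27 from card_S h S]
        obtain ⟨y, hy, hy'⟩ : (A ∩ (fun y => y⁻¹) '' A).Nonempty := by
          by_contra hc
          rw [Set.not_nonempty_iff_eq_empty, ← Set.disjoint_iff_inter_eq_empty] at hc
          have := Set.ncard_le_ncard (Set.union_subset hAS hAS')
          rw [Set.ncard_union_eq hc, Set.ncard_image_of_injective _ inv_injective, hA, h26] at this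
          omega
        obtain ⟨n, hn, rfl⟩ := hy
        obtain ⟨_, ⟨m, hm, rfl⟩, e'⟩ := hy'
        refine ⟨n⁻¹ * m, mul_mem (inv_mem hn) hm, ?_⟩
        have e'' : (m * x * m⁻¹)⁻¹ = n * x * n⁻¹ := e'
        calc n⁻¹ * m * x * (n⁻¹ * m)⁻¹ = n⁻¹ * ((m * x * m⁻¹)⁻¹)⁻¹ * n := by group
          _ = x⁻¹ := by rw [e'']; group
      set M := normalizer ((zpowers x : Subgroup G) : Set G)
      have hM := card_normalizer_real hx3 hx1 en
      rw [← hC] at hM
      have hCM : C ≤ M := centralizer_le_normalizer_zpowers x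
      have hnM : n ∈ M := card_normalizer_real.mem_normalizer_of_forall fun y hy => by
        obtain ⟨j, rfl⟩ := mem_zpowers_iff.1 hy
        rw [← conj_zpow, en, inv_zpow]
        exact inv_mem (zpow_mem (mem_zpowers x) j)
      refine index_fourteen h S h16 M (by rw [hM]) (hSC.trans hCM) ?_
      have hk' := conj_card (N ⊓ M) x
      rw [show N ⊓ M ⊓ C = N ⊓ C by rw [inf_assoc, inf_eq_right.2 hCM], hb] at hk'
      have h2 : ({y | ∃ k ∈ N ⊓ M, k * x * k⁻¹ = y} : Set G) = {x, x⁻¹} := by
        ext y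
        constructor
        · rintro ⟨k, hk2, rfl⟩
          have hk3 : k * x * k⁻¹ ∈ zpowers x := (mem_normalizer_iff.1 hk2.2 x).1 (mem_zpowers x)
          obtain ⟨j, hj⟩ := mem_zpowers_iff.1 hk3
          have e3 : x ^ j = x ^ (j % 3) := by
            conv_lhs => rw [← Int.emod_add_mul_ediv j 3]
            rw [zpow_add, zpow_mul, show x ^ (3 : ℤ) = 1 by exact_mod_cast hx3, one_zpow, mul_one]
          have h0 : j % 3 = 0 ∨ j % 3 = 1 ∨ j % 3 = 2 := by omega
          rw [← hj, e3]
          rcases h0 with h0 | h0 | h0 <;> rw [h0]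
          · exfalso
            rw [e3, h0, zpow_zero] at hj
            exact hx1 (mul_eq_left.1 (mul_inv_eq_one.1 hj.symm))
          · exact Or.inl (zpow_one x)
          · refine Or.inr (eq_inv_of_mul_eq_one_left ?_)
            rw [show x ^ (2 : ℤ) * x = x ^ 3 by group]; exact hx3
        · rintro (rfl | rfl)
          · exact ⟨1, one_mem _, by group⟩
          · exact ⟨n, ⟨hn, hnM⟩, en⟩
      have hne : x ≠ x⁻¹ := fun e2 => hx1 (by
        have h2 : x * x = 1 := by rw [← inv_eq_iff_mul_eq_one]; exact e2.symm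
        calc x = x ^ 3 * (x * x)⁻¹ := by group
          _ = 1 := by rw [hx3, h2, one_mul, inv_one])
      rw [h2, Nat.card_coe_set_eq, Set.ncard_pair hne] at hk'
      show Nat.card ↥(N ⊓ M : Subgroup G) = 54
      omega
    · exact index_fourteen h S h16 C (by rw [← hC]) hSC (by rw [hb])
    · norm_num at hb16
    · exact not_full_centralizer h hx3 hx1 (dvd_of_eq hC)
  · omega

theorem abelian_regular (h28 : Nat.card (Sylow 3 G) = 28) (S Q : Sylow 3 G) (hQ : Q ≠ S) :
    (S : Subgroup G) ⊓ Q = ⊥ := by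
  classical
  have key : ∀ R : Sylow 3 G, R ≠ S → (S : Subgroup G) ⊓ R ≠ ⊥ →
      ∀ x ∈ (S : Subgroup G) ⊓ R, x ≠ 1 →
        ({T | ∃ s ∈ (S : Subgroup G), s • R = T} : Set (Sylow 3 G)) = {T : Sylow 3 G | x ∈ (T : Subgroup G) ∧ T ≠ S} ∧
        Nat.card ↥((S : Subgroup G) ⊓ R : Subgroup G) = 9 := by
    intro R hR _ x hx hx1
    have hsub : ({T | ∃ s ∈ (S : Subgroup G), s • R = T} : Set (Sylow 3 G)) ⊆ {T : Sylow 3 G | x ∈ (T : Subgroup G) ∧ T ≠ S} := by
      rintro _ ⟨s, hs, rfl⟩
      refine ⟨?_, fun e => hR ?_⟩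
      · rw [mem_smul_iff, mul_assoc, (hab S x hx.1 s hs).eq, ← mul_assoc, inv_mul_cancel, one_mul]
        exact hx.2
      · calc R = s⁻¹ • (s • R) := (inv_smul_smul s R).symm
          _ = S := by rw [e]; exact Sylow.smul_eq_iff_mem_normalizer.2 (inv_mem (le_normalizer hs))
    have hFx : ({T : Sylow 3 G | x ∈ (T : Subgroup G) ∧ T ≠ S} : Set (Sylow 3 G)).ncard + 1 = fixCard x := by
      have e1 : fixCard x = ({T : Sylow 3 G | x ∈ (T : Subgroup G)} : Set (Sylow 3 G)).ncard := rfl
      rw [e1, show ({T : Sylow 3 G | x ∈ (T : Subgroup G) ∧ T ≠ S} : Set (Sylow 3 G)) = {T : Sylow 3 G | x ∈ (T : Subgroup G)} \ {S} from rfl]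
      exact Set.ncard_diff_singleton_add_one hx.1
    have h1 := orbit_card h S R
    have h2 := inter_card h hR
    have h3 := Set.ncard_le_ncard hsub
    rw [← Nat.card_coe_set_eq] at h3
    have h4 := fix_at_most_four h hab h28 S hx.1 hx1
    simp only [List.mem_cons, List.not_mem_nil, or_false] at h2
    have h9 : Nat.card ↥((S : Subgroup G) ⊓ R : Subgroup G) = 9 := by
      rcases h2 with e | e | e <;> rw [e] at h1 <;> omega
    refine ⟨Set.eq_of_subset_of_ncard_le hsub ?_, h9⟩
    rw [h9] at h1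
    rw [← Nat.card_coe_set_eq (s := {T | ∃ s ∈ (S : Subgroup G), s • R = T})]
    omega
  by_contra hne
  obtain ⟨x, hx, hx1⟩ := exists_ne_one hne
  obtain ⟨hO, h9⟩ := key Q hQ hne x hx hx1
  set O : Set (Sylow 3 G) := {T | ∃ s ∈ (S : Subgroup G), s • Q = T}
  have hO3 : O.ncard = 3 := by
    have : O.ncard * 9 = 27 := by
      rw [← Nat.card_coe_set_eq, ← h9]
      exact orbit_card h S Q
    omega
  obtain ⟨R, hR, hRO⟩ : ∃ R : Sylow 3 G, R ≠ S ∧ R ∉ O := by
    by_contra hc
    push Not at hc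
    have : (({S} : Set (Sylow 3 G))ᶜ).ncard ≤ O.ncard := Set.ncard_le_ncard fun T hT => hc T hT
    rw [Set.ncard_compl, Set.ncard_singleton, h28, hO3] at this
    omega
  by_cases hRne : (S : Subgroup G) ⊓ R = ⊥
  · have h1 := orbit_card h S R
    rw [hRne, card_bot, mul_one, Nat.card_coe_set_eq] at h1
    have hsub : ({T | ∃ s ∈ (S : Subgroup G), s • R = T} : Set (Sylow 3 G)) ⊆ (insert S O)ᶜ := by
      rintro _ ⟨s, hs, rfl⟩ (e | ⟨t, ht, e⟩)
      · exact hR (by
          calc R = s⁻¹ • (s • R) := (inv_smul_smul s R).symm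
            _ = S := by rw [e]; exact Sylow.smul_eq_iff_mem_normalizer.2 (inv_mem (le_normalizer hs)))
      · exact hRO ⟨s⁻¹ * t, mul_mem (inv_mem hs) ht, by rw [mul_smul, e, inv_smul_smul]⟩
    have h2 := Set.ncard_le_ncard hsub
    rw [Set.ncard_compl, h28, Set.ncard_insert_of_notMem (fun hS => by
      rw [hO] at hS; exact hS.2 rfl), hO3] at h2
    omega
  · obtain ⟨w, hw, hw1⟩ := exists_ne_one hRne
    obtain ⟨-, h9'⟩ := key R hR hRne w hw hw1
    obtain ⟨y, hyQ, hyR, hy1⟩ := inf9 h S h9 h9'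
    obtain ⟨eQ, -⟩ := key Q hQ hne y hyQ hy1
    obtain ⟨eR, -⟩ := key R hR hRne y hyR hy1
    apply hRO
    show R ∈ O
    rw [show O = _ from eQ, ← eR]
    exact ⟨1, one_mem _, one_smul G R⟩
where
  exists_ne_one {A : Subgroup G} (hA : A ≠ ⊥) : ∃ x ∈ A, x ≠ 1 := by
    by_contra hc
    push Not at hc
    exact hA (eq_bot_iff.2 fun x hx => mem_bot.2 (hc x hx))
  inf9 (h : Hyp G) (S : Sylow 3 G) {D E : Sylow 3 G}
      (hD : Nat.card ↥((S : Subgroup G) ⊓ D : Subgroup G) = 9) (hE : Nat.card ↥((S : Subgroup G) ⊓ E : Subgroup G) = 9) :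
      ∃ y, y ∈ (S : Subgroup G) ⊓ (D : Subgroup G) ∧ y ∈ (S : Subgroup G) ⊓ (E : Subgroup G) ∧ y ≠ 1 := by
    by_contra hc
    push Not at hc
    let f : ↥((S : Subgroup G) ⊓ D : Subgroup G) × ↥((S : Subgroup G) ⊓ E : Subgroup G) → ↥(S : Subgroup G) :=
      fun p => ⟨p.1.1 * p.2.1, mul_mem p.1.2.1 p.2.2.1⟩
    have hf : Function.Injective f := by
      rintro ⟨⟨a, ha⟩, ⟨b, hb⟩⟩ ⟨⟨a', ha'⟩, ⟨b', hb'⟩⟩ e
      have e' : a * b = a' * b' := congrArg Subtype.val e
      have e2 : a'⁻¹ * a = b' * b⁻¹ := by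
        rw [eq_mul_inv_iff_mul_eq, mul_assoc, e', inv_mul_cancel_left]
      have h1 := hc _ (Subgroup.mul_mem _ (Subgroup.inv_mem _ ha') ha)
        (e2 ▸ Subgroup.mul_mem _ hb' (Subgroup.inv_mem _ hb))
      have h2 : a = a' := (inv_mul_eq_one.1 h1).symm
      subst h2
      have h3 : b = b' := mul_left_cancel e'
      subst h3
      rfl
    have := Nat.card_le_card_of_injective f hf
    rw [Nat.card_prod, hD, hE, card_S h S] at this
    omega

end CfsgLib.Recog.G2TwoSpec
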