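import Cfsg.Agent.Lib.Recog.G2TwoSpec.ExtraWeak

/-!
# With 28 non-abelian Sylow 3-subgroups any two meet trivially
-/

set_option autoImplicit false
set_option linter.unusedSectionVars false
set_option linter.style.haveILetI false

open Subgroup
open scoped Pointwise

namespace CfsgLib.Recog.G2TwoSpec

variable {G : Type*} [Group G] [Finite G] (h : Hyp G)
include h

theorem nontrivial_mem {A : Subgroup G} (hA : A ≠ ⊥) : ∃ x ∈ A, x ≠ 1 := by
  by_contra hc
  push Not at hc
  exact hA (eq_bot_iff.2 fun x hx => mem_bot.2 (hc x hx))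

theorem line_class {S : Sylow 3 G} {z x y : G} (e : Ex S z) (hx : x ∈ (S : Subgroup G))
    (hxz : x ∉ zpowers z) (hy : y ∈ plane z x) (hyz : y ∉ zpowers z) :
    ∃ s ∈ (S : Subgroup G), y = s * x * s⁻¹ ∨ y = (s * x * s⁻¹)⁻¹ := by
  obtain ⟨u, hu, hux⟩ := e.line h hx hxz
  have huz : u * z * u⁻¹ = z := mul_inv_eq_iff_eq_mul.2 (e.central u hu).eq.symm
  have hpow : ∀ k : ℕ, u ^ k * x * (u ^ k)⁻¹ = x * z ^ k := by
    intro k
    induction k with
    | zero => simp
    | succ k ih =>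
      calc u ^ (k + 1) * x * (u ^ (k + 1))⁻¹ = u * (u ^ k * x * (u ^ k)⁻¹) * u⁻¹ := by rw [pow_succ']; group
        _ = (u * x * u⁻¹) * (u * z * u⁻¹) ^ k := by rw [ih, conj_pow]; group
        _ = x * z ^ (k + 1) := by rw [hux, huz, pow_succ', mul_assoc]
  obtain ⟨a, b, ha, -, rfl⟩ := plane_elts h e hx hy
  have hz3 := cube h S e.mem
  have hx3 := cube h S hx
  interval_cases a
  · exact absurd (by rw [pow_zero, one_mul]; exact pow_mem (mem_zpowers z) b) hyz
  · exact ⟨u ^ b, pow_mem hu b, Or.inl (by rw [hpow, pow_one])⟩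
  · refine ⟨u ^ (2 * b), pow_mem hu _, Or.inr ?_⟩
    rw [hpow]
    have hxz' : Commute x (z ^ b) := (e.central x hx).symm.pow_right b
    refine eq_inv_of_mul_eq_one_left ?_
    calc x ^ 2 * z ^ b * (x * z ^ (2 * b)) = x ^ 2 * (z ^ b * x) * z ^ (2 * b) := by group
      _ = x ^ 2 * (x * z ^ b) * z ^ (2 * b) := by rw [hxz'.eq]
      _ = x ^ 3 * z ^ (3 * b) := by
        rw [show 3 * b = b + 2 * b by ring, pow_add z, pow_succ x 2]; simp only [mul_assoc]
      _ = 1 := by rw [hx3, pow_mul, hz3, one_pow, one_mul]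

/-- With 28 Sylow subgroups the non-abelian ones meet trivially. -/
theorem extra_regular (h28 : Nat.card (Sylow 3 G) = 28) (S : Sylow 3 G) {z : G} (e : Ex S z)
    (Q : Sylow 3 G) (hQ : Q ≠ S) : (S : Subgroup G) ⊓ Q = ⊥ := by
  classical
  haveI : Fact (Nat.Prime 3) := ⟨Nat.prime_three⟩
  haveI : Fact (Nat.Prime 2) := ⟨Nat.prime_two⟩
  haveI := Fintype.ofFinite G
  haveI := Fintype.ofFinite (Sylow 3 G)
  have h16 : compOrder G = 16 := by rw [compOrder, h28]
  set N := normalizer ((S : Subgroup G) : Set G)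
  have hsmul_ne : ∀ s ∈ N, ∀ R : Sylow 3 G, R ≠ S → s • R ≠ S := by
    intro s hs R hR e'
    exact hR (by
      calc R = s⁻¹ • (s • R) := (inv_smul_smul s R).symm
        _ = S := by rw [e']; exact Sylow.smul_eq_iff_mem_normalizer.2 (inv_mem hs))
  have hzR : ∀ R : Sylow 3 G, R ≠ S → z ∉ (R : Subgroup G) := fun R hR hz => hR (center_only h h28 S e R hz)
  have hsmall : ∀ R : Sylow 3 G, R ≠ S →
      Nat.card ↥((S : Subgroup G) ⊓ R : Subgroup G) = 1 ∨ Nat.card ↥((S : Subgroup G) ⊓ R : Subgroup G) = 3 := by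
    intro R hR
    have h1 := inter_card h hR
    have h2 := not_inter_nine_of_notMem h e (hzR R hR)
    simp only [List.mem_cons, List.not_mem_nil, or_false] at h1
    omega
  by_cases hall : ∃ R : Sylow 3 G, R ≠ S ∧ (S : Subgroup G) ⊓ R = ⊥
  · obtain ⟨R, hR, hR0⟩ := hall
    have h1 := orbit_card h S R
    rw [hR0, card_bot, mul_one] at h1
    have hsub : ({T | ∃ s ∈ (S : Subgroup G), s • R = T} : Set (Sylow 3 G)) ⊆ ({S} : Set (Sylow 3 G))ᶜ := by
      rintro _ ⟨s, hs, rfl⟩; exact hsmul_ne s (le_normalizer hs) R hR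
    have heq := Set.eq_of_subset_of_ncard_le hsub (by
      rw [Set.ncard_compl, Set.ncard_singleton, h28, ← Nat.card_coe_set_eq, h1])
    obtain ⟨s, hs, rfl⟩ : Q ∈ ({T | ∃ s ∈ (S : Subgroup G), s • R = T} : Set (Sylow 3 G)) := heq ▸ hQ
    refine eq_bot_iff.2 fun y hy => ?_
    have hy' := (inter_smul h S hs R y).1 hy
    rw [hR0, mem_bot] at hy'
    rw [mem_bot, show y = s * (s⁻¹ * y * s) * s⁻¹ by group, hy']
    group
  exfalso
  push Not at hall
  have h3 : ∀ R : Sylow 3 G, R ≠ S → Nat.card ↥((S : Subgroup G) ⊓ R : Subgroup G) = 3 := by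
    intro R hR
    rcases hsmall R hR with h1 | h1
    · exact absurd (eq_bot_of_card_eq _ h1) (hall R hR)
    · exact h1
  -- the plane of a point
  let pl : Sylow 3 G → Subgroup G := fun R => ((S : Subgroup G) ⊓ R) ⊔ zpowers z
  have hpl : ∀ R : Sylow 3 G, R ≠ S → ∀ y ∈ (S : Subgroup G) ⊓ (R : Subgroup G), y ≠ 1 →
      pl R = plane z y ∧ y ∉ zpowers z ∧ y ∈ (S : Subgroup G) := by
    intro R hR y hy hy1
    have hyz : y ∉ zpowers z := fun hyz => by
      rcases e.mem_zpowers_cases h hyz with h1 | h1 | h1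
      · exact hy1 h1
      · exact hzR R hR (h1 ▸ hy.2)
      · exact hzR R hR (by rw [← inv_inv z, ← h1]; exact inv_mem hy.2)
    have heq : (S : Subgroup G) ⊓ R = zpowers y :=
      (eq_of_le_of_card_ge (zpowers_le.2 hy) (by
        rw [h3 R hR, Nat.card_zpowers, orderOf_eq_prime (cube h S hy.1) hy1])).symm
    exact ⟨by simp only [pl, plane, heq], hyz, hy.1⟩
  let cls : G → Finset (Sylow 3 G) := fun x => Finset.univ.filter fun R => R ≠ S ∧ pl R = plane z x
  let A : G → Finset (Sylow 3 G) := fun y => Finset.univ.filter fun R => R ≠ S ∧ y ∈ (R : Subgroup G)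
  have hAfix : ∀ y ∈ (S : Subgroup G), fixCard y = (A y).card + 1 := by
    intro y hy
    have e1 : fixCard y = ({T : Sylow 3 G | y ∈ (T : Subgroup G)} : Set (Sylow 3 G)).ncard := rfl
    have e2 : ((A y : Finset (Sylow 3 G)) : Set (Sylow 3 G)) = {T : Sylow 3 G | y ∈ (T : Subgroup G)} \ {S} := by
      ext T
      simp [A, and_comm]
    rw [e1, ← Set.ncard_coe_finset, e2]
    exact (Set.ncard_diff_singleton_add_one (show S ∈ {T : Sylow 3 G | y ∈ (T : Subgroup G)} from hy)).symm
  have hAcard : ∀ x ∈ (S : Subgroup G), x ∉ zpowers z → ∀ y ∈ plane z x, y ∉ zpowers z → (A y).card = (A x).card := by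
    intro x hx hxz y hy hyz
    have hconj : ∀ s ∈ (S : Subgroup G), ∀ w : G, (A (s * w * s⁻¹)).card = (A w).card := by
      intro s hs w
      refine Finset.card_bij' (fun R _ => s⁻¹ • R) (fun R _ => s • R) ?_ ?_ ?_ ?_
      · intro R hR
        simp only [A, Finset.mem_filter, Finset.mem_univ, true_and] at hR ⊢
        refine ⟨hsmul_ne _ (inv_mem (le_normalizer hs)) R hR.1, ?_⟩
        rw [mem_smul_iff, inv_inv]; exact hR.2
      · intro R hR
        simp only [A, Finset.mem_filter, Finset.mem_univ, true_and] at hR ⊢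
        refine ⟨hsmul_ne _ (le_normalizer hs) R hR.1, ?_⟩
        rw [mem_smul_iff, show s⁻¹ * (s * w * s⁻¹) * s = w by group]; exact hR.2
      · exact fun R _ => smul_inv_smul s R
      · exact fun R _ => inv_smul_smul s R
    obtain ⟨s, hs, h1 | h1⟩ := line_class h e hx hxz hy hyz
    · rw [h1]; exact hconj s hs x
    · rw [h1, ← hconj s hs x]
      refine congrArg Finset.card (Finset.filter_congr fun R _ => ?_)
      rw [inv_mem_iff]
  have hcls3 : ∀ x ∈ (S : Subgroup G), x ∉ zpowers z → (cls x).card = 3 * (A x).card := by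
    intro x hx hxz
    let Y : Finset G := Finset.univ.filter fun y => y ∈ plane z x ∧ y ∉ zpowers z
    have hY : Y.card = 6 := by
      have e2 : ((Y : Finset G) : Set G) = (plane z x : Set G) \ (zpowers z : Set G) := by
        ext y; simp [Y]
      rw [← Set.ncard_coe_finset, e2, Set.ncard_diff (fun y hy => (le_sup_right : zpowers z ≤ plane z x) hy),
        ← Nat.card_coe_set_eq, ← Nat.card_coe_set_eq]
      show Nat.card ↥(plane z x) - Nat.card ↥(zpowers z) = 6
      rw [e.card_plane h hx hxz, e.card_zpowers h]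
    have key := Finset.sum_card_bipartiteAbove_eq_sum_card_bipartiteBelow
      (s := Y) (t := cls x) (fun (y : G) (R : Sylow 3 G) => y ∈ (R : Subgroup G))
    have hleft : ∀ y ∈ Y, (Finset.bipartiteAbove (fun (y : G) (R : Sylow 3 G) => y ∈ (R : Subgroup G)) (cls x) y).card = (A x).card := by
      intro y hy
      obtain ⟨hyP, hyz⟩ : y ∈ plane z x ∧ y ∉ zpowers z := by simpa [Y] using hy
      rw [← hAcard x hx hxz y hyP hyz]
      refine congrArg Finset.card ?_
      ext R
      simp only [Finset.mem_bipartiteAbove, cls, A, Finset.mem_filter, Finset.mem_univ, true_and]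
      refine ⟨fun hR => ⟨hR.1.1, hR.2⟩, fun hR => ⟨⟨hR.1, ?_⟩, hR.2⟩⟩
      have hyS := e.plane_le h hx hyP
      rw [(hpl R hR.1 y ⟨hyS, hR.2⟩ (fun e1 => hyz (e1 ▸ one_mem _))).1]
      exact (e.plane_eq h (e.plane_le h hx) (e.card_plane h hx hxz) hyP hyz).symm
    have hright : ∀ R ∈ cls x, (Finset.bipartiteBelow (fun (y : G) (R : Sylow 3 G) => y ∈ (R : Subgroup G)) Y R).card = 2 := by
      intro R hR
      obtain ⟨hRS, hRP⟩ : R ≠ S ∧ pl R = plane z x := by simpa [cls] using hR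
      have e2 : ((Finset.bipartiteBelow (fun (y : G) (R : Sylow 3 G) => y ∈ (R : Subgroup G)) Y R : Finset G) : Set G) =
          (((S : Subgroup G) ⊓ R : Subgroup G) : Set G) \ {1} := by
        ext y
        simp only [Finset.coe_bipartiteBelow, Set.mem_setOf_eq, Y, Finset.mem_filter, Finset.mem_univ, true_and,
          Set.mem_diff, SetLike.mem_coe, Set.mem_singleton_iff, Subgroup.mem_inf]
        refine ⟨fun hy => ⟨⟨e.plane_le h hx hy.1.1, hy.2⟩, fun e1 => hy.1.2 (e1 ▸ one_mem _)⟩, fun hy => ⟨?_, hy.1.2⟩⟩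
        obtain ⟨e1, hyz, -⟩ := hpl R hRS y ⟨hy.1.1, hy.1.2⟩ hy.2
        refine ⟨?_, hyz⟩
        rw [← hRP]
        exact (le_sup_left : (S : Subgroup G) ⊓ R ≤ pl R) ⟨hy.1.1, hy.1.2⟩
      rw [← Set.ncard_coe_finset, e2, Set.ncard_diff_singleton_of_mem (one_mem ((S : Subgroup G) ⊓ R)),
        ← Nat.card_coe_set_eq]
      show Nat.card ↥((S : Subgroup G) ⊓ R : Subgroup G) - 1 = 2
      rw [h3 R hRS]
    rw [Finset.sum_congr rfl hleft, Finset.sum_congr rfl hright, Finset.sum_const, Finset.sum_const, hY,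
      smul_eq_mul, smul_eq_mul] at key
    omega
  have horb : ∀ R : Sylow 3 G, R ≠ S →
      ({T | ∃ s ∈ (S : Subgroup G), s • R = T} : Set (Sylow 3 G)) ⊆ {T | T ≠ S ∧ pl T = pl R} ∧
      ({T | ∃ s ∈ (S : Subgroup G), s • R = T} : Set (Sylow 3 G)).ncard = 9 := by
    intro R hR
    refine ⟨?_, ?_⟩
    · rintro _ ⟨s, hs, rfl⟩
      refine ⟨hsmul_ne s (le_normalizer hs) R hR, ?_⟩
      obtain ⟨y, hy, hy1⟩ := nontrivial_mem h (hall R hR)
      obtain ⟨eR, hyz, hyS⟩ := hpl R hR y hy hy1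
      have hy' : s * y * s⁻¹ ∈ (S : Subgroup G) ⊓ ((s • R : Sylow 3 G) : Subgroup G) := by
        rw [inter_smul h S hs, show s⁻¹ * (s * y * s⁻¹) * s = y by group]; exact hy
      have hy1' : s * y * s⁻¹ ≠ 1 := fun e1 => hy1 (by
        rwa [mul_inv_eq_one, mul_eq_left] at e1)
      obtain ⟨eR', hyz', -⟩ := hpl _ (hsmul_ne s (le_normalizer hs) R hR) _ hy' hy1'
      rw [eR, eR']
      exact (e.plane_eq h (e.plane_le h hyS) (e.card_plane h hyS hyz)
        (e.nine_normal h (e.plane_le h hyS) (e.card_plane h hyS hyz) hs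
          ((le_sup_left : zpowers y ≤ plane z y) (mem_zpowers y))) hyz').symm
    · have h1 := orbit_card h S R
      rw [h3 R hR, Nat.card_coe_set_eq] at h1
      omega
  have hcls_nine : ∀ x ∈ (S : Subgroup G), x ∉ zpowers z → 9 ∣ (cls x).card := by
    intro x hx hxz
    have := nine_dvd h S (fun R => R ≠ S ∧ pl R = plane z x) (fun s hs R hR => by
      obtain ⟨hT, ep⟩ := (horb R hR.1).1 ⟨s, hs, rfl⟩
      exact ⟨hT, ep.trans hR.2⟩) (fun R hR => (h3 R hR.1).le)
    rwa [Nat.card_eq_fintype_card, Fintype.card_subtype] at this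
  have hothers : (Finset.univ.filter fun R : Sylow 3 G => R ≠ S).card = 27 := by
    rw [← Fintype.card_subtype, ← Nat.card_eq_fintype_card]; exact card_others S h28
  -- every class is one orbit
  have hone : ∀ x ∈ (S : Subgroup G), x ∉ zpowers z → (cls x).card ≤ 9 := by
    intro x hx hxz
    by_contra hgt
    obtain ⟨t, ht⟩ := hcls_nine x hx hxz
    have h18 : 18 ≤ (cls x).card := by omega
    have h27 : (cls x).card ≤ 27 := hothers ▸ Finset.card_le_card (fun R hR => by
      simp only [cls, Finset.mem_filter, Finset.mem_univ, true_and] at hR ⊢; exact hR.1)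
    have hAx := hcls3 x hx hxz
    have hfix := hAfix x hx
    set f := fixCard x
    have hfv : f = 7 ∨ f = 10 := by omega
    have hx3 := cube h S hx
    have hmul := fixCard_mul h S hx3
    rw [h16] at hmul
    set K : Set G := {y | y ∈ N ∧ IsConj x y}
    have hKsub : K ⊆ (plane z x : Set G) \ (zpowers z : Set G) := by
      rintro y ⟨hyN, hyc⟩
      obtain ⟨g, rfl⟩ := isConj_iff.1 hyc
      have hyS : g * x * g⁻¹ ∈ (S : Subgroup G) := mem_of_normalizer h S hyN (by
        rw [conj_pow, hx3, mul_one, mul_inv_cancel])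
      have hy3 := cube h S hyS
      have hfy : fixCard (g * x * g⁻¹) = f := Nat.card_congr
        { toFun := fun R => ⟨g⁻¹ • R.1, by rw [mem_smul_iff, inv_inv]; exact R.2⟩
          invFun := fun R => ⟨g • R.1, by rw [mem_smul_iff, show g⁻¹ * (g * x * g⁻¹) * g = x by group]; exact R.2⟩
          left_inv := fun R => Subtype.ext (smul_inv_smul g R.1)
          right_inv := fun R => Subtype.ext (inv_smul_smul g R.1) }
      set y := g * x * g⁻¹
      have hyz : y ∉ zpowers z := by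
        intro hyz
        have hfz : fixCard y = 1 := by
          haveI : Unique {R : Sylow 3 G // y ∈ (R : Subgroup G)} :=
            { default := ⟨S, hyS⟩
              uniq := fun R => Subtype.ext (by
                by_contra hne
                rcases e.mem_zpowers_cases h hyz with h1 | h1 | h1
                · have : f = 28 := by
                    rw [← hfy, ← h28, h1]
                    exact Nat.card_congr (Equiv.subtypeUnivEquiv fun R => one_mem _)
                  omega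
                · exact hzR R.1 hne (h1 ▸ R.2)
                · exact hzR R.1 hne (by rw [← inv_inv z, ← h1]; exact inv_mem R.2)) }
          exact Nat.card_unique
        omega
      refine ⟨?_, hyz⟩
      have hAy := hcls3 y hyS hyz
      have hfy' := hAfix y hyS
      rw [hfy] at hfy'
      by_contra hnot
      have hdis : Disjoint (cls x) (cls y) := by
        rw [Finset.disjoint_left]
        intro R hR hR'
        simp only [cls, Finset.mem_filter, Finset.mem_univ, true_and] at hR hR'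
        exact hnot ((hR.2.symm.trans hR'.2).symm.le ((le_sup_left : zpowers y ≤ plane z y) (mem_zpowers y)))
      have := Finset.card_le_card (show cls x ∪ cls y ⊆ Finset.univ.filter fun R : Sylow 3 G => R ≠ S from
        fun R hR => by
          simp only [Finset.mem_union, cls, Finset.mem_filter, Finset.mem_univ, true_and] at hR ⊢
          rcases hR with hR | hR <;> exact hR.1)
      rw [Finset.card_union_of_disjoint hdis, hothers] at this
      omega
    have hK6 : Nat.card ↥K ≤ 6 := by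
      rw [Nat.card_coe_set_eq]
      refine (Set.ncard_le_ncard hKsub).trans (le_of_eq ?_)
      rw [Set.ncard_diff (fun y hy => (le_sup_right : zpowers z ≤ plane z x) hy), ← Nat.card_coe_set_eq,
        ← Nat.card_coe_set_eq]
      show Nat.card ↥(plane z x) - Nat.card ↥(zpowers z) = 6
      rw [e.card_plane h hx hxz, e.card_zpowers h]
    have hK3 : 3 ∣ Nat.card ↥K := by
      letI : MulAction ↥(S : Subgroup G) ↥K :=
        { smul := fun s y => ⟨(s : G) * y.1 * (s : G)⁻¹, N.mul_mem (N.mul_mem (le_normalizer s.2) y.2.1)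
            (N.inv_mem (le_normalizer s.2)), y.2.2.trans (isConj_iff.2 ⟨(s : G), rfl⟩)⟩
          one_smul := fun y => Subtype.ext (show (1 : G) * y.1 * (1 : G)⁻¹ = y.1 by group)
          mul_smul := fun a b y => Subtype.ext (show (a : G) * b * y.1 * ((a : G) * b)⁻¹ =
            a * ((b : G) * y.1 * (b : G)⁻¹) * (a : G)⁻¹ by group) }
      have hmod := S.2.card_modEq_card_fixedPoints ↥K
      haveI : IsEmpty ↥(MulAction.fixedPoints ↥(S : Subgroup G) ↥K) := ⟨fun y => (hKsub y.1.2).2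
        (e.cen _ (e.plane_le h hx (hKsub y.1.2).1) fun s hs =>
          (show Commute s (y.1 : G) from mul_inv_eq_iff_eq_mul.1 (congrArg Subtype.val (y.2 ⟨s, hs⟩))).symm)⟩
      rw [Nat.card_of_isEmpty (α := ↥(MulAction.fixedPoints ↥(S : Subgroup G) ↥K))] at hmod
      exact Nat.modEq_zero_iff_dvd.1 hmod
    have hC := card_centralizer_three h hx3 (fun e1 => hxz (e1 ▸ one_mem _))
    have key : ∀ c ∈ Nat.divisors 1728, ∀ k ≤ 6, 3 ∣ k → 7 * (27 * 16) ≠ c * k ∧ 10 * (27 * 16) ≠ c * k := by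
      decide +kernel
    have hk := key _ (Nat.mem_divisors.2 ⟨hC, by norm_num⟩) (Nat.card ↥K) hK6 hK3
    rcases hfv with hf | hf <;> rw [show fixCard x = f from rfl, hf] at hmul
    · exact hk.1 hmul
    · exact hk.2 hmul
  -- the points with the same plane form one orbit
  have horb_eq : ∀ R T : Sylow 3 G, R ≠ S → T ≠ S → pl T = pl R → ∃ s ∈ (S : Subgroup G), s • R = T := by
    intro R T hR hT hp
    obtain ⟨y, hy, hy1⟩ := nontrivial_mem h (hall R hR)
    obtain ⟨eR, hyz, hyS⟩ := hpl R hR y hy hy1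
    have hsub : ({U | ∃ s ∈ (S : Subgroup G), s • R = U} : Set (Sylow 3 G)) ⊆ ((cls y : Finset (Sylow 3 G)) : Set (Sylow 3 G)) := by
      intro U hU
      obtain ⟨hU1, hU2⟩ := (horb R hR).1 hU
      simp only [cls, Finset.coe_filter, Finset.mem_univ, true_and, Set.mem_setOf_eq]
      exact ⟨hU1, hU2.trans eR⟩
    have heq := Set.eq_of_subset_of_ncard_le hsub (by
      rw [Set.ncard_coe_finset, (horb R hR).2]; exact hone y hyS hyz)
    have : T ∈ ((cls y : Finset (Sylow 3 G)) : Set (Sylow 3 G)) := by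
      simp only [cls, Finset.coe_filter, Finset.mem_univ, true_and, Set.mem_setOf_eq]
      exact ⟨hT, hp.trans eR⟩
    rw [← heq] at this
    exact this
  -- an element of order a power of two centralising the Sylow subgroup
  obtain ⟨T, hTN, hTc, hT2, hST, hSTb⟩ := exists_complement h S
  let Oth := Finset.univ.filter fun R : Sylow 3 G => R ≠ S
  let PP : Finset (Subgroup G) := Oth.image pl
  have hPP3 : PP.card = 3 := by
    have h1 := Finset.card_eq_sum_card_image pl Oth
    have h2 : ∀ P ∈ PP, (Oth.filter fun R => pl R = P).card = 9 := by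
      intro P hP
      obtain ⟨R, hR, rfl⟩ := Finset.mem_image.1 hP
      have hRS : R ≠ S := (Finset.mem_filter.1 hR).2
      obtain ⟨y, hy, hy'⟩ := nontrivial_mem h (hall R hRS)
      obtain ⟨eR, hyz, hyS⟩ := hpl R hRS y hy hy'
      have e2 : (Oth.filter fun U => pl U = pl R) = cls y := by
        ext U
        simp only [Oth, cls, Finset.mem_filter, Finset.mem_univ, true_and, eR]
      rw [e2]
      refine le_antisymm (hone y hyS hyz) ?_
      obtain ⟨c, hc⟩ := hcls_nine y hyS hyz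
      have hpos : 0 < (cls y).card := Finset.card_pos.2
        ⟨R, by simp only [cls, Finset.mem_filter, Finset.mem_univ, true_and]; exact ⟨hRS, eR⟩⟩
      omega
    rw [hothers, Finset.sum_congr rfl h2, Finset.sum_const, smul_eq_mul] at h1
    show (Oth.image pl).card = 3
    change 27 = PP.card * 9 at h1
    show PP.card = 3
    omega
  have hmapP : ∀ t ∈ N, ∀ P ∈ PP, P.map (MulAut.conj t).toMonoidHom ∈ PP := by
    intro t ht P hP
    obtain ⟨R, hR, rfl⟩ := Finset.mem_image.1 hP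
    have hRS : R ≠ S := (Finset.mem_filter.1 hR).2
    obtain ⟨y, hy, hy'⟩ := nontrivial_mem h (hall R hRS)
    obtain ⟨eR, -, -⟩ := hpl R hRS y hy hy'
    refine Finset.mem_image.2 ⟨t • R, Finset.mem_filter.2 ⟨Finset.mem_univ _, hsmul_ne t ht R hRS⟩, ?_⟩
    rw [eR, conj_plane h e ht]
    refine (hpl _ (hsmul_ne t ht R hRS) (t * y * t⁻¹) ⟨(mem_normalizer_iff.1 ht y).1 hy.1, ?_⟩ fun e1 => hy' ?_).1
    · show t * y * t⁻¹ ∈ ((t • R : Sylow 3 G) : Subgroup G)
      rw [mem_smul_iff, show t⁻¹ * (t * y * t⁻¹) * t = y by group]; exact hy.2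
    · rwa [mul_inv_eq_one, mul_eq_left] at e1
  letI : MulAction ↥T ↥PP :=
    { smul := fun t P => ⟨P.1.map (MulAut.conj (t : G)).toMonoidHom, hmapP _ (hTN t.2) _ P.2⟩
      one_smul := fun P => Subtype.ext (by
        show P.1.map (MulAut.conj (1 : G)).toMonoidHom = P.1
        rw [map_one]; exact Subgroup.map_id _)
      mul_smul := fun a b P => Subtype.ext (by
        show P.1.map (MulAut.conj ((a : G) * b)).toMonoidHom = (P.1.map _).map _
        rw [Subgroup.map_map]; congr 1; ext w; simp [mul_assoc]) }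
  obtain ⟨P, hP⟩ := hT2.nonempty_fixed_point_of_prime_not_dvd_card ↥PP (by
    rw [Nat.card_eq_fintype_card, Fintype.card_coe, hPP3]; norm_num)
  obtain ⟨R1, hR1, hPR⟩ := Finset.mem_image.1 P.2
  have hR1S : R1 ≠ S := (Finset.mem_filter.1 hR1).2
  obtain ⟨y1, hy1, hy11⟩ := nontrivial_mem h (hall R1 hR1S)
  obtain ⟨eR1, hy1z, hy1S⟩ := hpl R1 hR1S y1 hy1 hy11
  set P1 := plane z y1
  have hP1inv : ∀ t ∈ T, t * y1 * t⁻¹ ∈ P1 := by
    intro t ht
    have hh := congrArg Subtype.val (hP ⟨t, ht⟩)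
    have hh' : P.1.map (MulAut.conj t).toMonoidHom = P.1 := hh
    rw [← hPR, eR1] at hh'
    exact hh'.le ⟨y1, (le_sup_left : zpowers y1 ≤ plane z y1) (mem_zpowers y1), rfl⟩
  have hP19 := e.card_plane h hy1S hy1z
  have hP1S := e.plane_le h hy1S
  obtain ⟨y2, hy2S, hy2P⟩ : ∃ y2 ∈ (S : Subgroup G), y2 ∉ P1 := by
    by_contra hc
    push Not at hc
    have := Nat.le_of_dvd Nat.card_pos (card_dvd_of_le (hc : (S : Subgroup G) ≤ P1))
    rw [card_S h S, hP19] at this
    omega
  -- the class of y1 is stable when the classes are permuted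
  let Z := zpowers z
  have hZn : ∀ t ∈ N, ∀ w ∈ Z, t⁻¹ * w * t ∈ Z := fun t ht w hw => by
    have := (mem_normalizer_iff.1 (normalizer_le_center h e (inv_mem ht)) w).1 hw
    rwa [inv_inv] at this
  let F : ↥T → (G ⧸ Z) × (G ⧸ Z) := fun t =>
    (((t : G) * y1 * (t : G)⁻¹ : G), ((t : G) * y2 * (t : G)⁻¹ : G))
  have himg : ∀ A : Subgroup G, zpowers z ≤ A →
      (((fun a : G => (a : G ⧸ Z)) '' (A : Set G))).ncard * 3 = Nat.card A := by
    intro A hA
    have horbA : MulAction.orbit ↥A ((1 : G) : G ⧸ Z) = (fun a : G => (a : G ⧸ Z)) '' (A : Set G) := by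
      ext p
      constructor
      · rintro ⟨a, rfl⟩
        exact ⟨a.1, a.2, by show ((a.1 : G) : G ⧸ Z) = ((a.1 * 1 : G) : G ⧸ Z); rw [mul_one]⟩
      · rintro ⟨a, ha, rfl⟩
        exact ⟨⟨a, ha⟩, by show ((a * 1 : G) : G ⧸ Z) = ((a : G) : G ⧸ Z); rw [mul_one]⟩
    have hst : Nat.card ↥(MulAction.stabilizer ↥A ((1 : G) : G ⧸ Z)) = 3 := by
      rw [← e.card_zpowers h]
      refine (Nat.card_congr ((Equiv.subtypeEquivRight fun a => ?_).trans (subgroupOfEquivOfLe hA).toEquiv))
      rw [MulAction.mem_stabilizer_iff, mem_subgroupOf]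
      show ((((a : G) * 1 : G)) : G ⧸ Z) = ((1 : G) : G ⧸ Z) ↔ _
      rw [QuotientGroup.eq, mul_one, mul_one, inv_mem_iff]
    have h1 := (MulAction.stabilizer ↥A ((1 : G) : G ⧸ Z)).card_mul_index
    rw [hst, MulAction.index_stabilizer, horbA] at h1
    rw [mul_comm]; exact h1
  have hT16 : Nat.card ↥T = 16 := by rw [hTc, h16]
  -- conjugation fixes the plane of y1 for a fixed point of the classes
  have hnotinj : ∃ t t' : ↥T, t ≠ t' ∧ F t = F t' := by
    by_contra hc
    push Not at hc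
    have hinj : Function.Injective F := fun a b hab => by_contra fun hne => hc a b hne hab
    -- T moves y1 among the planes of the three classes
    let U1 := (fun a : G => (a : G ⧸ Z)) '' ((S : Subgroup G) : Set G)
    let U2 := (fun a : G => (a : G ⧸ Z)) '' (P1 : Set G)
    have hU1 : U1.ncard * 3 = 27 := (himg (S : Subgroup G) (zpowers_le.2 e.mem)).trans (card_S h S)
    have hU2 : U2.ncard * 3 = 9 := (himg P1 le_sup_right).trans hP19
    have hU21 : U2 ⊆ U1 := Set.image_mono hP1S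
    have hsub : Set.range F ⊆ (U2 \ {((1 : G) : G ⧸ Z)}) ×ˢ (U1 \ U2) := by
      rintro _ ⟨t, rfl⟩
      constructor
      · refine ⟨⟨_, hP1inv t t.2, rfl⟩, fun e1 => hy1z ?_⟩
        simp only [F, Set.mem_singleton_iff, QuotientGroup.eq, mul_one, inv_mem_iff] at e1
        have := hZn _ (hTN t.2) _ e1
        rwa [show (t : G)⁻¹ * ((t : G) * y1 * (t : G)⁻¹) * t = y1 by group] at this
      · refine ⟨⟨_, (mem_normalizer_iff.1 (hTN t.2) y2).1 hy2S, rfl⟩, ?_⟩
        rintro ⟨a, ha, e1⟩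
        apply hy2P
        simp only [F, QuotientGroup.eq] at e1
        have hmem : (t : G) * y2 * (t : G)⁻¹ ∈ P1 := by
          have := P1.mul_mem ha ((le_sup_right : zpowers z ≤ P1) e1)
          rwa [mul_inv_cancel_left] at this
        have hback := congrArg Subtype.val (hP t⁻¹)
        have hback' : P.1.map (MulAut.conj ((t⁻¹ : ↥T) : G)).toMonoidHom = P.1 := hback
        rw [← hPR, eR1] at hback'
        have := hback'.le ⟨_, hmem, rfl⟩
        simpa [mul_assoc] using this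
    have h1 := Set.ncard_le_ncard hsub
    rw [Set.ncard_range_of_injective hinj, hT16, Set.ncard_prod, Set.ncard_diff hU21,
      Set.ncard_diff_singleton_of_mem (show ((1 : G) : G ⧸ Z) ∈ U2 from ⟨1, P1.one_mem, rfl⟩)] at h1
    have e3 : U2.ncard = 3 := by omega
    have e9 : U1.ncard = 9 := by omega
    rw [e3, e9] at h1
    omega
  obtain ⟨t, t', htt, hF⟩ := hnotinj
  set w := (t : G)⁻¹ * (t' : G) with hwdef
  have hwT : w ∈ T := T.mul_mem (T.inv_mem t.2) t'.2
  have hwN : w ∈ N := hTN hwT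
  have hw1 : w ≠ 1 := fun e1 => htt (Subtype.ext (inv_mul_eq_one.1 e1))
  have hmod : ∀ y : G, (((t : G) * y * (t : G)⁻¹ : G) : G ⧸ Z) = (((t' : G) * y * (t' : G)⁻¹ : G) : G ⧸ Z) →
      y⁻¹ * (w * y * w⁻¹) ∈ Z := by
    intro y hy
    have := hZn _ (hTN t.2) _ (QuotientGroup.eq.1 hy)
    rwa [show (t : G)⁻¹ * (((t : G) * y * (t : G)⁻¹)⁻¹ * ((t' : G) * y * (t' : G)⁻¹)) * t =
      y⁻¹ * (w * y * w⁻¹) by simp only [hwdef]; group] at this
  have hy2z : y2 ∉ zpowers z := fun hz2 => hy2P ((le_sup_right : zpowers z ≤ P1) hz2)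
  have hgen : P1 ⊔ zpowers y2 = (S : Subgroup G) := by
    refine eq_of_le_of_card_ge (sup_le hP1S (zpowers_le.2 hy2S)) ?_
    have h1 := card_three_group h (S.2.to_le (sup_le hP1S (zpowers_le.2 hy2S)))
    have h2 : 9 ≤ Nat.card ↥(P1 ⊔ zpowers y2) := hP19 ▸ Nat.le_of_dvd Nat.card_pos (card_dvd_of_le le_sup_left)
    have h3' : Nat.card ↥(P1 ⊔ zpowers y2) ≠ 9 := fun e9 => hy2P
      ((eq_of_le_of_card_ge (le_sup_left : P1 ≤ P1 ⊔ zpowers y2) (by rw [e9, hP19])).symm.le
        ((le_sup_right : zpowers y2 ≤ P1 ⊔ zpowers y2) (mem_zpowers y2)))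
    rw [card_S h S]
    simp only [List.mem_cons, List.not_mem_nil, or_false] at h1
    show 27 ≤ Nat.card ↥(P1 ⊔ zpowers y2)
    rcases h1 with h1 | h1 | h1 | h1 <;> first | exact h1.ge | exact absurd h1 h3' | (exfalso; have := h2.trans_eq h1; omega)
  have hSle : ∀ u : G, u * y1 = y1 * u → u * y2 = y2 * u → Commute u z →
      ∀ s ∈ (S : Subgroup G), Commute s u := by
    intro u hu1 hu2 huz s hs
    have hle : (S : Subgroup G) ≤ centralizer ({u} : Set G) := by
      rw [← hgen]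
      refine sup_le (sup_le ?_ ?_) ?_ <;> rw [zpowers_le, mem_centralizer_singleton_iff]
      · exact hu1.symm
      · exact huz.eq.symm
      · exact hu2.symm
    exact mem_centralizer_singleton_iff.1 (hle hs)
  set c0 := y1 * y2 * y1⁻¹ * y2⁻¹ with hc0
  have hc0Z : c0 ∈ Z := e.comm y1 hy1S y2 hy2S
  have hc01 : c0 ≠ 1 := by
    intro e1
    rw [hc0, mul_inv_eq_one, mul_inv_eq_iff_eq_mul] at e1
    exact hy1z (e.cen y1 hy1S fun s hs => (hSle y1 rfl e1 (e.central y1 hy1S).symm s hs).symm)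
  have ha1 := hmod y1 (congrArg Prod.fst hF)
  have ha2 := hmod y2 (congrArg Prod.snd hF)
  have hcen' : ∀ a ∈ Z, ∀ s ∈ (S : Subgroup G), Commute a s := by
    intro a ha s hs
    obtain ⟨j, rfl⟩ := mem_zpowers_iff.1 ha
    exact (e.central s hs).zpow_left j
  have hwz : w * z * w⁻¹ = z := by
    set a := y1⁻¹ * (w * y1 * w⁻¹) with hadef
    set b := y2⁻¹ * (w * y2 * w⁻¹) with hbdef
    have hwc : w * c0 * w⁻¹ = c0 := by
      calc w * c0 * w⁻¹ = (y1 * a) * (y2 * b) * (y1 * a)⁻¹ * (y2 * b)⁻¹ := by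
            simp only [hc0, hadef, hbdef]; group
        _ = y1 * (a * y2) * b * a⁻¹ * y1⁻¹ * b⁻¹ * y2⁻¹ := by group
        _ = y1 * (y2 * a) * b * a⁻¹ * y1⁻¹ * b⁻¹ * y2⁻¹ := by rw [(hcen' a ha1 y2 hy2S).eq]
        _ = y1 * y2 * (a * b) * a⁻¹ * y1⁻¹ * b⁻¹ * y2⁻¹ := by group
        _ = y1 * y2 * (b * a) * a⁻¹ * y1⁻¹ * b⁻¹ * y2⁻¹ := by
            rw [(hcen' a ha1 b (e.plane_le h hy1S ((le_sup_right : zpowers z ≤ P1) ha2))).eq]
        _ = y1 * y2 * (b * y1⁻¹) * b⁻¹ * y2⁻¹ := by group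
        _ = y1 * y2 * (y1⁻¹ * b) * b⁻¹ * y2⁻¹ := by rw [(hcen' b ha2 y1⁻¹ (inv_mem hy1S)).eq]
        _ = c0 := by simp only [hc0]; group
    rcases e.mem_zpowers_cases h hc0Z with h1 | h1 | h1
    · exact absurd h1 hc01
    · rwa [h1] at hwc
    · rw [h1] at hwc
      have := congrArg (fun u => u⁻¹) hwc
      simpa [mul_assoc] using this
  have hwy : ∀ y, y⁻¹ * (w * y * w⁻¹) ∈ Z → y ∈ (S : Subgroup G) → w * y * w⁻¹ = y := by
    intro y hyZ hyS
    set a := y⁻¹ * (w * y * w⁻¹) with hadef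
    obtain ⟨k, hk⟩ := mem_zpowers_iff.1 hyZ
    have haw : w * a * w⁻¹ = a := by rw [← hk, ← conj_zpow, hwz]
    have hit : ∀ m : ℕ, w ^ m * y * (w ^ m)⁻¹ = y * a ^ m := by
      intro m
      induction m with
      | zero => simp
      | succ m ih =>
        calc w ^ (m + 1) * y * (w ^ (m + 1))⁻¹ = w * (w ^ m * y * (w ^ m)⁻¹) * w⁻¹ := by rw [pow_succ']; group
          _ = (w * y * w⁻¹) * (w * a * w⁻¹) ^ m := by rw [ih, conj_pow]; group
          _ = (y * a) * a ^ m := by rw [haw, hadef]; group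
          _ = y * a ^ (m + 1) := by rw [pow_succ', mul_assoc]
    obtain ⟨j, hj⟩ := hT2 ⟨w, hwT⟩
    have hj' : w ^ 2 ^ j = 1 := by simpa using congrArg Subtype.val hj
    have h1 := hit (2 ^ j)
    rw [hj', one_mul, inv_one, mul_one, left_eq_mul] at h1
    have ha3 : a ^ 3 = 1 := cube h S ((zpowers_le.2 e.mem) hyZ)
    have hone : a = 1 := orderOf_eq_one_iff.1 (Nat.eq_one_of_dvd_coprimes
      (Nat.Coprime.pow_left j (by norm_num : Nat.Coprime 2 3)) (orderOf_dvd_of_pow_eq_one h1)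
      (orderOf_dvd_of_pow_eq_one ha3))
    rw [hadef, inv_mul_eq_one] at hone
    exact hone.symm
  have hw_y1 := hwy y1 ha1 hy1S
  have hw_y2 := hwy y2 ha2 hy2S
  have hwS : ∀ s ∈ (S : Subgroup G), Commute s w :=
    hSle w (mul_inv_eq_iff_eq_mul.1 hw_y1) (mul_inv_eq_iff_eq_mul.1 hw_y2) (mul_inv_eq_iff_eq_mul.1 hwz)
  refine hw1 (sylow_faithful h fun R => ?_)
  by_cases hR : R = S
  · rw [hR]; exact Sylow.smul_eq_iff_mem_normalizer.2 hwN
  obtain ⟨y, hy, hy'⟩ := nontrivial_mem h (hall R hR)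
  have hyw : y ∈ (S : Subgroup G) ⊓ ((w • R : Sylow 3 G) : Subgroup G) := by
    refine ⟨hy.1, ?_⟩
    show y ∈ ((w • R : Sylow 3 G) : Subgroup G)
    rw [mem_smul_iff, mul_assoc, (hwS y hy.1).eq, ← mul_assoc, inv_mul_cancel, one_mul]
    exact hy.2
  obtain ⟨s, hs, hsR⟩ := horb_eq R (w • R) hR (hsmul_ne w hwN R hR)
    (((hpl _ (hsmul_ne w hwN R hR) y hyw hy').1).trans (hpl R hR y hy hy').1.symm)
  have hit : ∀ m : ℕ, w ^ m • R = s ^ m • R := by
    intro m
    induction m with
    | zero => simp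
    | succ m ih =>
      rw [pow_succ' w, mul_smul, ih, ← mul_smul, ← ((hwS s hs).pow_left m).eq, mul_smul, ← hsR, ← mul_smul,
        ← pow_succ]
  obtain ⟨j, hj⟩ := hT2 ⟨w, hwT⟩
  have hj' : w ^ 2 ^ j = 1 := by simpa using congrArg Subtype.val hj
  have h1 := hit (2 ^ j)
  rw [hj', one_smul] at h1
  have hs3 := cube h S hs
  have hmod3 : s ^ 2 ^ j = s ^ (2 ^ j % 3) := pow_eq_pow_mod _ hs3
  have h2j : 2 ^ j % 3 = 1 ∨ 2 ^ j % 3 = 2 := by
    clear h1 hj hj' hmod3
    induction j with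
    | zero => exact Or.inl rfl
    | succ j ih => rw [pow_succ, Nat.mul_mod]; rcases ih with e1 | e1 <;> rw [e1] <;> simp
  rw [← hsR]
  rw [hmod3] at h1
  rcases h2j with e1 | e1 <;> rw [e1] at h1
  · rw [pow_one] at h1; exact h1.symm
  · calc s • R = s • (s ^ 2 • R) := by rw [← h1]
      _ = s ^ 3 • R := by rw [← mul_smul, ← pow_succ']
      _ = R := by rw [hs3, one_smul]

end CfsgLib.Recog.G2TwoSpec
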