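import Cfsg.Agent.Lib.Recog.G2TwoSpec.WeakMany

/-!
# 112 non-abelian Sylow 3-subgroups: a fused centre is impossible
-/

set_option autoImplicit false
set_option linter.unusedSectionVars false
set_option linter.style.haveILetI false

open Subgroup
open scoped Pointwise

namespace CfsgLib.Recog.G2TwoSpec

variable {G : Type*} [Group G] [Finite G]

/-- The cosets of a subgroup of index three in one. -/
theorem decomp {A B : Subgroup G} (hAB : A ≤ B) (hc : Nat.card B = 3 * Nat.card A) {x : G}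
    (hx : x ∈ B) (hxA : x ∉ A) (hx3 : x ^ 3 = 1) {b : G} (hb : b ∈ B) :
    ∃ c ∈ A, ∃ j < 3, b = c * x ^ j := by
  let f : ↥A × Fin 3 → ↥B := fun p => ⟨p.1 * x ^ (p.2 : ℕ), mul_mem (hAB p.1.2) (pow_mem hx _)⟩
  have hne : ∀ i j : Fin 3, i ≠ j → x ^ (i : ℕ) * (x ^ (j : ℕ))⁻¹ ∉ A := by
    intro i j hij hmem
    apply hxA
    have hpos : ∀ i j : Fin 3, i ≠ j → ((i : ℕ) + 2 * j) % 3 = 1 ∨ ((i : ℕ) + 2 * j) % 3 = 2 := by decide
    have he : x ^ (i : ℕ) * (x ^ (j : ℕ))⁻¹ = x ^ (((i : ℕ) + 2 * j) % 3) := by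
      rw [mul_inv_eq_iff_eq_mul, ← pow_add]
      have hmod : ∀ n : ℕ, x ^ n = x ^ (n % 3) := fun n => by
        conv_lhs => rw [← Nat.mod_add_div n 3, pow_add, pow_mul, hx3, one_pow, mul_one]
      rw [hmod, hmod (((i : ℕ) + 2 * j) % 3 + j)]
      congr 1
      omega
    rw [he] at hmem
    rcases hpos i j hij with h1 | h1 <;> rw [h1] at hmem
    · simpa using hmem
    · have := mul_mem hmem hmem
      rwa [← pow_add, show 2 + 2 = 3 + 1 from rfl, pow_succ, hx3, one_mul] at this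
  have hf : Function.Injective f := by
    rintro ⟨c, i⟩ ⟨c', j⟩ e
    have e' : c.1 * x ^ (i : ℕ) = c'.1 * x ^ (j : ℕ) := congrArg Subtype.val e
    by_cases hij : i = j
    · subst hij
      exact Prod.ext (Subtype.ext (mul_right_cancel e')) rfl
    · exfalso
      refine hne i j hij ?_
      have : x ^ (i : ℕ) * (x ^ (j : ℕ))⁻¹ = c.1⁻¹ * c'.1 := by
        rw [mul_inv_eq_iff_eq_mul, mul_assoc, ← e', inv_mul_cancel_left]
      rw [this]; exact mul_mem (inv_mem c.2) c'.2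
  obtain ⟨⟨c, j⟩, hcj⟩ := (hf.bijective_of_nat_card_le (by
    rw [hc, Nat.card_prod, Nat.card_fin, mul_comm])).2 ⟨b, hb⟩
  exact ⟨c.1, c.2, j, j.2, (congrArg Subtype.val hcj).symm⟩

/-- An element of order four fixing a line of a plane has square centralising the plane. -/
theorem square_trivial (D : Subgroup G) (hD : Nat.card D = 9) (h3 : ∀ d ∈ D, d ^ 3 = 1)
    {w u : G} (hw : w ∈ D) (hw1 : w ≠ 1) (hu : ∀ d ∈ D, u * d * u⁻¹ ∈ D)
    (huw : u * w * u⁻¹ ∈ zpowers w) (hu4 : u ^ 4 = 1) {d : G} (hd : d ∈ D) :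
    u * u * d * (u * u)⁻¹ = d := by
  haveI : Fact (Nat.Prime 3) := ⟨Nat.prime_three⟩
  have hWc : Nat.card ↥(zpowers w) = 3 := by rw [Nat.card_zpowers]; exact orderOf_eq_prime (h3 w hw) hw1
  have hWD : zpowers w ≤ D := zpowers_le.2 hw
  have hcases : ∀ y ∈ zpowers w, y = 1 ∨ y = w ∨ y = w ^ 2 := by
    intro y hy
    obtain ⟨c, hc, j, hj, rfl⟩ := decomp (A := ⊥) (B := zpowers w) bot_le (by rw [hWc, card_bot]) (mem_zpowers w)
      (fun e => hw1 (mem_bot.1 e)) (h3 w hw) hy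
    rw [mem_bot.1 hc, one_mul]
    interval_cases j <;> simp
  have hw' : u * u * w * (u * u)⁻¹ = w := by
    rcases hcases _ huw with e | e | e
    · exact absurd (by rwa [mul_inv_eq_one, mul_eq_left] at e) hw1
    · calc u * u * w * (u * u)⁻¹ = u * (u * w * u⁻¹) * u⁻¹ := by group
        _ = w := by rw [e, e]
    · calc u * u * w * (u * u)⁻¹ = u * (u * w * u⁻¹) * u⁻¹ := by group
        _ = (u * w * u⁻¹) ^ 2 := by rw [conj_pow, ← e]
        _ = w := by rw [e, ← pow_mul, show 2 * 2 = 3 + 1 from rfl, pow_succ, h3 w hw, one_mul]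
  have hW' : ∀ y ∈ zpowers w, u * u * y * (u * u)⁻¹ = y := by
    intro y hy
    obtain ⟨j, rfl⟩ := mem_zpowers_iff.1 hy
    rw [← conj_zpow, hw']
  by_cases hdW : d ∈ zpowers w
  · exact hW' d hdW
  obtain ⟨c, hc, j, hj, hq⟩ := decomp hWD (by rw [hD, hWc]) hd hdW (h3 d hd) (hu d hd)
  have hj0 : j ≠ 0 := by
    rintro rfl
    rw [pow_zero, mul_one] at hq
    apply hdW
    have hu4' : u⁻¹ = u * u * u := by
      rw [inv_eq_iff_mul_eq_one, ← hu4]; simp [pow_succ, mul_assoc]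
    rw [show d = u⁻¹ * c * u from by rw [← hq]; group, hu4']
    have e : u * u * u * c * u = u * (u * u * c * (u * u)⁻¹) * u⁻¹ * u ^ 4 := by group
    rw [e, hu4, mul_one, hW' c hc]
    obtain ⟨k, rfl⟩ := mem_zpowers_iff.1 hc
    rw [← conj_zpow]
    exact zpow_mem huw k
  have hv : ∃ c' ∈ zpowers w, u * u * d * (u * u)⁻¹ = c' * d := by
    have hcu : u * c * u⁻¹ ∈ zpowers w := by
      obtain ⟨k, rfl⟩ := mem_zpowers_iff.1 hc
      rw [← conj_zpow]; exact zpow_mem huw k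
    have hcomm : ∀ p q : ↥D, p * q = q * p := IsPGroup.commutative_of_card_eq_prime_sq (p := 3) (by rw [hD]; norm_num)
    have hcd : Commute c (d ^ j) := congrArg Subtype.val (hcomm ⟨c, hWD hc⟩ ⟨d ^ j, pow_mem hd j⟩)
    have hjj : d ^ (j * j) = d := by
      interval_cases j
      · exact absurd rfl hj0
      · exact pow_one d
      · rw [show 2 * 2 = 3 + 1 from rfl, pow_succ, h3 d hd, one_mul]
    refine ⟨u * c * u⁻¹ * c ^ j, mul_mem hcu (pow_mem hc j), ?_⟩
    calc u * u * d * (u * u)⁻¹ = u * (u * d * u⁻¹) * u⁻¹ := by group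
      _ = u * (c * d ^ j) * u⁻¹ := by rw [hq]
      _ = u * c * u⁻¹ * (u * d ^ j * u⁻¹) := by group
      _ = u * c * u⁻¹ * (u * d * u⁻¹) ^ j := by rw [conj_pow]
      _ = u * c * u⁻¹ * (c * d ^ j) ^ j := by rw [hq]
      _ = u * c * u⁻¹ * c ^ j * d := by rw [hcd.mul_pow, ← pow_mul, hjj, mul_assoc _ (c ^ j) d]
  obtain ⟨c', hc', hv⟩ := hv
  have h2 : c' * c' = 1 := by
    have e1 : u * u * (u * u * d * (u * u)⁻¹) * (u * u)⁻¹ = d := by
      calc _ = (u * u * (u * u)) * d * (u * u * (u * u))⁻¹ := by group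
        _ = u ^ 4 * d * (u ^ 4)⁻¹ := by rw [show u * u * (u * u) = u ^ 4 by simp [pow_succ, mul_assoc]]
        _ = d := by rw [hu4]; group
    rw [hv, show u * u * (c' * d) * (u * u)⁻¹ = (u * u * c' * (u * u)⁻¹) * (u * u * d * (u * u)⁻¹) by group,
      hW' c' hc', hv, ← mul_assoc, mul_eq_right] at e1
    exact e1
  have h1 : c' = 1 := by
    calc c' = c' ^ 3 * (c' * c')⁻¹ := by group
      _ = 1 := by rw [h3 c' (hWD hc'), h2, one_mul, inv_one]
  rw [hv, h1, one_mul]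

theorem perm_fixed_three : ∀ σ : Equiv.Perm (Fin 3), σ ^ 3 = 1 → ∀ i, σ i = i → σ = 1 := by decide +kernel

theorem perm_two_three : ∀ σ τ : Equiv.Perm (Fin 3), σ ^ 2 = 1 → τ ^ 3 = 1 → τ ≠ 1 →
    (σ * (τ * σ * τ⁻¹)) ^ 3 = 1 ∧ (σ * (τ * σ * τ⁻¹) = 1 → σ = 1) := by decide +kernel

theorem count_key_ten : ∀ c ∈ Nat.divisors 1728, c * 3 ≠ 1080 ∧ c * 6 ≠ 1080 := by decide +kernel

/-- With 112 Sylow subgroups no centre of a non-abelian one is fused inside it. -/
theorem fused_not_112 (h : Hyp G) (h112 : Nat.card (Sylow 3 G) = 112) (S : Sylow 3 G) {z : G}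
    (e : Ex S z) (hnwc : ¬ WC S z) : False := by
  classical
  haveI : Fact (Nat.Prime 3) := ⟨Nat.prime_three⟩
  haveI : Fact (Nat.Prime 2) := ⟨Nat.prime_two⟩
  have h4 := comp_112 h112
  obtain ⟨g0, hg0S, hg0z⟩ : ∃ g : G, g * z * g⁻¹ ∈ (S : Subgroup G) ∧ g * z * g⁻¹ ∉ zpowers z := by
    simpa [WC] using hnwc
  obtain ⟨S'', i, hS'', hPS'', hiL, hinv, hfus⟩ := e.fused h hg0S hg0z (isConj_iff.2 ⟨g0, rfl⟩)
  set D := plane z (g0 * z * g0⁻¹)
  have hD9 : Nat.card D = 9 := e.card_plane h hg0S hg0z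
  have hDS : D ≤ (S : Subgroup G) := e.plane_le h hg0S
  have hzD : z ∈ D := (le_sup_right : zpowers z ≤ D) (mem_zpowers z)
  have hD3 : ∀ d ∈ D, d ^ 3 = 1 := fun d hd => cube h S (hDS hd)
  set H := normalizer (D : Set G)
  have hnormal : ∀ R : Sylow 3 G, D ≤ (R : Subgroup G) → (R : Subgroup G) ≤ H := by
    intro R hR
    obtain ⟨g, rfl⟩ := MulAction.exists_smul_eq G S R
    exact fun s hs => card_normalizer_real.mem_normalizer_of_forall fun y hy =>
      (e.smul g).nine_normal h hR hD9 hs hy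
  have hSH : (S : Subgroup G) ≤ H := hnormal S hDS
  have hS''H : (S'' : Subgroup G) ≤ H := hnormal S'' hPS''
  have hiH : i ∈ H := sup_le hSH hS''H hiL
  set N := normalizer ((S : Subgroup G) : Set G)
  -- an inverter in the normaliser of the Sylow subgroup
  obtain ⟨n0, hn0, hn0D⟩ : ∃ n ∈ N, ∀ d ∈ D, n * d * n⁻¹ = d⁻¹ := by
    let M : Subgroup G :=
      { carrier := {y | y ∈ H ∧ ∃ s ∈ (S : Subgroup G), ∀ d ∈ D, y * d * y⁻¹ = s * d * s⁻¹}
        one_mem' := ⟨one_mem _, 1, one_mem _, fun d _ => rfl⟩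
        mul_mem' := by
          rintro y y' ⟨hy, s, hs, hys⟩ ⟨hy', t, ht, hyt⟩
          refine ⟨mul_mem hy hy', s * t, mul_mem hs ht, fun d hd => ?_⟩
          calc y * y' * d * (y * y')⁻¹ = y * (y' * d * y'⁻¹) * y⁻¹ := by group
            _ = s * (t * d * t⁻¹) * s⁻¹ := by
              rw [hyt d hd, hys _ ((mem_normalizer_iff.1 (hSH ht) d).1 hd)]
            _ = s * t * d * (s * t)⁻¹ := by group
        inv_mem' := by
          rintro y ⟨hy, s, hs, hys⟩
          refine ⟨inv_mem hy, s⁻¹, inv_mem hs, fun d hd => ?_⟩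
          have hd' := (mem_normalizer_iff.1 (inv_mem (hSH hs)) d).1 hd
          have h1 := hys _ hd'
          calc y⁻¹ * d * y⁻¹⁻¹ = y⁻¹ * (s * (s⁻¹ * d * s⁻¹⁻¹) * s⁻¹) * y⁻¹⁻¹ := by group
            _ = y⁻¹ * (y * (s⁻¹ * d * s⁻¹⁻¹) * y⁻¹) * y⁻¹⁻¹ := by rw [h1]
            _ = s⁻¹ * d * s⁻¹⁻¹ := by group }
    have hSM : (S : Subgroup G) ≤ M := fun s hs => ⟨hSH hs, s, hs, fun d _ => rfl⟩
    have hiM : ((i • S : Sylow 3 G) : Subgroup G) ≤ M := by
      intro y hy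
      rw [mem_smul_iff] at hy
      refine ⟨?_, i⁻¹ * y * i, hy, fun d hd => ?_⟩
      · have := mul_mem (mul_mem hiH (hSH hy)) (inv_mem hiH)
        rwa [show i * (i⁻¹ * y * i) * i⁻¹ = y by group] at this
      · have hd1 := (mem_normalizer_iff.1 (inv_mem hiH) d).1 hd
        have h1 : i⁻¹ * d * i⁻¹⁻¹ = d⁻¹ := by
          have := hinv _ hd1
          rw [show i * (i⁻¹ * d * i⁻¹⁻¹) * i⁻¹ = d by group] at this
          rw [← inv_inv (i⁻¹ * d * i⁻¹⁻¹), ← this]
        have h2 := (mem_normalizer_iff.1 (hSH hy) (d⁻¹)).1 (inv_mem hd)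
        calc y * d * y⁻¹ = i * (i⁻¹ * y * i * (i⁻¹ * d * i⁻¹⁻¹) * (i⁻¹ * y * i)⁻¹) * i⁻¹ := by group
          _ = i * ((i⁻¹ * y * i) * d⁻¹ * (i⁻¹ * y * i)⁻¹) * i⁻¹ := by rw [h1]
          _ = i⁻¹ * y * i * d * (i⁻¹ * y * i)⁻¹ := by rw [hinv _ h2]; group
    obtain ⟨k, ⟨hkH, s, hs, hks⟩, hk⟩ := sylow_conj_in S (i • S) hSM hiM
    have hn : k⁻¹ * i ∈ N := by
      refine Sylow.smul_eq_iff_mem_normalizer.1 ?_
      rw [mul_smul, ← hk, inv_smul_smul]
    refine ⟨s * (k⁻¹ * i), mul_mem (le_normalizer hs) hn, fun d hd => ?_⟩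
    have hd' := (mem_normalizer_iff.1 (inv_mem hkH) d⁻¹).1 (inv_mem hd)
    calc s * (k⁻¹ * i) * d * (s * (k⁻¹ * i))⁻¹ = s * (k⁻¹ * (i * d * i⁻¹) * k⁻¹⁻¹) * s⁻¹ := by group
      _ = s * (k⁻¹ * d⁻¹ * k⁻¹⁻¹) * s⁻¹ := by rw [hinv d hd]
      _ = k * (k⁻¹ * d⁻¹ * k⁻¹⁻¹) * k⁻¹ := (hks _ hd').symm
      _ = d⁻¹ := by group
  have hyD : ∀ y ∈ (S : Subgroup G), y⁻¹ * (n0 * y * n0⁻¹) ∈ D := by
    intro y hy
    refine e.cent_nine h hDS hD9 (mul_mem (inv_mem hy) ((mem_normalizer_iff.1 hn0 y).1 hy)) fun d hd => ?_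
    have h1 := hn0D _ ((mem_normalizer_iff.1 (hSH hy) d).1 hd)
    have h2 : n0 * (y * d * y⁻¹) * n0⁻¹ = (n0 * y * n0⁻¹) * d⁻¹ * (n0 * y * n0⁻¹)⁻¹ := by
      rw [← hn0D d hd]; group
    rw [h2] at h1
    have h3 : (n0 * y * n0⁻¹) * d * (n0 * y * n0⁻¹)⁻¹ = y * d * y⁻¹ := by
      apply inv_injective
      rw [← h1]; group
    show y⁻¹ * (n0 * y * n0⁻¹) * d = d * (y⁻¹ * (n0 * y * n0⁻¹))
    calc y⁻¹ * (n0 * y * n0⁻¹) * d
        = y⁻¹ * ((n0 * y * n0⁻¹) * d * (n0 * y * n0⁻¹)⁻¹) * (n0 * y * n0⁻¹) := by group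
      _ = d * (y⁻¹ * (n0 * y * n0⁻¹)) := by rw [h3]; group
  have hNH : N ≤ H := by
    intro τ hτ
    refine card_normalizer_real.mem_normalizer_of_forall fun d hd => ?_
    haveI : ((S : Subgroup G).subgroupOf N).Normal := normal_in_normalizer
    have hcardQ : Nat.card (↥N ⧸ (S : Subgroup G).subgroupOf N) = 2 ^ 2 := by
      have := ((S : Subgroup G).subgroupOf N).card_mul_index
      rw [Nat.card_congr (subgroupOfEquivOfLe le_normalizer).toEquiv, card_S h S, card_normalizer h S, h4, index_eq_card] at this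
      omega
    have hs : τ * n0 * τ⁻¹ * n0⁻¹ ∈ (S : Subgroup G) := by
      have := IsPGroup.commutative_of_card_eq_prime_sq (p := 2) hcardQ
        ((⟨τ⁻¹, inv_mem hτ⟩ : N) : ↥N ⧸ (S : Subgroup G).subgroupOf N) ((⟨n0⁻¹, inv_mem hn0⟩ : N) : ↥N ⧸ (S : Subgroup G).subgroupOf N)
      rw [← QuotientGroup.mk_mul, ← QuotientGroup.mk_mul, QuotientGroup.eq, mem_subgroupOf] at this
      have h2 : (τ⁻¹ * n0⁻¹)⁻¹ * (n0⁻¹ * τ⁻¹) ∈ (S : Subgroup G) := this
      rwa [show (τ⁻¹ * n0⁻¹)⁻¹ * (n0⁻¹ * τ⁻¹) = n0 * τ * n0⁻¹ * τ⁻¹ by group, ← inv_mem_iff,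
        show (n0 * τ * n0⁻¹ * τ⁻¹)⁻¹ = τ * n0 * τ⁻¹ * n0⁻¹ by group] at h2
    set s := τ * n0 * τ⁻¹ * n0⁻¹
    set y := τ * d * τ⁻¹
    have hy : y ∈ (S : Subgroup G) := (mem_normalizer_iff.1 hτ d).1 (hDS hd)
    have h1 : s * (n0 * y * n0⁻¹) * s⁻¹ = y⁻¹ := by
      calc s * (n0 * y * n0⁻¹) * s⁻¹ = τ * (n0 * d * n0⁻¹) * τ⁻¹ := by simp only [s, y]; group
        _ = y⁻¹ := by rw [hn0D d hd]; simp only [y]; group
    set u := y⁻¹ * (n0 * y * n0⁻¹)
    have hu : u ∈ D := hyD y hy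
    have hζ : s * y * s⁻¹ * y⁻¹ ∈ D := zpowers_le.2 hzD (e.comm s hs y hy)
    have hu' : s * u * s⁻¹ ∈ D := (mem_normalizer_iff.1 (hSH hs) u).1 hu
    have h2 : y⁻¹ * y⁻¹ = (s * y * s⁻¹ * y⁻¹) * (y * (s * u * s⁻¹) * y⁻¹) := by
      conv_lhs => arg 1; rw [← h1]
      simp only [u]; group
    have h3 : y⁻¹ * y⁻¹ = y := by
      calc y⁻¹ * y⁻¹ = (y ^ 3)⁻¹ * y := by group
        _ = y := by rw [cube h S hy]; group
    show y ∈ D
    rw [← h3, h2]
    exact mul_mem hζ ((mem_normalizer_iff.1 (hSH hy) _).1 hu')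
  have hH : Nat.card H = 432 := over_432 h h4 S D hDS (by rw [hD9]; norm_num) hNH S'' hS'' hS''H
  have hidx : H.index = 28 := by
    have := H.card_mul_index
    rw [hH, h.card] at this; omega
  set a : G ⧸ H := ((1 : G) : G ⧸ H)
  have hHfix : ∀ k ∈ H, k • a = a := fun k hk => (mk_fixed_iff H k 1).2 (by simpa using hk)
  have hstab : ∀ k : G, k • a = a → k ∈ H := fun k hk => by simpa using (mk_fixed_iff H k 1).1 hk
  -- the plane fixes one point
  have honly : ∀ p : G ⧸ H, (∀ d ∈ D, d • p = p) → p = a := by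
    intro p hp
    obtain ⟨g, rfl⟩ := QuotientGroup.mk_surjective p
    set D1 := D.map (MulAut.conj g⁻¹).toMonoidHom
    have hD1H : D1 ≤ H := by
      rintro _ ⟨d, hd, rfl⟩
      show g⁻¹ * d * g⁻¹⁻¹ ∈ H
      rw [inv_inv]; exact (mk_fixed_iff H d g).1 (hp d hd)
    have hD19 : Nat.card D1 = 9 := by
      rw [card_map_of_injective (MulAut.conj g⁻¹).injective, hD9]
    obtain ⟨R0, hR0⟩ := (((S.2.to_le hDS).map (MulAut.conj g⁻¹).toMonoidHom).of_equiv
      (subgroupOfEquivOfLe hD1H).symm).exists_le_sylow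
    obtain ⟨⟨k, hk⟩, hkR⟩ := MulAction.exists_smul_eq ↥H (S.subtype hSH) R0
    have hD1R : D1 ≤ ((k • S : Sylow 3 G) : Subgroup G) := by
      intro y hy
      have h1 := hR0 (show (⟨y, hD1H hy⟩ : ↥H) ∈ D1.subgroupOf H from hy)
      rw [← hkR, conj_mem_sylow] at h1
      rw [mem_smul_iff]; exact h1
    have hgR : ((g • k • S : Sylow 3 G) : Subgroup G) ≤ H := by
      intro y hy
      rw [mem_smul_iff] at hy
      refine card_normalizer_real.mem_normalizer_of_forall fun d hd => ?_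
      obtain ⟨d', hd', e'⟩ := (e.smul k).nine_normal h hD1R hD19 hy
        (show g⁻¹ * d * g ∈ D1 from ⟨d, hd, by show g⁻¹ * d * g⁻¹⁻¹ = _; rw [inv_inv]⟩)
      have e'' : g⁻¹ * d' * g⁻¹⁻¹ = g⁻¹ * y * g * (g⁻¹ * d * g) * (g⁻¹ * y * g)⁻¹ := e'
      have : d' = y * d * y⁻¹ := by
        calc d' = g * (g⁻¹ * d' * g⁻¹⁻¹) * g⁻¹ := by group
          _ = y * d * y⁻¹ := by rw [e'']; group
      rwa [← this]
    obtain ⟨k', hk', hk'S⟩ := sylow_conj_in S (g • k • S) hSH hgR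
    have hn : k'⁻¹ * (g * k) ∈ N := Sylow.smul_eq_iff_mem_normalizer.1 (by
      rw [mul_smul, mul_smul, ← hk'S, inv_smul_smul])
    have hg : g ∈ H := by
      have := mul_mem (mul_mem hk' (hNH hn)) (inv_mem hk)
      rwa [mul_inv_cancel_left, mul_inv_cancel_right] at this
    exact (QuotientGroup.eq (s := H)).2 (by rw [mul_one]; exact inv_mem hg)
  -- all elements of the plane fix the same number of points
  set f : G → ℕ := fun y => Nat.card ↥(MulAction.fixedBy (G ⧸ H) y)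
  have hfconj : ∀ g y : G, f (g * y * g⁻¹) = f y := fun g y => Nat.card_congr
    { toFun := fun p => ⟨g⁻¹ • p.1, by
        show y • g⁻¹ • p.1 = g⁻¹ • p.1
        have : (g * y * g⁻¹) • p.1 = p.1 := p.2
        rw [eq_inv_smul_iff, ← mul_smul, ← mul_smul]; exact this⟩
      invFun := fun p => ⟨g • p.1, by
        show (g * y * g⁻¹) • g • p.1 = g • p.1
        rw [← mul_smul, inv_mul_cancel_right, mul_smul, show y • p.1 = p.1 from p.2]⟩
      left_inv := fun p => Subtype.ext (smul_inv_smul g p.1)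
      right_inv := fun p => Subtype.ext (inv_smul_smul g p.1) }
  have hfD : ∀ d ∈ D, d ≠ 1 → f d = f z := by
    intro d hd hd1
    obtain ⟨g, -, rfl⟩ := hfus d hd hd1
    exact hfconj g z
  have hf1' : f 1 = 28 := by
    show Nat.card ↥(MulAction.fixedBy (G ⧸ H) (1 : G)) = 28
    rw [MulAction.fixedBy_one_eq_univ, Nat.card_coe_set_eq, Set.ncard_univ, ← index_eq_card, hidx]
  have hfz : f z = 1 := by
    obtain ⟨s, hs, hdvd⟩ := burnside_dvd D (G ⧸ H)
    have hcs : s.card = 9 := by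
      haveI := Fintype.ofFinite ↥D
      rw [Finset.eq_univ_of_forall hs, Finset.card_univ, ← Nat.card_eq_fintype_card, hD9]
    have hrest : ∀ d ∈ s.erase 1, f ((d : ↥D) : G) = f z := fun d hd =>
      hfD d d.2 fun e' => (Finset.mem_erase.1 hd).1 (Subtype.ext e')
    have hsum : ∑ d ∈ s, f (d : G) = 28 + 8 * f z := by
      rw [← Finset.add_sum_erase s _ (hs 1), show f ((1 : ↥D) : G) = 28 from hf1',
        Finset.sum_congr rfl hrest,
        Finset.sum_const, Finset.card_erase_of_mem (hs 1), hcs, smul_eq_mul]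
    rw [hD9, show ∑ d ∈ s, Nat.card ↥(MulAction.fixedBy (G ⧸ H) (d : G)) = 28 + 8 * f z from hsum] at hdvd
    haveI := Fintype.ofFinite ↥D
    haveI := Fintype.ofFinite (G ⧸ H)
    have hkey := Finset.sum_card_bipartiteAbove_eq_sum_card_bipartiteBelow (s := s.erase 1)
      (t := (Finset.univ : Finset (G ⧸ H)).erase a) (fun (d : ↥D) p => (d : G) • p = p)
    have hup : ∀ d ∈ s.erase 1, (Finset.bipartiteAbove (fun (d : ↥D) p => (d : G) • p = p)
        ((Finset.univ : Finset (G ⧸ H)).erase a) d).card = f z - 1 := by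
      intro d hd
      rw [← hfD d d.2 fun e' => (Finset.mem_erase.1 hd).1 (Subtype.ext e'), ← Set.ncard_coe_finset]
      have e2 : ((Finset.bipartiteAbove (fun (d : ↥D) p => (d : G) • p = p)
          ((Finset.univ : Finset (G ⧸ H)).erase a) d : Finset (G ⧸ H)) : Set (G ⧸ H)) =
          MulAction.fixedBy (G ⧸ H) (d : G) \ {a} := by
        ext p
        simp [MulAction.mem_fixedBy, and_comm]
      rw [e2, Set.ncard_diff_singleton_of_mem (show a ∈ MulAction.fixedBy (G ⧸ H) (d : G) from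
        hHfix _ (hSH (hDS d.2)))]
      rfl
    have hdown : ∀ p ∈ (Finset.univ : Finset (G ⧸ H)).erase a,
        (Finset.bipartiteBelow (fun (d : ↥D) p => (d : G) • p = p) (s.erase 1) p).card ≤ 2 := by
      intro p hp
      let St : Subgroup ↥D := (MulAction.stabilizer G p).subgroupOf D
      have hne : St ≠ ⊤ := fun e' => (Finset.mem_erase.1 hp).1 (honly p fun d hd =>
        MulAction.mem_stabilizer_iff.1 (mem_subgroupOf.1 (show (⟨d, hd⟩ : ↥D) ∈ St from e' ▸ mem_top _)))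
      have h1 : Nat.card St ≤ 3 := by
        have h2 := St.card_mul_index
        rw [hD9] at h2
        have h3 : St.index ≠ 1 := fun e' => hne (index_eq_one.1 e')
        generalize St.index = u at h2 h3
        generalize Nat.card St = v at h2 ⊢
        have hu : u ∈ Nat.divisors 9 := Nat.mem_divisors.2 ⟨⟨v, by rw [← h2, mul_comm]⟩, by norm_num⟩
        have key : ∀ u ∈ Nat.divisors 9, u = 1 ∨ u = 3 ∨ u = 9 := by decide
        rcases key u hu with rfl | rfl | rfl <;> omega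
      have e2 : ((Finset.bipartiteBelow (fun (d : ↥D) p => (d : G) • p = p) (s.erase 1) p : Finset ↥D) : Set ↥D) ⊆
          (St : Set ↥D) \ {1} := by
        intro d hd
        simp only [Finset.coe_bipartiteBelow, Set.mem_setOf_eq, Finset.mem_erase] at hd
        exact ⟨MulAction.mem_stabilizer_iff.2 hd.2, hd.1.1⟩
      have h4 := Set.ncard_le_ncard e2
      rw [Set.ncard_coe_finset, Set.ncard_diff_singleton_of_mem St.one_mem, ← Nat.card_coe_set_eq] at h4
      have h5 : Nat.card ↥(St : Set ↥D) ≤ 3 := h1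
      omega
    rw [Finset.sum_congr rfl hup, Finset.sum_const, Finset.card_erase_of_mem (hs 1), hcs, smul_eq_mul] at hkey
    have h2 := Finset.sum_le_card_nsmul _ _ 2 hdown
    rw [← hkey, Finset.card_erase_of_mem (Finset.mem_univ a), Finset.card_univ, ← Nat.card_eq_fintype_card,
      ← index_eq_card, hidx, smul_eq_mul] at h2
    have hmod := fixed_mod H hidx (hD3 z hzD)
    change f z % 3 = 1 at hmod
    omega
  have hfree : ∀ d ∈ D, d ≠ 1 → ∀ p : G ⧸ H, d • p = p → p = a := by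
    intro d hd hd1 p hp
    have h1 : f d = 1 := (hfD d hd hd1).trans hfz
    haveI := (Nat.card_eq_one_iff_unique.1 h1).1
    exact congrArg Subtype.val (Subsingleton.elim (⟨p, hp⟩ : ↥(MulAction.fixedBy (G ⧸ H) d))
      ⟨a, hHfix d (hSH (hDS hd))⟩)
  obtain ⟨π, o, hπD, hπker, hπo, ho, hoD⟩ := orbit_hom h H D hidx hD9 (hDS.trans hSH) le_rfl hfree
  -- the centraliser of the plane in the kernel
  have hC3 : ∀ c ∈ H, c ^ 3 = 1 → (∀ d ∈ D, Commute c d) → c ∈ D := by
    intro c hc hc3 hcd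
    obtain ⟨k, hk, hkS⟩ := conj_into h S hSH hc hc3
    have h1 : k⁻¹ * c * k ∈ D := e.cent_nine h hDS hD9 hkS fun d hd => by
      have := hcd _ ((mem_normalizer_iff.1 hk d).1 hd)
      show k⁻¹ * c * k * d = d * (k⁻¹ * c * k)
      calc k⁻¹ * c * k * d = k⁻¹ * (c * (k * d * k⁻¹)) * k := by group
        _ = k⁻¹ * ((k * d * k⁻¹) * c) * k := by rw [this.eq]
        _ = d * (k⁻¹ * c * k) := by group
    have := (mem_normalizer_iff.1 hk _).1 h1
    rwa [show k * (k⁻¹ * c * k) * k⁻¹ = c by group] at this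
  have hCker : ∀ c : ↥H, π c = 1 → (∀ d ∈ D, Commute (c : G) d) → (c : G) ∈ D := fun c hc hcd =>
    hC3 c c.2 (kernel_cube h H D hidx (S.2.to_le hDS) hcd (hπker c hc)) hcd
  have hcard3 : Nat.card ↥(S : Subgroup G) = 3 * Nat.card D := by rw [hD9, card_S h S]
  have hπ3 : ∀ y : ↥H, (y : G) ^ 3 = 1 → π y ^ 3 = 1 := fun y hy => by
    rw [← map_pow, show y ^ 3 = 1 from Subtype.ext hy, map_one]
  by_cases hA : ∃ x, ∃ hx : x ∈ (S : Subgroup G), π ⟨x, hSH hx⟩ ≠ 1
  · obtain ⟨x, hx, hπx⟩ := hA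
    have hxD : x ∉ D := fun hxD => hπx (hπD ⟨x, hSH hx⟩ hxD)
    -- elements of order three fix one point
    have hsemi : ∀ y ∈ (S : Subgroup G), y ≠ 1 → ∀ p : G ⧸ H, y • p = p → p = a := by
      intro y hy hy1 p hp
      by_contra hpa
      by_cases hyD' : y ∈ D
      · exact hpa (hfree y hyD' hy1 p hp)
      have h1 := hπo ⟨y, hSH hy⟩ p hpa
      simp only [hp] at h1
      have h2 := perm_fixed_three _ (hπ3 ⟨y, hSH hy⟩ (cube h S hy)) _ h1.symm
      obtain ⟨c, hc, j, -, hxe⟩ := decomp hDS hcard3 hy hyD' (cube h S hy) hx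
      apply hπx
      rw [show (⟨x, hSH hx⟩ : ↥H) = ⟨c, hSH (hDS hc)⟩ * ⟨y, hSH hy⟩ ^ j from Subtype.ext hxe, map_mul,
        map_pow, h2, hπD ⟨c, hSH (hDS hc)⟩ hc, one_pow, one_mul]
    obtain ⟨g, hg⟩ := h.has12
    obtain ⟨k, -, hkS⟩ := conj_into h S (K := ⊤) le_top (mem_top (g ^ 4)) (by
      rw [← pow_mul, show 4 * 3 = 12 from rfl, ← hg, pow_orderOf_eq_one])
    set y := k⁻¹ * g ^ 4 * k
    set u := k⁻¹ * g ^ 3 * k
    have hinj : ∀ n : ℕ, k⁻¹ * g ^ n * k = 1 → g ^ n = 1 := fun n hn => by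
      calc g ^ n = k * (k⁻¹ * g ^ n * k) * k⁻¹ := by group
        _ = 1 := by rw [hn]; group
    have hy1 : y ≠ 1 := fun e' => by
      have := orderOf_dvd_of_pow_eq_one (hinj 4 e')
      rw [hg] at this; norm_num at this
    have huy : Commute u y := by
      show u * y = y * u
      simp only [u, y]; group
    have huH : u ∈ H := hstab u (hsemi y hkS hy1 (u • a) (by
      rw [← mul_smul, ← huy.eq, mul_smul, hHfix y (hSH hkS)]))
    have hu4 : u ^ 4 = 1 := by
      have := conj_pow (i := 4) (a := k⁻¹) (b := g ^ 3)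
      rw [inv_inv] at this
      rw [show u = k⁻¹ * g ^ 3 * k from rfl, this, ← pow_mul, show 3 * 4 = 12 from rfl, ← hg,
        pow_orderOf_eq_one, mul_one, inv_mul_cancel]
    have hv1 : u * u ≠ 1 := fun e' => by
      have e2 : k⁻¹ * g ^ 6 * k = 1 := by rw [← e']; simp only [u]; group
      have := orderOf_dvd_of_pow_eq_one (hinj 6 e2)
      rw [hg] at this; norm_num at this
    have huD : ∀ d ∈ D, u * d * u⁻¹ ∈ D := fun d hd => (mem_normalizer_iff.1 huH d).1 hd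
    obtain ⟨w, hwD, hw1, huw⟩ : ∃ w ∈ D, w ≠ 1 ∧ u * w * u⁻¹ ∈ zpowers w := by
      by_cases hyD' : y ∈ D
      · exact ⟨y, hyD', hy1, by rw [huy.eq, mul_inv_cancel_right]; exact mem_zpowers y⟩
      · refine ⟨z, hzD, e.ne, ?_⟩
        by_contra hnot
        have hzy : Commute z y := e.central y hkS
        have hd := huD z hzD
        have hc : Commute (u * z * u⁻¹) y := by
          show u * z * u⁻¹ * y = y * (u * z * u⁻¹)
          calc u * z * u⁻¹ * y = u * (z * y) * u⁻¹ := by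
                rw [mul_assoc _ u⁻¹ y, huy.inv_left.eq]; group
            _ = u * y * (z * u⁻¹) := by rw [hzy.eq]; group
            _ = y * (u * z * u⁻¹) := by rw [huy.eq]; group
        have hyz : y ∉ zpowers z := fun hyz => hyD' (zpowers_le.2 hzD hyz)
        have hmem := e.comm_plane h hkS hyz (hDS hd) hc
        refine hyD' ?_
        rw [e.plane_eq h hDS hD9 hd hnot,
          ← e.plane_eq h (e.plane_le h hkS) (e.card_plane h hkS hyz) hmem hnot]
        exact (le_sup_left : zpowers y ≤ plane z y) (mem_zpowers y)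
    have hvc : ∀ d ∈ D, Commute (u * u) d := fun d hd =>
      mul_inv_eq_iff_eq_mul.1 (square_trivial D hD9 hD3 hwD hw1 huD huw hu4 hd)
    set v : ↥H := ⟨u, huH⟩ * ⟨u, huH⟩
    set xH : ↥H := ⟨x, hSH hx⟩
    have hv2 : v ^ 2 = 1 := Subtype.ext (by
      show (u * u) ^ 2 = 1
      rw [← hu4, pow_two]; simp [pow_succ, mul_assoc])
    have hσ : π v ^ 2 = 1 := by rw [← map_pow, hv2, map_one]
    obtain ⟨hw3, hw1'⟩ := perm_two_three (π v) (π xH) hσ (hπ3 xH (cube h S hx)) hπx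
    set m : ↥H := v * (xH * v * xH⁻¹)
    have hπm : π m = π v * (π xH * π v * (π xH)⁻¹) := by simp [m]
    have hmc : ∀ d ∈ D, Commute (m : G) d := by
      intro d hd
      refine Commute.mul_left (hvc d hd) ?_
      show x * (u * u) * x⁻¹ * d = d * (x * (u * u) * x⁻¹)
      have hd' := (mem_normalizer_iff.1 (inv_mem (hSH hx)) d).1 hd
      calc x * (u * u) * x⁻¹ * d = x * ((u * u) * (x⁻¹ * d * x⁻¹⁻¹)) * x⁻¹ := by group
        _ = x * ((x⁻¹ * d * x⁻¹⁻¹) * (u * u)) * x⁻¹ := by rw [(hvc _ hd').eq]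
        _ = d * (x * (u * u) * x⁻¹) := by group
    have hm3D : ((m ^ 3 : ↥H) : G) ∈ D := hCker (m ^ 3) (by rw [map_pow, hπm]; exact hw3)
      fun d hd => by rw [SubgroupClass.coe_pow]; exact (hmc d hd).pow_left 3
    have hm9 : (m : G) ^ 9 = 1 := by
      have := hD3 _ hm3D
      rwa [SubgroupClass.coe_pow, ← pow_mul] at this
    have hm3 : (m : G) ^ 3 = 1 := by
      have hd := orderOf_dvd_of_pow_eq_one hm9
      have hmem : orderOf (m : G) ∈ Nat.divisors 9 := Nat.mem_divisors.2 ⟨hd, by norm_num⟩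
      have key : ∀ n ∈ Nat.divisors 9, n = 9 ∨ n ∣ 3 := by decide
      rcases key _ hmem with e' | e'
      · exact absurd e' (h.no9 _)
      · exact orderOf_dvd_iff_pow_eq_one.1 e'
    have hmD := hC3 _ m.2 hm3 hmc
    have hπv := hw1' (hπm ▸ hπD m hmD)
    have hvD := hCker v hπv hvc
    have h3 : (u * u) ^ 3 = 1 := hD3 _ hvD
    have h2 : (u * u) ^ 2 = 1 := congrArg Subtype.val hv2
    exact hv1 (by rw [show u * u = (u * u) ^ 3 * ((u * u) ^ 2)⁻¹ by group, h3, h2]; group)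
  -- the Sylow subgroup preserves the three orbits
  push Not at hA
  have hπS : ∀ R : Sylow 3 G, (R : Subgroup G) ≤ H → (R : Subgroup G) ≤ π.ker.map H.subtype := by
    intro R hR
    obtain ⟨k, hk, rfl⟩ := sylow_conj_in S R hSH hR
    intro y hy
    have hyH := hR hy
    refine ⟨⟨y, hyH⟩, ?_, rfl⟩
    rw [mem_smul_iff] at hy
    show π ⟨y, hyH⟩ = 1
    have h1 := hA _ hy
    rw [show (⟨y, hyH⟩ : ↥H) = ⟨k, hk⟩ * ⟨k⁻¹ * y * k, hSH hy⟩ * (⟨k, hk⟩ : ↥H)⁻¹ from
      Subtype.ext (show y = k * (k⁻¹ * y * k) * k⁻¹ by group), map_mul, map_mul, h1, mul_one, map_inv,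
      mul_inv_cancel]
  obtain ⟨iH, hπi, hiH'⟩ := sup_le (hπS S hSH) (hπS S'' hS''H) hiL
  have hiH'' : (iH : G) = i := hiH'
  have hiS : ∀ s ∈ (S : Subgroup G), s⁻¹ * (i * s * i⁻¹) ∈ D := by
    intro s hs
    have h0 := hCker (⟨s, hSH hs⟩⁻¹ * (iH * ⟨s, hSH hs⟩ * iH⁻¹)) (by
      rw [map_mul, map_mul, map_mul, map_inv, map_inv, hA s hs, show π iH = 1 from hπi]; group) fun d hd => ?_
    · simpa [hiH''] using h0
    · show s⁻¹ * ((iH : G) * s * (iH : G)⁻¹) * d = d * (s⁻¹ * ((iH : G) * s * (iH : G)⁻¹))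
      rw [hiH'']
      have hsd := (mem_normalizer_iff.1 (hSH hs) d).1 hd
      have hid : i⁻¹ * d * i = d⁻¹ := by
        conv_lhs => rw [show d = i * d⁻¹ * i⁻¹ by rw [hinv _ (inv_mem hd), inv_inv]]
        group
      calc s⁻¹ * (i * s * i⁻¹) * d = s⁻¹ * (i * (s * (i⁻¹ * d * i) * s⁻¹) * i⁻¹) * (i * s * i⁻¹) := by group
        _ = s⁻¹ * (i * (s * d * s⁻¹)⁻¹ * i⁻¹) * (i * s * i⁻¹) := by rw [hid]; group
        _ = s⁻¹ * (s * d * s⁻¹) * (i * s * i⁻¹) := by rw [hinv _ (inv_mem hsd), inv_inv]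
        _ = d * (s⁻¹ * (i * s * i⁻¹)) := by group
  have hi2 : i * i = 1 := by
    have h0 := hCker (iH * iH) (by rw [map_mul, show π iH = 1 from hπi, mul_one]) fun d hd => ?_
    · have h1 : i * i ∈ D := by simpa [hiH''] using h0
      have h2 := hinv _ h1
      have h3 : i * (i * i) * i⁻¹ = i * i := by group
      rw [h3, eq_inv_iff_mul_eq_one] at h2
      calc i * i = (i * i) ^ 3 * ((i * i) * (i * i))⁻¹ := by rw [pow_three]; simp [mul_assoc]
        _ = 1 := by rw [hD3 _ h1, h2, one_mul, inv_one]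
    · show (iH : G) * iH * d = d * ((iH : G) * iH)
      rw [hiH'']
      calc i * i * d = i * (i * d * i⁻¹) * i⁻¹ * (i * i) := by group
        _ = d * (i * i) := by rw [hinv d hd, hinv _ (inv_mem hd), inv_inv]
  have hfixex : ∀ q : G ⧸ H, q ≠ a → ∃ p, p ≠ a ∧ i • p = p ∧ ∃ d ∈ D, d • p = q := by
    intro q hq
    obtain ⟨c, hc, hcq⟩ := hπker iH hπi q
    rw [hiH''] at hcq
    refine ⟨(c * c) • q, fun e' => hq ?_, ?_, (c * c)⁻¹, inv_mem (mul_mem hc hc), inv_smul_smul _ q⟩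
    · rw [← inv_smul_smul (c * c) q, e', hHfix _ (inv_mem (hSH (hDS (mul_mem hc hc))))]
    · have h2 := hinv _ (mul_mem hc hc)
      calc i • (c * c) • q = (i * (c * c) * i⁻¹) • i • q := by rw [← mul_smul, ← mul_smul]; group
        _ = ((c * c)⁻¹ * c) • q := by rw [h2, hcq, mul_smul]
        _ = ((c ^ 3)⁻¹ * (c * c)) • q := by congr 1; group
        _ = (c * c) • q := by rw [hD3 c hc, inv_one, one_mul]
  have hlift : ∀ p : G ⧸ H, p ≠ a → ∀ s ∈ (S : Subgroup G), ∃ d ∈ D, (d * s) • p = p := by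
    intro p hp s hs
    obtain ⟨d, hd, hdp⟩ := hπker ⟨s, hSH hs⟩ (hA s hs) p
    exact ⟨d⁻¹, inv_mem hd, by rw [mul_smul, show s • p = d • p from hdp, inv_smul_smul]⟩
  have huniq : ∀ p : G ⧸ H, p ≠ a → ∀ y, y • p = p → ∀ y', y' • p = p → y * y'⁻¹ ∈ D → y = y' := by
    intro p hp y hy y' hy' hmem
    by_contra hne
    refine hp (hfree _ hmem (fun e' => hne (mul_inv_eq_one.1 e')) p ?_)
    rw [mul_smul, show y'⁻¹ • p = p from by rw [inv_smul_eq_iff, hy'], hy]
  have hicomm : ∀ p : G ⧸ H, p ≠ a → i • p = p → ∀ y ∈ (S : Subgroup G), y • p = p → i * y * i⁻¹ = y := by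
    intro p hp hip y hy hyp
    refine (huniq p hp _ ?_ y hyp ?_)
    · rw [mul_smul, mul_smul, show i⁻¹ • p = p from by rw [inv_smul_eq_iff, hip], hyp, hip]
    · have := (mem_normalizer_iff.1 (hSH hy) _).1 (hiS y hy)
      rwa [show y * (y⁻¹ * (i * y * i⁻¹)) * y⁻¹ = i * y * i⁻¹ * y⁻¹ by group] at this
  obtain ⟨s0, hs0, hs0D⟩ : ∃ s ∈ (S : Subgroup G), s ∉ D := by
    by_contra hc
    push Not at hc
    have := Nat.le_of_dvd Nat.card_pos (card_dvd_of_le (hc : (S : Subgroup G) ≤ D))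
    rw [hD9, card_S h S] at this; omega
  obtain ⟨q0, hq0, -⟩ := ho 0
  obtain ⟨p0, hp0, hip0, -⟩ := hfixex q0 hq0
  obtain ⟨d0, hd0, hxp0⟩ := hlift p0 hp0 s0 hs0
  set x := d0 * s0
  have hx : x ∈ (S : Subgroup G) := mul_mem (hDS hd0) hs0
  have hxD : x ∉ D := fun hm => hs0D (by
    have := D.mul_mem (D.inv_mem hd0) hm
    rwa [inv_mul_cancel_left] at this)
  have hx3 := cube h S hx
  have hx1 : x ≠ 1 := fun e' => hxD (e' ▸ one_mem _)
  have hxz : x ∉ zpowers z := fun hm => hxD (zpowers_le.2 hzD hm)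
  -- the element fixes every point fixed by the involution
  have hxfix : ∀ p : G ⧸ H, p ≠ a → i • p = p → x • p = p := by
    intro p hp hip
    obtain ⟨d, hd, hdp⟩ := hlift p hp x hx
    have h1 := hicomm p hp hip (d * x) (mul_mem (hDS hd) hx) hdp
    have h2 := hicomm p0 hp0 hip0 x hx hxp0
    have h3 : i * (d * x) * i⁻¹ = (i * d * i⁻¹) * (i * x * i⁻¹) := by group
    rw [h3, h2, hinv d hd, mul_left_inj] at h1
    have hd1 : d = 1 := by
      have h4' : d * d = 1 := by rw [← inv_eq_iff_mul_eq_one]; exact h1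
      calc d = d ^ 3 * (d * d)⁻¹ := by group
        _ = 1 := by rw [hD3 d hd, h4', one_mul, inv_one]
    rwa [hd1, one_mul] at hdp
  have hchoice : ∀ j : Fin 3, ∃ p, p ≠ a ∧ i • p = p ∧ o p = j := by
    intro j
    obtain ⟨q, hq, hoq⟩ := ho j
    obtain ⟨p, hp, hip, d, hd, hdp⟩ := hfixex q hq
    refine ⟨p, hp, hip, ?_⟩
    have := hπo ⟨d, hSH (hDS hd)⟩ p hp
    rw [hπD ⟨d, hSH (hDS hd)⟩ hd, show ((⟨d, hSH (hDS hd)⟩ : ↥H) : G) • p = q from hdp, hoq] at this
    exact this.symm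
  choose P hPa hPi hPo using hchoice
  have hPshift : ∀ q : G ⧸ H, q ≠ a → ∃ d ∈ D, d • P (o q) = q := fun q hq =>
    hoD (P (o q)) q (hPa _) hq (hPo _)
  have hne_a : ∀ k ∈ H, ∀ q : G ⧸ H, q ≠ a → k • q ≠ a := fun k hk q hq e' => hq (by
    rw [← inv_smul_smul k q, e']; exact hHfix _ (inv_mem hk))
  have hoinv : ∀ d ∈ D, ∀ q : G ⧸ H, q ≠ a → o (d • q) = o q := by
    intro d hd q hq
    have := hπo ⟨d, hSH (hDS hd)⟩ q hq
    rw [hπD ⟨d, hSH (hDS hd)⟩ hd] at this
    exact this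
  -- ten fixed points
  have hfx : f x = 10 := by
    have hset : MulAction.fixedBy (G ⧸ H) x =
        insert a (Set.range fun pr : ↥(zpowers z) × Fin 3 => (pr.1 : G) • P pr.2) := by
      ext q
      constructor
      · intro hq
        have hq' : x • q = q := hq
        by_cases hqa : q = a
        · exact Set.mem_insert_iff.2 (Or.inl hqa)
        refine Set.mem_insert_iff.2 (Or.inr ?_)
        obtain ⟨d, hd, hdq⟩ := hPshift q hqa
        have hdx : Commute d x := by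
          have h1 : d⁻¹ * x * d = x := huniq (P (o q)) (hPa _) _ (by
            rw [mul_smul, mul_smul, hdq, hq']; exact inv_smul_eq_iff.2 hdq.symm) x (hxfix _ (hPa _) (hPi _)) (by
            have := D.mul_mem (D.inv_mem hd) ((mem_normalizer_iff.1 (hSH hx) d).1 hd)
            rwa [show d⁻¹ * (x * d * x⁻¹) = d⁻¹ * x * d * x⁻¹ by group] at this)
          show d * x = x * d
          calc d * x = d * (d⁻¹ * x * d) := by rw [h1]
            _ = x * d := by group
        have hdz : d ∈ zpowers z := by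
          by_contra hdz
          have hmem := e.comm_plane h hx hxz (hDS hd) hdx
          refine hxD ?_
          rw [e.plane_eq h hDS hD9 hd hdz, ← e.plane_eq h (e.plane_le h hx) (e.card_plane h hx hxz) hmem hdz]
          exact (le_sup_left : zpowers x ≤ plane z x) (mem_zpowers x)
        exact ⟨(⟨d, hdz⟩, o q), hdq⟩
      · rintro (rfl | ⟨⟨⟨w, hw⟩, j⟩, rfl⟩)
        · exact hHfix x (hSH hx)
        · show x • w • P j = w • P j
          obtain ⟨k, rfl⟩ := mem_zpowers_iff.1 hw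
          rw [← mul_smul, ((e.central x hx).symm.zpow_right k).eq, mul_smul, hxfix _ (hPa _) (hPi _)]
    show Nat.card ↥(MulAction.fixedBy (G ⧸ H) x) = 10
    rw [Nat.card_coe_set_eq, hset, Set.ncard_insert_of_notMem, Set.ncard_range_of_injective, Nat.card_prod,
      e.card_zpowers h, Nat.card_fin]
    · rintro ⟨⟨w, hw⟩, j⟩ ⟨⟨w', hw'⟩, j'⟩ e'
      have e1 : w • P j = w' • P j' := e'
      have hj : j = j' := by
        have := congrArg o e1
        rwa [hoinv w (zpowers_le.2 hzD hw) _ (hPa _), hoinv w' (zpowers_le.2 hzD hw') _ (hPa _), hPo, hPo] at this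
      subst hj
      have hww : w = w' := by
        by_contra hne
        refine hPa j (hfree (w'⁻¹ * w) (zpowers_le.2 hzD (mul_mem (inv_mem hw') hw))
          (fun e2 => hne (inv_mul_eq_one.1 e2).symm) _ ?_)
        rw [mul_smul, e1, inv_smul_smul]
      subst hww
      rfl
    · rintro ⟨⟨⟨w, hw⟩, j⟩, hwj⟩
      exact hne_a w (hSH (zpowers_le.2 e.mem hw)) _ (hPa j) hwj
  -- the Sylow subgroups through x
  have hfix10 : fixCard x = 10 := by
    choose σ hσ using fun R : Sylow 3 G => MulAction.exists_smul_eq G S R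
    have hin : ∀ R : Sylow 3 G, x ∈ (R : Subgroup G) → x • ((σ R : G) : G ⧸ H) = ((σ R : G) : G ⧸ H) := by
      intro R hR
      rw [mk_fixed_iff]
      refine hSH ?_
      rw [← hσ R, mem_smul_iff] at hR
      exact hR
    let F : {R : Sylow 3 G // x ∈ (R : Subgroup G)} → ↥(MulAction.fixedBy (G ⧸ H) x) :=
      fun R => ⟨((σ R.1 : G) : G ⧸ H), hin R.1 R.2⟩
    have hF : Function.Bijective F := by
      constructor
      · rintro ⟨R, hR⟩ ⟨R', hR'⟩ e'
        have e1 : ((σ R : G) : G ⧸ H) = ((σ R' : G) : G ⧸ H) := congrArg Subtype.val e'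
        have hk : (σ R)⁻¹ * σ R' ∈ H := QuotientGroup.eq.1 e1
        apply Subtype.ext
        show R = R'
        by_contra hne
        set k := (σ R)⁻¹ * σ R'
        have hne' : k • S ≠ S := fun e2 => hne (by
          rw [← hσ R, ← hσ R']
          conv_lhs => rw [← e2]
          simp only [k, mul_smul, smul_inv_smul])
        set x0 := (σ R)⁻¹ * x * σ R
        have hx0S : x0 ∈ (S : Subgroup G) := by rwa [← hσ R, mem_smul_iff] at hR
        have hx0k : x0 ∈ ((k • S : Sylow 3 G) : Subgroup G) := by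
          rw [← hσ R', mem_smul_iff] at hR'
          rw [mem_smul_iff, show k⁻¹ * x0 * k = (σ R')⁻¹ * x * σ R' by simp only [k, x0]; group]
          exact hR'
        have hDk : D ≤ ((k • S : Sylow 3 G) : Subgroup G) := fun d hd => by
          rw [mem_smul_iff]
          refine hDS ?_
          have := (mem_normalizer_iff.1 (inv_mem hk) d).1 hd
          rwa [inv_inv] at this
        have hint : D = (S : Subgroup G) ⊓ (k • S : Sylow 3 G) := eq_of_le_of_card_ge (le_inf hDS hDk) (by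
          have h1 := inter_card h hne'
          simp only [List.mem_cons, List.not_mem_nil, or_false] at h1
          rw [hD9]; omega)
        have hx0D : x0 ∈ D := hint ▸ ⟨hx0S, hx0k⟩
        have hx01 : x0 ≠ 1 := fun e2 => hx1 (by
          calc x = σ R * x0 * (σ R)⁻¹ := by simp only [x0]; group
            _ = 1 := by rw [e2]; group)
        have h1 : f x0 = f x := by
          rw [show x0 = (σ R)⁻¹ * x * (σ R)⁻¹⁻¹ by simp only [x0]; group, hfconj]
        rw [hfD x0 hx0D hx01, hfz, hfx] at h1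
        norm_num at h1
      · rintro ⟨p, hp⟩
        obtain ⟨g, rfl⟩ := QuotientGroup.mk_surjective p
        obtain ⟨k, hk, hkS⟩ := conj_into h S hSH ((mk_fixed_iff H x g).1 hp) (by
          have := conj_pow (i := 3) (a := g⁻¹) (b := x)
          rw [inv_inv] at this
          rw [this, hx3, mul_one, inv_mul_cancel])
        have hxR : x ∈ (((g * k) • S : Sylow 3 G) : Subgroup G) := by
          rw [mem_smul_iff, show (g * k)⁻¹ * x * (g * k) = k⁻¹ * (g⁻¹ * x * g) * k by group]; exact hkS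
        refine ⟨⟨(g * k) • S, hxR⟩, Subtype.ext (QuotientGroup.eq.2 ?_)⟩
        have hn : (σ ((g * k) • S))⁻¹ * (g * k) ∈ N := Sylow.smul_eq_iff_mem_normalizer.1 (by
          rw [mul_smul, inv_smul_eq_iff, hσ])
        have := mul_mem (hNH hn) (inv_mem hk)
        rwa [show (σ ((g * k) • S))⁻¹ * (g * k) * k⁻¹ = (σ ((g * k) • S))⁻¹ * g by group] at this
    rw [show fixCard x = Nat.card {R : Sylow 3 G // x ∈ (R : Subgroup G)} from rfl, Nat.card_eq_of_bijective F hF]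
    exact hfx
  -- the class of x in the Sylow subgroup
  set X : Set G := {y | y ∈ N ∧ IsConj x y}
  have hXsub : X ⊆ (fun pr : ↥(zpowers z) × ℕ => (pr.1 : G) * x ^ pr.2) '' (Set.univ ×ˢ {1, 2}) := by
    rintro y ⟨hyN, hyc⟩
    obtain ⟨g, rfl⟩ := isConj_iff.1 hyc
    have hyS : g * x * g⁻¹ ∈ (S : Subgroup G) := mem_of_normalizer h S hyN (by
      rw [conj_pow, hx3, mul_one, mul_inv_cancel])
    have hfy : f (g * x * g⁻¹) = 10 := (hfconj g x).trans hfx
    set y := g * x * g⁻¹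
    have hy1 : y ≠ 1 := fun e' => by rw [e', hf1'] at hfy; norm_num at hfy
    have hyD' : y ∉ D := fun hm => by rw [hfD y hm hy1, hfz] at hfy; norm_num at hfy
    obtain ⟨q, hq, hqa⟩ : ∃ q, y • q = q ∧ q ≠ a := by
      by_contra hc
      push Not at hc
      have h1 := Set.ncard_le_ncard (show MulAction.fixedBy (G ⧸ H) y ⊆ {a} from fun q hq => hc q hq)
      rw [Set.ncard_singleton, ← Nat.card_coe_set_eq] at h1
      have h1' : f y ≤ 1 := h1
      omega
    obtain ⟨d, hd, hdq⟩ := hPshift q hqa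
    have hy'S : d⁻¹ * y * d ∈ (S : Subgroup G) := mul_mem (mul_mem (inv_mem (hDS hd)) hyS) (hDS hd)
    obtain ⟨c, hc, j, hj, hye⟩ := decomp hDS hcard3 hx hxD hx3 hy'S
    have hxj : ∀ j : ℕ, x ^ j • P (o q) = P (o q) := fun j => by
      induction j with
      | zero => rw [pow_zero, one_smul]
      | succ j ih => rw [pow_succ, mul_smul, hxfix _ (hPa _) (hPi _), ih]
    have h1 : d⁻¹ * y * d = x ^ j := huniq (P (o q)) (hPa _) _ (by
      rw [mul_smul, mul_smul, hdq, hq]; exact inv_smul_eq_iff.2 hdq.symm) _ (hxj j) (by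
      rw [hye, mul_inv_cancel_right]; exact hc)
    have hj0 : j ≠ 0 := by
      rintro rfl
      rw [pow_zero] at h1
      exact hy1 (by rw [show y = d * (d⁻¹ * y * d) * d⁻¹ by group, h1]; group)
    refine ⟨(⟨d * x ^ j * d⁻¹ * (x ^ j)⁻¹, e.comm d (hDS hd) _ (pow_mem hx j)⟩, j), ⟨Set.mem_univ _, ?_⟩, ?_⟩
    · show j ∈ ({1, 2} : Set ℕ)
      rw [Set.mem_insert_iff, Set.mem_singleton_iff]; omega
    · show d * x ^ j * d⁻¹ * (x ^ j)⁻¹ * x ^ j = y
      rw [inv_mul_cancel_right, ← h1]; group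
  have hk6 : Nat.card ↥X ≤ 6 := by
    rw [Nat.card_coe_set_eq]
    refine (Set.ncard_le_ncard hXsub).trans ((Set.ncard_image_le).trans (le_of_eq ?_))
    rw [Set.ncard_prod, Set.ncard_univ, e.card_zpowers h, Set.ncard_pair (by norm_num)]
  have hk3 : 3 ∣ Nat.card ↥X := e.three_dvd_class h X
    (fun y hy => by
      obtain ⟨⟨w, j⟩, ⟨-, hj⟩, rfl⟩ := hXsub hy
      refine ⟨mul_mem (zpowers_le.2 e.mem w.2) (pow_mem hx j), fun hm => hxz ?_⟩
      have hxj : x ^ j ∈ zpowers z := by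
        have := mul_mem (inv_mem w.2) hm
        rwa [inv_mul_cancel_left] at this
      rcases hj with h1 | h1
      · rw [show j = 1 from h1, pow_one] at hxj; exact hxj
      · have := mul_mem hxj hxj
        rw [Set.mem_singleton_iff] at h1
        rwa [show j = 2 from h1, ← pow_add, show 2 + 2 = 3 + 1 from rfl, pow_succ, hx3, one_mul] at this)
    fun s hs y hy => ⟨mul_mem (mul_mem (le_normalizer hs) hy.1) (inv_mem (le_normalizer hs)),
      hy.2.trans (isConj_iff.2 ⟨s, rfl⟩)⟩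
  have hk0 : 0 < Nat.card ↥X := by
    haveI : Nonempty ↥X := ⟨⟨x, le_normalizer hx, IsConj.refl x⟩⟩
    exact Nat.card_pos
  have hmul : 10 * (27 * compOrder G) = Nat.card ↥(centralizer ({x} : Set G)) * Nat.card ↥X :=
    hfix10 ▸ fixCard_mul h S hx3
  rw [h4] at hmul
  have hkey := count_key_ten _ (Nat.mem_divisors.2 ⟨card_centralizer_three h hx3 hx1, by norm_num⟩)
  obtain ⟨t, ht⟩ := hk3
  rw [ht] at hmul hk6 hk0
  have htv : t = 1 ∨ t = 2 := by omega
  rcases htv with rfl | rfl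
  · exact hkey.1 hmul.symm
  · exact hkey.2 hmul.symm

end CfsgLib.Recog.G2TwoSpec
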