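import Cfsg.Agent.Lib.Recog.G2TwoSpec.Bounds
import Cfsg.Agent.Lib.Recog.G2TwoSpec.FusedMany
import Cfsg.Agent.Lib.Recog.G2TwoSpec.AbelianRegular
import Cfsg.Agent.Lib.Recog.G2TwoSpec.ExtraRegular

/-!
# The action on the 28 Sylow 3-subgroups in coordinates, and the search
-/

set_option autoImplicit false
set_option linter.unusedSectionVars false
set_option linter.style.haveILetI false

open Subgroup
open scoped Pointwise

namespace CfsgLib.Recog.G2TwoSpec

/-- The permutation group generated by translations, a list of tables and one further table. -/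
def KG (mul : ℕ → ℕ → ℕ) (TL : List ℕ) (W : ℕ) : Subgroup (Equiv.Perm (Fin 28)) :=
  closure {σ | (∃ u : Fin 27, ∀ x : Fin 28, (σ x : ℕ) = Search.sh mul u x) ∨
    (∃ m ∈ TL, ∀ x : Fin 28, (σ x : ℕ) = Search.get m x) ∨ ∀ x : Fin 28, (σ x : ℕ) = Search.get W x}

variable {G : Type*} [Group G] [Finite G]

/-- With 28 Sylow subgroups meeting trivially the group is found by the search. -/
theorem search_find (h : Hyp G) (h28 : Nat.card (Sylow 3 G) = 28) (S Q : Sylow 3 G) (hQ : Q ≠ S)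
    (hreg : ∀ R : Sylow 3 G, R ≠ S → (S : Subgroup G) ⊓ R = ⊥) {mul : ℕ → ℕ → ℕ} {inv : ℕ → ℕ}
    (hlt : ∀ u v : Fin 27, mul u v < 27) (hilt : ∀ u : Fin 27, inv u < 27)
    (hz : ∀ u : Fin 27, mul u 0 = u ∧ mul (inv u) u = 0)
    (c : Coord mul (S : Subgroup G)) {TL gens good : List ℕ} (hlen : TL.length = 16)
    (htab : ∀ m ∈ TL, Search.get m 27 = 27 ∧ ∀ x : Fin 27, Search.get m x < 27)
    (hT : ∀ t ∈ normalizer ((S : Subgroup G) : Set G) ⊓ normalizer ((Q : Subgroup G) : Set G),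
      ∃ m ∈ TL, ∀ u, (c.E (tabFun m u) : G) = t * c.E u * t⁻¹)
    (hgens : ∀ m ∈ gens, m ∈ TL) (hr : Search.run TL gens mul inv good = true) :
    ∃ (φ : G →* Equiv.Perm (Fin 28)) (W : ℕ), W ∈ good ∧ Function.Injective φ ∧ φ.range = KG mul TL W := by
  classical
  haveI : Fact (Nat.Prime 3) := ⟨Nat.prime_three⟩
  haveI : Fact (Nat.Prime 2) := ⟨Nat.prime_two⟩
  set N := normalizer ((S : Subgroup G) : Set G)
  set T := N ⊓ normalizer ((Q : Subgroup G) : Set G)
  have hE0 : c.E 0 = 1 := by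
    have h1 := c.hom 0 0
    rw [show mF mul 0 0 = 0 from Fin.ext (by
      show mul 0 0 % 27 = 0
      have := (hz 0).1
      simp only [Fin.val_zero] at this
      rw [this])] at h1
    exact left_eq_mul.1 h1
  have hne_S : ∀ g ∈ N, ∀ R : Sylow 3 G, R ≠ S → g • R ≠ S := fun g hg R hR e => hR (by
    calc R = g⁻¹ • (g • R) := (inv_smul_smul g R).symm
      _ = S := by rw [e]; exact Sylow.smul_eq_iff_mem_normalizer.2 (inv_mem hg))
  have hST : ∀ s ∈ (S : Subgroup G), s • Q = Q → s = 1 := fun s hs e => by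
    have : s ∈ (S : Subgroup G) ⊓ Q := ⟨hs, (fixed_iff h Q (cube h S hs)).1 e⟩
    rw [hreg Q hQ] at this
    exact mem_bot.1 this
  let p : Fin 28 → Sylow 3 G := fun x => if hx : (x : ℕ) < 27 then (c.E ⟨x, hx⟩ : G) • Q else S
  have hp : ∀ u : Fin 27, p u.castSucc = (c.E u : G) • Q := fun u => by
    simp only [p, Fin.val_castSucc, u.2, dite_true]
  have hpS : p (Fin.last 27) = S := by simp [p]
  have hpinj : Function.Injective p := by
    intro x y e
    by_cases hx : (x : ℕ) < 27 <;> by_cases hy : (y : ℕ) < 27 <;> simp only [p, hx, hy, dite_true, dite_false] at e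
    · have h1 : c.E ⟨y, hy⟩ = c.E ⟨x, hx⟩ := Subtype.ext (inv_mul_eq_one.1 (hST _
        (mul_mem (inv_mem (c.E ⟨y, hy⟩).2) (c.E ⟨x, hx⟩).2) (by rw [mul_smul, e, inv_smul_smul])))
      exact Fin.ext (congrArg Fin.val (c.E.injective h1)).symm
    · exact absurd e (hne_S _ (le_normalizer (c.E _).2) Q hQ)
    · exact absurd e.symm (hne_S _ (le_normalizer (c.E _).2) Q hQ)
    · exact Fin.ext (by have := x.2; have := y.2; omega)
  let e : Fin 28 ≃ Sylow 3 G := Equiv.ofBijective p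
    (hpinj.bijective_of_nat_card_le (by rw [h28, Nat.card_fin]))
  let φ : G →* Equiv.Perm (Fin 28) := e.symm.permCongrHom.toMonoidHom.comp (MulAction.toPermHom G (Sylow 3 G))
  have hφ : ∀ (g : G) (x : Fin 28), p (φ g x) = g • p x := fun g x => by
    show p (e.symm (g • e x)) = g • e x
    exact e.apply_symm_apply _
  have hφeq : ∀ (g : G) (x y : Fin 28), p y = g • p x → φ g x = y := fun g x y e' =>
    hpinj ((hφ g x).trans e'.symm)
  have hφinj : Function.Injective φ := by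
    refine (injective_iff_map_eq_one φ).2 fun g hg => sylow_faithful h fun R => ?_
    obtain ⟨x, rfl⟩ := e.surjective R
    show g • p x = p x
    rw [← hφ, hg, Equiv.Perm.one_apply]
  have hcastS : ∀ x : Fin 28, ¬ (x : ℕ) < 27 → x = Fin.last 27 := fun x hx => Fin.ext (by
    have := x.2
    show (x : ℕ) = 27
    omega)
  have hφS : ∀ u : Fin 27, ∀ x : Fin 28, (φ (c.E u : G) x : ℕ) = Search.sh mul u x := by
    intro u x
    by_cases hx : (x : ℕ) < 27
    · rw [hφeq _ x (mF mul u ⟨x, hx⟩).castSucc (by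
        rw [hp, c.hom, Subgroup.coe_mul, mul_smul, show p x = (c.E ⟨x, hx⟩ : G) • Q from hp ⟨x, hx⟩])]
      show mul u x % 27 = Search.sh mul u x
      rw [Nat.mod_eq_of_lt (hlt u ⟨x, hx⟩), Search.sh, if_neg (by simp; omega)]
    · obtain rfl := hcastS x hx
      rw [hφeq _ _ (Fin.last 27) (by rw [hpS]; exact (Sylow.smul_eq_iff_mem_normalizer.2 (le_normalizer (c.E u).2)).symm)]
      simp [Search.sh]
  have hφT : ∀ t ∈ T, ∃ m ∈ TL, ∀ x : Fin 28, (φ t x : ℕ) = Search.get m x := by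
    intro t ht
    obtain ⟨m, hm, hme⟩ := hT t ht
    refine ⟨m, hm, fun x => ?_⟩
    by_cases hx : (x : ℕ) < 27
    · rw [hφeq t x (tabFun m ⟨x, hx⟩).castSucc (by
        rw [hp, hme, show p x = (c.E ⟨x, hx⟩ : G) • Q from hp ⟨x, hx⟩, mul_smul, mul_smul,
          show t⁻¹ • Q = Q from Sylow.smul_eq_iff_mem_normalizer.2 (inv_mem ht.2)])]
      exact Nat.mod_eq_of_lt ((htab m hm).2 ⟨x, hx⟩)
    · obtain rfl := hcastS x hx
      rw [hφeq t _ (Fin.last 27) (by rw [hpS]; exact (Sylow.smul_eq_iff_mem_normalizer.2 ht.1).symm)]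
      exact (htab m hm).1.symm
  have hTc : Nat.card T = 16 := by
    let f : ↥T × Fin 27 → ↥N := fun q => ⟨(c.E q.2 : G) * q.1, mul_mem (le_normalizer (c.E q.2).2) q.1.2.1⟩
    have hf : Function.Bijective f := by
      constructor
      · rintro ⟨t, u⟩ ⟨t', u'⟩ e'
        have e1 : (c.E u : G) * t = c.E u' * t' := congrArg Subtype.val e'
        have e2 : (c.E u' : G)⁻¹ * c.E u = t'.1 * t.1⁻¹ := by
          rw [eq_mul_inv_iff_mul_eq, mul_assoc, e1, inv_mul_cancel_left]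
        have e3 : c.E u' = c.E u := Subtype.ext (inv_mul_eq_one.1 (hST _ (mul_mem (inv_mem (c.E u').2) (c.E u).2) (by
          rw [e2]; exact Sylow.smul_eq_iff_mem_normalizer.2 (mul_mem t'.2.2 (inv_mem t.2.2)))))
        obtain rfl := c.E.injective e3
        exact Prod.ext (Subtype.ext (mul_left_cancel e1)) rfl
      · rintro ⟨n, hn⟩
        obtain ⟨x, hx⟩ := e.surjective (n • Q)
        have hx27 : (x : ℕ) < 27 := by
          by_contra hlt'
          obtain rfl := hcastS x hlt'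
          exact hne_S n hn Q hQ (hx.symm.trans hpS)
        have hx' : (c.E ⟨x, hx27⟩ : G) • Q = n • Q := (hp ⟨x, hx27⟩).symm.trans hx
        refine ⟨(⟨(c.E ⟨x, hx27⟩ : G)⁻¹ * n,
          Subgroup.mem_inf.2 ⟨N.mul_mem (N.inv_mem (le_normalizer (c.E _).2)) hn, ?_⟩⟩, ⟨x, hx27⟩),
          Subtype.ext (mul_inv_cancel_left _ _)⟩
        refine Sylow.smul_eq_iff_mem_normalizer.1 ?_
        rw [mul_smul, ← hx', inv_smul_smul]
    have h1 := Nat.card_eq_of_bijective f hf
    rw [Nat.card_prod, Nat.card_fin, card_normalizer h S, show compOrder G = 16 by rw [compOrder, h28]] at h1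
    omega
  have hreal : ∀ m ∈ TL, ∃ t ∈ T, ∀ x : Fin 28, (φ t x : ℕ) = Search.get m x := by
    choose μ hμ hμe using fun t : ↥T => hφT t t.2
    have hi : ∀ t : ↥T, ∃ i : Fin TL.length, TL[i.1] = μ t := fun t => by
      obtain ⟨i, hi, e'⟩ := List.getElem_of_mem (hμ t)
      exact ⟨⟨i, hi⟩, e'⟩
    choose ι hι using hi
    have hinj : Function.Injective ι := fun a b e' => Subtype.ext (hφinj (Equiv.ext fun x => Fin.ext (by
      rw [hμe, hμe, ← hι a, ← hι b, e'])))
    have hbij := hinj.bijective_of_nat_card_le (by rw [Nat.card_fin, hTc, hlen])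
    intro m hm
    obtain ⟨i, hi', rfl⟩ := List.getElem_of_mem hm
    obtain ⟨t, ht⟩ := hbij.2 ⟨i, hi'⟩
    exact ⟨t, t.2, fun x => by rw [hμe, ← hι t, ht]⟩
  -- an involution exchanging the two subgroups
  obtain ⟨w, hw2, hwS, hwQ⟩ : ∃ w : G, w * w = 1 ∧ w • S = Q ∧ w • Q = S := by
    obtain ⟨τ, hτ⟩ := exists_prime_orderOf_dvd_card' (G := G) 2 (by rw [h.card]; norm_num)
    obtain ⟨R, hR⟩ : ∃ R : Sylow 3 G, τ • R ≠ R := by
      by_contra hc
      push Not at hc
      rw [sylow_faithful h hc, orderOf_one] at hτ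
      norm_num at hτ
    have hττ : τ * τ = 1 := by
      have := pow_orderOf_eq_one τ
      rwa [hτ, pow_two] at this
    obtain ⟨g1, hg1⟩ := MulAction.exists_smul_eq G R S
    obtain ⟨x, hx⟩ := e.surjective (g1 • τ • R)
    have hx27 : (x : ℕ) < 27 := by
      by_contra hlt'
      obtain rfl := hcastS x hlt'
      refine hR (MulAction.injective g1 ?_)
      show g1 • τ • R = g1 • R
      rw [← hx, hg1]; exact hpS
    set s := (c.E ⟨x, hx27⟩ : G)
    have hs : s • Q = g1 • τ • R := (hp ⟨x, hx27⟩).symm.trans hx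
    set g := s⁻¹ * g1
    have hgS : g • R = S := by
      rw [mul_smul, hg1]; exact Sylow.smul_eq_iff_mem_normalizer.2 (inv_mem (le_normalizer (c.E _).2))
    have hgQ : g • τ • R = Q := by rw [mul_smul, ← hs, inv_smul_smul]
    refine ⟨g * τ * g⁻¹, ?_, ?_, ?_⟩
    · rw [show g * τ * g⁻¹ * (g * τ * g⁻¹) = g * (τ * τ) * g⁻¹ by group, hττ]; group
    · rw [← hgS, mul_smul, inv_smul_smul, mul_smul, hgQ]
    · rw [← hgQ, mul_smul, inv_smul_smul, mul_smul, ← mul_smul τ τ, hττ, one_smul, hgS]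
  have hwinv : w⁻¹ = w := inv_eq_of_mul_eq_one_right hw2
  have hw0 : φ w 0 = Fin.last 27 := hφeq _ _ _ (by
    rw [hpS, show p 0 = (c.E 0 : G) • Q from hp 0, hE0, Subgroup.coe_one, one_smul, hwQ])
  let f : ℕ → ℕ := fun x => if hx : x < 28 then (φ w ⟨x, hx⟩ : ℕ) else 0
  have hf : ∀ x : Fin 28, f x = (φ w x : ℕ) := fun x => by simp [f, x.2]
  have hflt : ∀ x, x < 28 → f x < 28 := fun x hx => by rw [hf ⟨x, hx⟩]; exact Fin.isLt _
  have hfinv : ∀ x, x < 28 → f (f x) = x := fun x hx => by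
    rw [hf ⟨x, hx⟩, hf, ← Equiv.Perm.mul_apply, ← map_mul, hw2, map_one]; rfl
  have hf0 : f 0 = 27 := by rw [show f 0 = f ((0 : Fin 28) : ℕ) from rfl, hf, hw0]; rfl
  have hmullt : ∀ u x, u < 27 → x < 27 → mul u x < 27 := fun u x hu hx => hlt ⟨u, hu⟩ ⟨x, hx⟩
  have hgensR : ∀ t ∈ gens, ∃ u ∈ TL, Search.Rel f (t, u) := by
    intro m hm
    obtain ⟨t, ht, hte⟩ := hreal m (hgens m hm)
    have ht' : w * t * w ∈ T := by
      refine ⟨Sylow.smul_eq_iff_mem_normalizer.1 ?_, Sylow.smul_eq_iff_mem_normalizer.1 ?_⟩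
      · rw [mul_smul, hwS, mul_smul, show t • Q = Q from Sylow.smul_eq_iff_mem_normalizer.2 ht.2, hwQ]
      · rw [mul_smul, hwQ, mul_smul, show t • S = S from Sylow.smul_eq_iff_mem_normalizer.2 ht.1, hwS]
    obtain ⟨m', hm', hme'⟩ := hφT _ ht'
    refine ⟨m', hm', fun x hx => ?_⟩
    have h1 : Search.get m x = (φ t ⟨x, hx⟩ : ℕ) := (hte ⟨x, hx⟩).symm
    refine ⟨h1 ▸ Fin.isLt _, ?_⟩
    show f (Search.get m x) = Search.get m' (f x)
    rw [h1, hf, hf ⟨x, hx⟩, ← hme', ← Equiv.Perm.mul_apply, ← map_mul, ← Equiv.Perm.mul_apply, ← map_mul,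
      show w * t * w * w = w * t by rw [mul_assoc _ w w, hw2, mul_one]]
  have hEinv : ∀ u : Fin 27, (c.E ⟨inv u, hilt u⟩ : G) = (c.E u : G)⁻¹ := fun u => by
    refine eq_inv_of_mul_eq_one_left ?_
    rw [← Subgroup.coe_mul, ← c.hom, show mF mul ⟨inv u, hilt u⟩ u = 0 from Fin.ext (by
      show mul (inv u) u % 27 = 0
      rw [(hz u).2]), hE0, Subgroup.coe_one]
  have hB : ∀ u, 1 ≤ u → u < 27 →
      f (Search.sh mul (inv (f u)) (f (Search.sh mul u (f 27)))) = 27 ∧
      ∃ t ∈ TL, ∀ x, x < 27 → Search.get t x =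
        Search.sh mul (inv (f (Search.sh mul (inv (f u)) (f (Search.sh mul u (f 0))))))
          (f (Search.sh mul (inv (f u)) (f (Search.sh mul u (f x))))) := by
    intro u hu1 hu
    have hf27 : f 27 = 0 := by rw [← hf0, hfinv 0 (by norm_num)]
    have hfu : f u < 27 := by
      rcases Nat.lt_or_ge (f u) 27 with h' | h'
      · exact h'
      · exfalso
        have h2 := hfinv u (by omega)
        have := hflt u (by omega)
        rw [show f u = 27 by omega, hf27] at h2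
        omega
    set A : G := w * (c.E ⟨inv (f u), hilt ⟨f u, hfu⟩⟩ : G) * w * (c.E ⟨u, hu⟩ : G) * w
    have hA : ∀ x : Fin 28, (φ A x : ℕ) = f (Search.sh mul (inv (f u)) (f (Search.sh mul u (f x)))) := by
      intro x
      simp only [A, map_mul, Equiv.Perm.mul_apply, ← hf, hφS]
    have hz0 : Search.sh mul u 0 = u := by rw [Search.sh, if_neg (by simp)]; exact (hz ⟨u, hu⟩).1
    have hA27 : φ A (Fin.last 27) = Fin.last 27 := Fin.ext (by
      rw [hA, show ((Fin.last 27 : Fin 28) : ℕ) = 27 from rfl, hf27, hz0]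
      rw [Search.sh, if_neg (by simp; omega), (hz ⟨f u, hfu⟩).2]
      exact hf0)
    refine ⟨(hA (Fin.last 27)).symm.trans (congrArg Fin.val hA27), ?_⟩
    set v := f (Search.sh mul (inv (f u)) (f (Search.sh mul u (f 0))))
    have hv0 : (φ A 0 : ℕ) = v := hA 0
    have hv : v < 27 := by
      rw [← hv0]
      by_contra hlt'
      have := (φ A).injective ((hcastS _ hlt').trans hA27.symm)
      exact absurd (congrArg Fin.val this) (by simp)
    set t := (c.E ⟨inv v, hilt ⟨v, hv⟩⟩ : G) * A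
    have htT : t ∈ T := by
      refine ⟨mul_mem (le_normalizer (c.E _).2) (Sylow.smul_eq_iff_mem_normalizer.1 ?_),
        Sylow.smul_eq_iff_mem_normalizer.1 ?_⟩
      · rw [← hpS, ← hφ, hA27]
      · have hQ0 : p 0 = Q := by rw [show p 0 = (c.E 0 : G) • Q from hp 0, hE0, Subgroup.coe_one, one_smul]
        rw [mul_smul, ← hQ0, ← hφ A, show φ A 0 = (⟨v, hv⟩ : Fin 27).castSucc from Fin.ext hv0, hp, ← mul_smul,
          hEinv ⟨v, hv⟩, inv_mul_cancel, one_smul, hQ0]
    obtain ⟨m, hm, hme⟩ := hφT t htT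
    refine ⟨m, hm, fun x hx => ?_⟩
    rw [← hme ⟨x, by omega⟩]
    simp only [t, map_mul φ, Equiv.Perm.mul_apply, hφS, hA]
  obtain ⟨W, hW, hWf⟩ := Search.run_sound hflt hfinv hmullt (fun u hu => hilt ⟨u, hu⟩) hf0 hgensR hB hr
  refine ⟨φ, W, hW, hφinj, ?_⟩
  let gs : Set G := {g | g ∈ (S : Subgroup G) ∨ g ∈ T ∨ g = w}
  have htop : closure gs = ⊤ := by
    rw [eq_top_iff']
    intro g
    have hN : ∀ n ∈ N, n ∈ closure gs := by
      intro n hn
      obtain ⟨x, hx⟩ := e.surjective (n • Q)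
      have hx27 : (x : ℕ) < 27 := by
        by_contra hlt'
        obtain rfl := hcastS x hlt'
        exact hne_S n hn Q hQ (hx.symm.trans hpS)
      have ht : (c.E ⟨x, hx27⟩ : G)⁻¹ * n ∈ T := by
        refine Subgroup.mem_inf.2 ⟨N.mul_mem (N.inv_mem (le_normalizer (c.E _).2)) hn,
          Sylow.smul_eq_iff_mem_normalizer.1 ?_⟩
        rw [mul_smul, ← (hp ⟨x, hx27⟩).symm.trans hx, inv_smul_smul]
      rw [← mul_inv_cancel_left (c.E ⟨x, hx27⟩ : G) n]
      exact mul_mem (subset_closure (Or.inl (c.E _).2)) (subset_closure (Or.inr (Or.inl ht)))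
    obtain ⟨x, hx⟩ := e.surjective (g • S)
    by_cases hx27 : (x : ℕ) < 27
    · have hl : (c.E ⟨x, hx27⟩ : G) * w ∈ closure gs :=
        mul_mem (subset_closure (Or.inl (c.E _).2)) (subset_closure (Or.inr (Or.inr rfl)))
      have hn : ((c.E ⟨x, hx27⟩ : G) * w)⁻¹ * g ∈ N := Sylow.smul_eq_iff_mem_normalizer.1 (by
        rw [mul_smul, ← hx, show e x = (c.E ⟨x, hx27⟩ : G) • Q from hp ⟨x, hx27⟩, ← hwS, ← mul_smul (c.E _ : G) w,
          inv_smul_smul])
      rw [← mul_inv_cancel_left ((c.E ⟨x, hx27⟩ : G) * w) g]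
      exact mul_mem hl (hN _ hn)
    · obtain rfl := hcastS x hx27
      exact hN g (Sylow.smul_eq_iff_mem_normalizer.1 (hx.symm.trans hpS))
  rw [MonoidHom.range_eq_map, ← htop, MonoidHom.map_closure, KG]
  congr 1
  ext σ
  simp only [Set.mem_image, Set.mem_setOf_eq, gs]
  constructor
  · rintro ⟨g, hg | hg | hg, rfl⟩
    · refine Or.inl ⟨c.E.symm ⟨g, hg⟩, fun x => ?_⟩
      rw [← hφS, Equiv.apply_symm_apply]
    · exact Or.inr (Or.inl (hφT g hg))
    · subst hg
      exact Or.inr (Or.inr fun x => by rw [← hf, ← hWf x x.2])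
  · rintro (⟨u, hu⟩ | ⟨m, hm, hm'⟩ | hσ)
    · exact ⟨c.E u, Or.inl (c.E u).2, Equiv.ext fun x => Fin.ext ((hφS u x).trans (hu x).symm)⟩
    · obtain ⟨t, ht, hte⟩ := hreal m hm
      exact ⟨t, Or.inr (Or.inl ht), Equiv.ext fun x => Fin.ext ((hte x).trans (hm' x).symm)⟩
    · exact ⟨w, Or.inr (Or.inr rfl), Equiv.ext fun x => Fin.ext (by rw [← hf, hσ x, hWf x x.2])⟩

end CfsgLib.Recog.G2TwoSpec
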