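import Mathlib
import Cfsg.Agent.S0983
import Cfsg.Agent.Lib.Transfer.HallWielandt

/-!
# Groups of order 12096 without elements of order 9, 14 and 21: normal subgroups and Sylow numbers
-/

set_option autoImplicit false
set_option linter.unusedSectionVars false
set_option linter.style.haveILetI false

open Subgroup
open scoped Pointwise

namespace CfsgLib.Recog.G2TwoSpec

/-- What is used about the group. -/
structure Hyp (G : Type*) [Group G] : Prop where
  card : Nat.card G = 12096
  no9 : ∀ g : G, orderOf g ≠ 9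
  no14 : ∀ g : G, orderOf g ≠ 14
  no21 : ∀ g : G, orderOf g ≠ 21
  has12 : ∃ g : G, orderOf g = 12

variable {G : Type*} [Group G]

theorem Hyp.finite (h : Hyp G) : Finite G := Nat.finite_of_card_ne_zero (by rw [h.card]; norm_num)

theorem not_commute_seven (h : Hyp G) {x u : G} (hu : orderOf u = 7)
    (hx : orderOf x = 2 ∨ orderOf x = 3) : ¬ Commute x u := by
  intro hc
  rcases hx with hx | hx
  · exact h.no14 (x * u) (by rw [hc.orderOf_mul_eq_mul_orderOf_of_coprime (by rw [hx, hu]; norm_num), hx, hu])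
  · exact h.no21 (x * u) (by rw [hc.orderOf_mul_eq_mul_orderOf_of_coprime (by rw [hx, hu]; norm_num), hx, hu])

variable [Finite G]

theorem sylow_index {p : ℕ} [Fact p.Prime] (P : Sylow p G) :
    Nat.card (Sylow p G) = (normalizer ((P : Subgroup G) : Set G)).index :=
  P.card_eq_index_normalizer

theorem conj_mem_sylow {p : ℕ} {K : Type*} [Group K] (g : K) (Q : Sylow p K) (x : K) :
    x ∈ ((g • Q : Sylow p K) : Subgroup K) ↔ g⁻¹ * x * g ∈ (Q : Subgroup K) := by
  have h : ((g • Q : Sylow p K) : Subgroup K) = MulAut.conj g • (Q : Subgroup K) :=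
    Sylow.coe_subgroup_smul
  rw [h, Subgroup.mem_pointwise_smul_iff_inv_smul_mem]
  simp [MulAut.smul_def]

theorem exists_seven (h : Hyp G) : ∃ u : G, orderOf u = 7 := by
  haveI : Fact (Nat.Prime 7) := ⟨by norm_num⟩
  exact exists_prime_orderOf_dvd_card' 7 (by rw [h.card]; norm_num)

theorem orderOf_small (h : Hyp G) {x : G} (hx : x ≠ 1) (h7 : ¬ 7 ∣ orderOf x) :
    ∃ n : ℕ, orderOf (x ^ n) = 2 ∨ orderOf (x ^ n) = 3 := by
  have hd : orderOf x ∣ 12096 := h.card ▸ orderOf_dvd_natCard x
  have hx1 : orderOf x ≠ 1 := fun e => hx (orderOf_eq_one_iff.1 e)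
  obtain ⟨q, hq, hqd⟩ := Nat.exists_prime_and_dvd hx1
  have hq12 : q ∣ 12096 := hqd.trans hd
  have hq' : q = 2 ∨ q = 3 := by
    have : q ∣ 2 ^ 6 * 3 ^ 3 * 7 := by norm_num; exact hq12
    rcases (Nat.Prime.dvd_mul hq).1 this with h1 | h1
    · rcases (Nat.Prime.dvd_mul hq).1 h1 with h2 | h2
      · exact Or.inl ((Nat.prime_dvd_prime_iff_eq hq Nat.prime_two).1 (hq.dvd_of_dvd_pow h2))
      · exact Or.inr ((Nat.prime_dvd_prime_iff_eq hq Nat.prime_three).1 (hq.dvd_of_dvd_pow h2))
    · exact absurd ((Nat.prime_dvd_prime_iff_eq hq (by norm_num)).1 h1 ▸ hqd) h7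
  refine ⟨orderOf x / q, ?_⟩
  have : orderOf (x ^ (orderOf x / q)) = q :=
    orderOf_pow_orderOf_div (orderOf_pos x).ne' hqd
  rw [this]; exact hq'

theorem eq_one_of_commute_seven (h : Hyp G) {x u : G} (hu : orderOf u = 7) (hc : Commute x u)
    (h7 : ¬ 7 ∣ orderOf x) : x = 1 := by
  by_contra hx
  obtain ⟨n, hn⟩ := orderOf_small h hx h7
  exact not_commute_seven h hu hn (hc.pow_left n)

theorem card_centralizer_seven (h : Hyp G) {u : G} (hu : orderOf u = 7) :
    Nat.card ↥(centralizer ({u} : Set G)) = 7 := by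
  set C := centralizer ({u} : Set G)
  have hle : zpowers u ≤ C := zpowers_le.2 (mem_centralizer_singleton_iff.2 rfl)
  have hd7 : 7 ∣ Nat.card C := by
    rw [← hu, ← Nat.card_zpowers]; exact card_dvd_of_le hle
  have hd : Nat.card C ∣ 12096 := h.card ▸ card_subgroup_dvd_card C
  have key : ∀ q : ℕ, q.Prime → q ≠ 7 → ¬ q ∣ Nat.card C := by
    intro q hq h7 hqd
    haveI : Fact q.Prime := ⟨hq⟩
    obtain ⟨x, hx⟩ := exists_prime_orderOf_dvd_card' (G := C) q hqd
    have hx' : orderOf (x : G) = q := by rw [Subgroup.orderOf_coe, hx]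
    have := eq_one_of_commute_seven h hu (mem_centralizer_singleton_iff.1 x.2) (by
      rw [hx', Nat.prime_dvd_prime_iff_eq (by norm_num) hq]; exact Ne.symm h7)
    rw [this, orderOf_one] at hx'
    exact hq.ne_one hx'.symm
  have : Nat.card C ∈ Nat.divisors 12096 := Nat.mem_divisors.2 ⟨hd, by norm_num⟩
  have hall : ∀ d ∈ Nat.divisors 12096, 7 ∣ d → ¬ 2 ∣ d → ¬ 3 ∣ d → d = 7 := by decide +kernel
  exact hall _ this hd7 (key 2 Nat.prime_two (by norm_num)) (key 3 Nat.prime_three (by norm_num))

theorem card_normalizer_seven (h : Hyp G) (P : Sylow 7 G) :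
    Nat.card ↥(normalizer ((P : Subgroup G) : Set G)) = 42 := by
  haveI : Fact (Nat.Prime 7) := ⟨by norm_num⟩
  have hP : Nat.card (P : Subgroup G) = 7 := by
    have h7d : 7 ∣ Nat.card (P : Subgroup G) := P.dvd_card_of_dvd_card (by rw [h.card]; norm_num)
    obtain ⟨a, ha⟩ := P.2.exists_card_eq
    have hle : a ≤ 1 := by
      by_contra hlt
      have := (pow_dvd_pow 7 (show 2 ≤ a by omega)).trans (ha ▸ h.card ▸ card_subgroup_dvd_card (P : Subgroup G))
      norm_num at this
    interval_cases a <;> simp [ha] at h7d ⊢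
  set N := normalizer ((P : Subgroup G) : Set G) with hN
  obtain ⟨⟨u, huP⟩, hu'⟩ := exists_prime_orderOf_dvd_card' (G := (P : Subgroup G)) 7 (by rw [hP])
  have hu : orderOf u = 7 := by simpa [← Subgroup.orderOf_coe] using hu'
  letI : MulAction ↥N ↥(P : Subgroup G) :=
    { smul := fun n x => ⟨n.1 * x.1 * n.1⁻¹, (mem_normalizer_iff.1 n.2 _).1 x.2⟩
      one_smul := fun x => Subtype.ext (show (1 : G) * x.1 * (1 : G)⁻¹ = x.1 by group)
      mul_smul := fun a b x => Subtype.ext (show a.1 * b.1 * x.1 * (a.1 * b.1)⁻¹ =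
        a.1 * (b.1 * x.1 * b.1⁻¹) * a.1⁻¹ by group) }
  set x0 : ↥(P : Subgroup G) := ⟨u, huP⟩
  have hst : Nat.card ↥(MulAction.stabilizer ↥N x0) = 7 := by
    have hle : centralizer ({u} : Set G) ≤ N := by
      have hPu : (P : Subgroup G) = zpowers u := by
        symm
        exact eq_of_le_of_card_ge (zpowers_le.2 huP) (by rw [Nat.card_zpowers, hu, hP])
      intro g hg
      rw [hN, hPu, mem_normalizer_iff]
      have hc := mem_centralizer_singleton_iff.1 hg
      intro y
      constructor
      · intro hy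
        obtain ⟨k, rfl⟩ := mem_zpowers_iff.1 hy
        rw [(show Commute g (u ^ k) from (show Commute g u from hc).zpow_right k).eq, mul_inv_cancel_right]
        exact zpow_mem (mem_zpowers u) k
      · intro hy
        obtain ⟨k, hk⟩ := mem_zpowers_iff.1 hy
        have : y = u ^ k := by
          have e : g⁻¹ * u ^ k * g = y := by rw [hk]; group
          rw [← e, mul_assoc, ← (show Commute g (u ^ k) from (show Commute g u from hc).zpow_right k).eq,
            inv_mul_cancel_left]
        rw [this]; exact zpow_mem (mem_zpowers u) k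
    have e : MulAction.stabilizer ↥N x0 = (centralizer ({u} : Set G)).subgroupOf N := by
      ext n
      rw [MulAction.mem_stabilizer_iff, mem_subgroupOf, mem_centralizer_singleton_iff, Subtype.ext_iff]
      show n.1 * u * n.1⁻¹ = u ↔ _
      rw [mul_inv_eq_iff_eq_mul]
    rw [e, Nat.card_congr (subgroupOfEquivOfLe hle).toEquiv, card_centralizer_seven h hu]
  have horb := MulAction.index_stabilizer ↥N x0
  have hmul := (MulAction.stabilizer ↥N x0).card_mul_index
  rw [hst] at hmul
  set e := (MulAction.stabilizer ↥N x0).index with he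
  have he6 : e ≤ 6 := by
    rw [horb]
    have hsub : MulAction.orbit ↥N x0 ⊆ {y | y ≠ 1} := by
      rintro y ⟨n, rfl⟩ hy
      have : n.1 * u * n.1⁻¹ = 1 := congrArg Subtype.val hy
      rw [mul_inv_eq_one] at this
      have : u = 1 := mul_eq_left.1 this
      rw [this, orderOf_one] at hu; norm_num at hu
    calc (MulAction.orbit ↥N x0).ncard ≤ ({y : ↥(P : Subgroup G) | y ≠ 1}).ncard :=
          Set.ncard_le_ncard hsub
      _ = 6 := by
          rw [show {y : ↥(P : Subgroup G) | y ≠ 1} = {(1 : ↥(P : Subgroup G))}ᶜ from rfl,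
            Set.ncard_compl, Set.ncard_singleton, hP]
  have hidx := N.card_mul_index
  rw [h.card, ← hmul, ← sylow_index P] at hidx
  have hmod := card_sylow_modEq_one 7 G
  have key : ∀ a : ℕ, a < 7 → 7 * a * (1728 / a) = 12096 → (1728 / a) % 7 = 1 → a = 6 := by decide
  have he0 : e ≠ 0 := by intro e0; rw [e0] at hidx; simp at hidx
  have hn : Nat.card (Sylow 7 G) = 1728 / e := by
    rw [show (1728 : ℕ) = e * Nat.card (Sylow 7 G) by
      rw [mul_assoc] at hidx
      exact Nat.eq_of_mul_eq_mul_left (show 0 < 7 by norm_num) (by rw [hidx]),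
      Nat.mul_div_cancel_left _ (Nat.pos_of_ne_zero he0)]
  rw [← hmul, key e (by omega) (hn ▸ hidx) (hn ▸ hmod)]

theorem card_sylow_seven (h : Hyp G) : Nat.card (Sylow 7 G) = 288 := by
  haveI : Fact (Nat.Prime 7) := ⟨by norm_num⟩
  obtain ⟨P⟩ := (inferInstance : Nonempty (Sylow 7 G))
  have := (normalizer ((P : Subgroup G) : Set G)).card_mul_index
  rw [card_normalizer_seven h P, ← sylow_index P, h.card] at this
  omega

theorem three_elem (h : Hyp G) {R : Subgroup G} (hR : IsPGroup 3 R) {x : G} (hx : x ∈ R) :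
    x ^ 3 = 1 := by
  obtain ⟨k, hk⟩ := hR ⟨x, hx⟩
  have hk' : x ^ 3 ^ k = 1 := by simpa using congrArg Subtype.val hk
  obtain ⟨j, -, hj⟩ := (Nat.dvd_prime_pow Nat.prime_three).1 (orderOf_dvd_of_pow_eq_one hk')
  match j, hj with
  | 0, hj =>
    have e : x = 1 := orderOf_eq_one_iff.1 (by simpa using hj)
    rw [e, one_pow]
  | 1, hj =>
    have e : orderOf x = 3 := by simpa using hj
    rw [← e]; exact pow_orderOf_eq_one x
  | j + 2, hj =>
    exfalso
    refine h.no9 (x ^ 3 ^ j) ?_
    rw [orderOf_pow' x (by positivity), hj, show Nat.gcd (3 ^ (j + 2)) (3 ^ j) = 3 ^ j from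
      Nat.gcd_eq_right (pow_dvd_pow 3 (by omega)), pow_add, Nat.mul_div_cancel_left _ (by positivity)]
    norm_num

theorem card_three_group (h : Hyp G) {R : Subgroup G} (hR : IsPGroup 3 R) :
    Nat.card R ∈ ([1, 3, 9, 27] : List ℕ) := by
  haveI : Fact (Nat.Prime 3) := ⟨Nat.prime_three⟩
  obtain ⟨a, ha⟩ := hR.exists_card_eq
  have hd : 3 ^ a ∣ 12096 := ha ▸ h.card ▸ card_subgroup_dvd_card R
  have hle : a ≤ 3 := by
    by_contra hlt
    exact absurd ((pow_dvd_pow 3 (show 4 ≤ a by omega)).trans hd) (by norm_num)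
  rw [ha]
  interval_cases a <;> simp

theorem seven_modEq (h : Hyp G) {u : G} (hu : orderOf u = 7) {R : Subgroup G}
    (hn : u ∈ normalizer (R : Set G)) (h7 : ¬ 7 ∣ Nat.card R) : Nat.card R % 7 = 1 := by
  haveI : Fact (Nat.Prime 7) := ⟨by norm_num⟩
  have hzN : zpowers u ≤ normalizer (R : Set G) := zpowers_le.2 hn
  letI : MulAction ↥(zpowers u) ↥R :=
    { smul := fun n x => ⟨n.1 * x.1 * n.1⁻¹, (mem_normalizer_iff.1 (hzN n.2) _).1 x.2⟩
      one_smul := fun x => Subtype.ext (show (1 : G) * x.1 * (1 : G)⁻¹ = x.1 by group)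
      mul_smul := fun a b x => Subtype.ext (show a.1 * b.1 * x.1 * (a.1 * b.1)⁻¹ =
        a.1 * (b.1 * x.1 * b.1⁻¹) * a.1⁻¹ by group) }
  have hP : IsPGroup 7 ↥(zpowers u) := IsPGroup.of_card (n := 1) (by rw [Nat.card_zpowers, hu, pow_one])
  have hmod := hP.card_modEq_card_fixedPoints ↥R
  have hf : MulAction.fixedPoints ↥(zpowers u) ↥R = {1} := by
    ext x
    simp only [MulAction.mem_fixedPoints, Set.mem_singleton_iff]
    constructor
    · intro hx
      have e : u * x.1 * u⁻¹ = x.1 := congrArg Subtype.val (hx ⟨u, mem_zpowers u⟩)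
      refine Subtype.ext (eq_one_of_commute_seven h hu (mul_inv_eq_iff_eq_mul.1 e).symm ?_)
      intro hd
      exact h7 (hd.trans (by rw [Subgroup.orderOf_coe]; exact orderOf_dvd_natCard x))
    · rintro rfl n
      exact Subtype.ext (show n.1 * 1 * n.1⁻¹ = 1 by group)
  rw [hf, show Nat.card ({1} : Set ↥R) = 1 by simp] at hmod
  exact hmod

theorem three_normalised (h : Hyp G) {u : G} (hu : orderOf u = 7) {R : Subgroup G}
    (hR : IsPGroup 3 R) (hn : u ∈ normalizer (R : Set G)) : Nat.card R = 1 := by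
  have h1 := card_three_group h hR
  simp only [List.mem_cons, List.not_mem_nil, or_false] at h1
  have h2 := seven_modEq h hu hn (by rcases h1 with e | e | e | e <;> rw [e] <;> norm_num)
  omega

theorem card_sylow_three_subgroup (h : Hyp G) {u : G} (hu : orderOf u = 7) {K : Subgroup G}
    (hn : u ∈ normalizer (K : Set G)) (h7 : ¬ 7 ∣ Nat.card K) : ¬ 3 ∣ Nat.card K := by
  haveI : Fact (Nat.Prime 7) := ⟨by norm_num⟩
  haveI : Fact (Nat.Prime 3) := ⟨Nat.prime_three⟩
  intro h3
  have hzN : zpowers u ≤ normalizer (K : Set G) := zpowers_le.2 hn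
  letI : MulDistribMulAction ↥(zpowers u) ↥K :=
    { smul := fun n x => ⟨n.1 * x.1 * n.1⁻¹, (mem_normalizer_iff.1 (hzN n.2) _).1 x.2⟩
      one_smul := fun x => Subtype.ext (show (1 : G) * x.1 * (1 : G)⁻¹ = x.1 by group)
      mul_smul := fun a b x => Subtype.ext (show a.1 * b.1 * x.1 * (a.1 * b.1)⁻¹ =
        a.1 * (b.1 * x.1 * b.1⁻¹) * a.1⁻¹ by group)
      smul_mul := fun a x y => Subtype.ext (show a.1 * (x.1 * y.1) * a.1⁻¹ =
        a.1 * x.1 * a.1⁻¹ * (a.1 * y.1 * a.1⁻¹) by group)
      smul_one := fun a => Subtype.ext (show a.1 * 1 * a.1⁻¹ = 1 by group) }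
  have hP : IsPGroup 7 ↥(zpowers u) := IsPGroup.of_card (n := 1) (by rw [Nat.card_zpowers, hu, pow_one])
  obtain ⟨Q₀⟩ := (inferInstance : Nonempty (Sylow 3 ↥K))
  obtain ⟨Q, hQ⟩ := hP.nonempty_fixed_point_of_prime_not_dvd_card (Sylow 3 ↥K) fun hd =>
    h7 (hd.trans ((Sylow.card_dvd_index Q₀).trans Q₀.index_dvd_card))
  have hfix : ∀ n : ↥(zpowers u), ∀ x : ↥K, x ∈ (Q : Subgroup ↥K) → n • x ∈ (Q : Subgroup ↥K) := by
    intro n x hx
    rw [← hQ n]
    exact Subgroup.smul_mem_pointwise_smul x n _ hx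
  have hnR : u ∈ normalizer (((Q : Subgroup ↥K).map K.subtype : Subgroup G) : Set G) := by
    rw [mem_normalizer_iff]
    intro y
    constructor
    · rintro ⟨x, hx, rfl⟩
      exact ⟨_, hfix ⟨u, mem_zpowers u⟩ x hx, rfl⟩
    · rintro ⟨x, hx, e⟩
      refine ⟨_, hfix ⟨u⁻¹, inv_mem (mem_zpowers u)⟩ x hx, ?_⟩
      show u⁻¹ * x.1 * u⁻¹⁻¹ = y
      rw [show x.1 = u * y * u⁻¹ from e]; group
  have h1 := three_normalised h hu (Q.2.map K.subtype) hnR
  rw [card_map_of_injective K.subtype_injective] at h1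
  exact (Nat.Prime.one_lt Nat.prime_three).ne' (Nat.dvd_one.1 (h1 ▸ Q.dvd_card_of_dvd_card h3))

theorem normal_eq_bot_of_not_seven (h : Hyp G) (K : Subgroup G) [K.Normal]
    (h7 : ¬ 7 ∣ Nat.card K) : K = ⊥ := by
  haveI : Fact (Nat.Prime 7) := ⟨by norm_num⟩
  obtain ⟨u, hu⟩ := exists_seven h
  have hn : u ∈ normalizer (K : Set G) := by rw [normalizer_eq_top]; exact mem_top u
  have h1 := seven_modEq h hu hn h7
  have h3 := card_sylow_three_subgroup h hu hn h7
  have hd : Nat.card K ∈ Nat.divisors 12096 :=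
    Nat.mem_divisors.2 ⟨h.card ▸ card_subgroup_dvd_card K, by norm_num⟩
  have key : ∀ d ∈ Nat.divisors 12096, ¬ 7 ∣ d → ¬ 3 ∣ d → d % 7 = 1 → d = 1 ∨ d = 8 ∨ d = 64 := by
    decide +kernel
  rcases key _ hd h7 h3 h1 with e | e | e
  · exact K.eq_bot_of_card_eq e
  · exfalso
    let φ : G →* Equiv.Perm ↥K := MonoidHom.mk' (fun g => (MulAut.conjNormal (H := K) g).toEquiv)
      fun a b => Equiv.ext fun x => by simp
    have hker : ∀ g : G, g ∈ φ.ker → ∀ x ∈ K, Commute g x := by
      intro g hg x hx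
      have h0 : φ g ⟨x, hx⟩ = ⟨x, hx⟩ := by rw [MonoidHom.mem_ker.1 hg]; rfl
      have : g * x * g⁻¹ = x := by
        have := congrArg Subtype.val h0
        simpa [φ, MulAut.conjNormal_apply] using this
      exact mul_inv_eq_iff_eq_mul.1 this
    have h7k : ¬ 7 ∣ Nat.card φ.ker := by
      intro hd7
      obtain ⟨v, hv⟩ := exists_prime_orderOf_dvd_card' (G := φ.ker) 7 hd7
      obtain ⟨⟨x, hx⟩, hx1⟩ : ∃ x : ↥K, x ≠ 1 := by
        haveI : Nontrivial ↥K := (Finite.one_lt_card_iff_nontrivial).1 (by rw [e]; norm_num)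
        exact exists_ne 1
      refine hx1 (Subtype.ext (eq_one_of_commute_seven h (by rw [Subgroup.orderOf_coe, hv]) (hker _ v.2 x hx).symm ?_))
      intro hd
      have := hd.trans ((Subgroup.orderOf_mk (H := K) x hx) ▸ orderOf_dvd_natCard (⟨x, hx⟩ : ↥K))
      rw [e] at this; norm_num at this
    have h3k : ¬ 3 ∣ Nat.card φ.ker :=
      card_sylow_three_subgroup h hu (by rw [normalizer_eq_top]; exact mem_top u) h7k
    have hr := φ.ker.card_mul_index
    rw [h.card, Subgroup.index_ker] at hr
    have hP := card_subgroup_dvd_card φ.range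
    rw [Nat.card_perm, e] at hP
    have h27 : 27 ∣ Nat.card φ.range := by
      refine Nat.Coprime.dvd_of_dvd_mul_left (k := 27) (show Nat.Coprime (3 ^ 3) _ from Nat.Coprime.pow_left 3 ?_) (hr ▸ (by norm_num : (27 : ℕ) ∣ 12096))
      exact (Nat.Prime.coprime_iff_not_dvd Nat.prime_three).2 h3k
    exact absurd (h27.trans hP) (by decide)
  · exfalso
    haveI : Fact (Nat.Prime 2) := ⟨Nat.prime_two⟩
    let q := QuotientGroup.mk' K
    have hq : Nat.card (G ⧸ K) = 189 := by
      have := K.card_mul_index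
      rw [e, h.card, index_eq_card] at this
      omega
    obtain ⟨P⟩ := (inferInstance : Nonempty (Sylow 7 (G ⧸ K)))
    have hn1 : Nat.card (Sylow 7 (G ⧸ K)) = 1 := by
      have hd := P.card_dvd_index
      have hP7 : Nat.card (P : Subgroup (G ⧸ K)) = 7 := by
        have h7d : 7 ∣ Nat.card (P : Subgroup (G ⧸ K)) := P.dvd_card_of_dvd_card (by rw [hq]; norm_num)
        obtain ⟨a, ha⟩ := P.2.exists_card_eq
        have hle : a ≤ 1 := by
          by_contra hlt
          have := (pow_dvd_pow 7 (show 2 ≤ a by omega)).trans (ha ▸ card_subgroup_dvd_card (P : Subgroup (G ⧸ K)))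
          rw [hq] at this; norm_num at this
        interval_cases a <;> simp [ha] at h7d ⊢
      have := (P : Subgroup (G ⧸ K)).card_mul_index
      rw [hP7, hq] at this
      have hi : (P : Subgroup (G ⧸ K)).index = 27 := by omega
      rw [hi] at hd
      have hm := card_sylow_modEq_one 7 (G ⧸ K)
      have : ∀ d ∈ Nat.divisors 27, d % 7 = 1 → d = 1 := by decide
      exact this _ (Nat.mem_divisors.2 ⟨hd, by norm_num⟩) hm
    haveI : Subsingleton (Sylow 7 (G ⧸ K)) := (Nat.card_eq_one_iff_unique.1 hn1).1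
    haveI hPn : (P : Subgroup (G ⧸ K)).Normal := P.normal_of_subsingleton
    set M := (P : Subgroup (G ⧸ K)).comap q
    haveI : M.Normal := hPn.comap q
    obtain ⟨Q⟩ := (inferInstance : Nonempty (Sylow 7 G))
    have hall : ∀ R : Sylow 7 G, (R : Subgroup G) ≤ M := fun R => by
      rw [← map_le_iff_le_comap]
      obtain ⟨R', hR'⟩ := (R.2.map q).exists_le_sylow
      rwa [Subsingleton.elim R' P] at hR'
    have hMcard : Nat.card M ∣ 448 := by
      have h1 : M.index = (P : Subgroup (G ⧸ K)).index := (P : Subgroup (G ⧸ K)).index_comap_of_surjective (QuotientGroup.mk'_surjective K)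
      have h2 := M.card_mul_index
      have h3' := (P : Subgroup (G ⧸ K)).card_mul_index
      have h4 : 27 ∣ (P : Subgroup (G ⧸ K)).index := by
        refine Nat.Coprime.dvd_of_dvd_mul_left (k := 27) (show Nat.Coprime (3 ^ 3) _ from Nat.Coprime.pow_left 3 ?_) (h3' ▸ hq ▸ (by norm_num : (27 : ℕ) ∣ 189))
        exact (Nat.Prime.coprime_iff_not_dvd Nat.prime_three).2 fun hd => by
          obtain ⟨a, ha⟩ := P.2.exists_card_eq
          rw [ha] at hd
          exact absurd (Nat.prime_three.dvd_of_dvd_pow hd) (by norm_num)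
      rw [h1, h.card] at h2
      obtain ⟨c, hc⟩ := h4
      exact ⟨c, by rw [hc] at h2; linarith⟩
    let f : Sylow 7 G → Sylow 7 M := fun R => R.subtype (hall R)
    have hf : Function.Injective f := fun a b hab => Sylow.subtype_injective hab
    have h288 := Nat.card_le_card_of_injective f hf
    rw [card_sylow_seven h] at h288
    obtain ⟨R⟩ := (inferInstance : Nonempty (Sylow 7 M))
    have h7M : 7 ∣ Nat.card (R : Subgroup M) := by
      refine R.dvd_card_of_dvd_card ?_
      exact (Q.dvd_card_of_dvd_card (by rw [h.card]; norm_num)).trans (card_dvd_of_le (hall Q))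
    have hle := Nat.le_of_dvd (Nat.pos_of_ne_zero R.1.index_ne_zero_of_finite) R.card_dvd_index
    have h64 : (R : Subgroup M).index ∣ 64 := by
      refine Nat.Coprime.dvd_of_dvd_mul_left (k := (R : Subgroup M).index) (m := 7) ?_ ?_
      · exact ((Nat.Prime.coprime_iff_not_dvd (by norm_num : Nat.Prime 7)).2 R.not_dvd_index).symm
      · show _ ∣ 7 * 64
        exact (R : Subgroup M).index_dvd_card.trans hMcard
    have := Nat.le_of_dvd (by norm_num) h64
    omega

theorem normal_card_cases (h : Hyp G) (K : Subgroup G) [hK : K.Normal] (hb : K ≠ ⊥) :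
    Nat.card K = 6048 ∨ Nat.card K = 12096 := by
  haveI : Fact (Nat.Prime 7) := ⟨by norm_num⟩
  have step : ∀ (L : Subgroup G), L.Normal → L ≠ ⊥ →
      Nat.card L = 4032 ∨ Nat.card L = 6048 ∨ Nat.card L = 12096 := by
    intro L hL hLb
    have h7 : 7 ∣ Nat.card L := by_contra fun hc => hLb (normal_eq_bot_of_not_seven h L hc)
    obtain ⟨Q⟩ := (inferInstance : Nonempty (Sylow 7 ↥L))
    set P := (Q : Subgroup ↥L).map L.subtype with hP
    have hQ7 : Nat.card (Q : Subgroup ↥L) = 7 := by
      obtain ⟨a, ha⟩ := Q.2.exists_card_eq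
      have h1 := Q.dvd_card_of_dvd_card h7
      have hle : a ≤ 1 := by
        by_contra hlt
        have := (pow_dvd_pow 7 (show 2 ≤ a by omega)).trans ((ha ▸ card_subgroup_dvd_card (Q : Subgroup ↥L)).trans (h.card ▸ card_subgroup_dvd_card L))
        norm_num at this
      interval_cases a <;> simp [ha] at h1 ⊢
    have hPc : Nat.card P = 7 := by rw [hP, card_map_of_injective L.subtype_injective, hQ7]
    obtain ⟨R, hR⟩ := (Q.2.map L.subtype).exists_le_sylow
    have hRP : (R : Subgroup G) = P := by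
      refine (eq_of_le_of_card_ge hR ?_).symm
      obtain ⟨a, ha⟩ := R.2.exists_card_eq
      have hle : a ≤ 1 := by
        by_contra hlt
        have := (pow_dvd_pow 7 (show 2 ≤ a by omega)).trans (ha ▸ h.card ▸ card_subgroup_dvd_card (R : Subgroup G))
        norm_num at this
      rw [show Nat.card ↥(Subgroup.map L.subtype (Q : Subgroup ↥L)) = 7 from hPc, ha]
      interval_cases a <;> norm_num
    have hN42 := card_normalizer_seven h R
    rw [hRP] at hN42
    set N := normalizer (P : Set G)
    have hsup : L ⊔ N = ⊤ := by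
      have e : P = (Q : Subgroup ↥L).map L.subtype := rfl
      have := Sylow.normalizer_sup_eq_top Q
      rw [sup_comm]; exact this
    have hLN : 288 * Nat.card ↥(L ⊓ N) = Nat.card L := by
      have h1 : Nat.card G * Nat.card ↥(L ⊓ N) = Nat.card L * Nat.card N := by
        have e1 := (L ⊓ N).subgroupOf N |>.card_mul_index
        have e2 := L.card_mul_index
        have e3 : ((L ⊓ N).subgroupOf N).index = L.index := by
          rw [inf_subgroupOf_right, ← relIndex, ← relIndex_sup_right, sup_comm, hsup, relIndex_top_right]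
        rw [Nat.card_congr (subgroupOfEquivOfLe inf_le_right).toEquiv, e3] at e1
        calc Nat.card G * Nat.card ↥(L ⊓ N) = Nat.card L * (Nat.card ↥(L ⊓ N) * L.index) := by
              rw [← e2]; ring
          _ = Nat.card L * Nat.card N := by rw [e1]
      rw [h.card, hN42] at h1
      omega
    have hPLN : P ≤ L ⊓ N := le_inf (map_subtype_le _) le_normalizer
    have hd7 : 7 ∣ Nat.card ↥(L ⊓ N) := hPc ▸ card_dvd_of_le hPLN
    have hd42 : Nat.card ↥(L ⊓ N) ∣ 42 := hN42 ▸ card_dvd_of_le inf_le_right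
    have hne : Nat.card ↥(L ⊓ N) ≠ 7 := by
      intro e7
      have hLNP : L ⊓ N = P := (eq_of_le_of_card_ge hPLN (by rw [e7, hPc])).symm
      have hnc : normalizer ((Q : Subgroup ↥L) : Set ↥L) ≤ centralizer ((Q : Subgroup ↥L) : Set ↥L) := by
        intro x hx
        have hxP : (x : G) ∈ P := by
          rw [← hLNP]
          refine ⟨x.2, mem_normalizer_iff.2 fun y => ?_⟩
          constructor
          · rintro ⟨z, hz, rfl⟩
            exact ⟨x * z * x⁻¹, (mem_normalizer_iff.1 hx z).1 hz, rfl⟩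
          · rintro ⟨z, hz, ez⟩
            refine ⟨x⁻¹ * z * x, (mem_normalizer_iff.1 hx _).2 (by rwa [show x * (x⁻¹ * z * x) * x⁻¹ = z by group]), ?_⟩
            show (x.1)⁻¹ * z.1 * x.1 = y
            rw [show z.1 = x.1 * y * x.1⁻¹ from ez]; group
        obtain ⟨z, hz, ez⟩ := hxP
        obtain rfl : z = x := Subtype.ext ez
        haveI : IsCyclic ↥(Q : Subgroup ↥L) := isCyclic_of_prime_card hQ7
        intro y hy
        letI := IsCyclic.commGroup (α := ↥(Q : Subgroup ↥L))
        exact congrArg Subtype.val (mul_comm (⟨y, hy⟩ : ↥(Q : Subgroup ↥L)) ⟨z, hz⟩)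
      have hcompl := MonoidHom.ker_transferSylow_isComplement' Q hnc
      set M := (MonoidHom.transferSylow Q hnc).ker
      have hMc : Nat.card M = 288 := by
        have := hcompl.card_mul
        rw [hQ7, ← hLN, e7] at this
        omega
      have hmem : ∀ y : ↥L, y ∈ M ↔ ¬ 7 ∣ orderOf y := by
        intro y
        constructor
        · intro hy hd
          have := hd.trans (Subgroup.orderOf_mk (H := M) y hy ▸ orderOf_dvd_natCard (⟨y, hy⟩ : M))
          rw [hMc] at this; norm_num at this
        · intro hy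
          rw [MonoidHom.mem_ker, ← orderOf_eq_one_iff]
          have h1 := orderOf_map_dvd (MonoidHom.transferSylow Q hnc) y
          have h2 := orderOf_dvd_natCard (MonoidHom.transferSylow Q hnc y)
          rw [hQ7, Nat.dvd_prime (by norm_num)] at h2
          exact h2.resolve_right fun e => hy (e ▸ h1)
      haveI : (M.map L.subtype).Normal := ⟨by
        rintro _ ⟨y, hy, rfl⟩ g
        refine ⟨⟨g * y.1 * g⁻¹, hL.conj_mem _ y.2 g⟩, (hmem _).2 ?_, rfl⟩
        intro hd
        refine (hmem y).1 hy ?_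
        rw [← Subgroup.orderOf_coe] at hd ⊢
        rwa [show orderOf (g * y.1 * g⁻¹) = orderOf y.1 from
          orderOf_injective (MulAut.conj g).toMonoidHom (MulAut.conj g).injective y.1] at hd⟩
      have hbot := normal_eq_bot_of_not_seven h (M.map L.subtype)
        (by rw [card_map_of_injective L.subtype_injective, hMc]; norm_num)
      have := congrArg (fun H : Subgroup G => Nat.card H) hbot
      simp only [card_map_of_injective L.subtype_injective, hMc, card_bot] at this
      norm_num at this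
    have key : ∀ d ∈ Nat.divisors 42, 7 ∣ d → d ≠ 7 → d = 14 ∨ d = 21 ∨ d = 42 := by decide
    rcases key _ (Nat.mem_divisors.2 ⟨hd42, by norm_num⟩) hd7 hne with e | e | e <;> omega
  rcases step K hK hb with e | e | e
  · exfalso
    haveI : IsSimpleGroup ↥K := by
      haveI : Nontrivial ↥K := (nontrivial_iff_ne_bot K).2 hb
      refine ⟨fun M hM => ?_⟩
      by_contra hc
      push Not at hc
      by_cases h7M : 7 ∣ Nat.card M
      · obtain ⟨R⟩ := (inferInstance : Nonempty (Sylow 7 ↥M))
        -- every element of order seven of K lies in M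
        have hall : ∀ y : ↥K, orderOf y = 7 → y ∈ M := by
          intro y hy
          obtain ⟨m, hm⟩ := exists_prime_orderOf_dvd_card' (G := M) 7 h7M
          obtain ⟨S, hS⟩ := (IsPGroup.of_card (p := 7) (n := 1) (G := ↥(zpowers y)) (by rw [Nat.card_zpowers, hy, pow_one])).exists_le_sylow
          obtain ⟨S', hS'⟩ := (IsPGroup.of_card (p := 7) (n := 1) (G := ↥(zpowers (m : ↥K))) (by rw [Nat.card_zpowers, Subgroup.orderOf_coe, hm, pow_one])).exists_le_sylow
          have hS7 : ∀ T : Sylow 7 ↥K, Nat.card T ≤ 7 := fun T => by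
            obtain ⟨a, ha⟩ := T.2.exists_card_eq
            have hle : a ≤ 1 := by
              by_contra hlt
              have := (pow_dvd_pow 7 (show 2 ≤ a by omega)).trans (ha ▸ e ▸ card_subgroup_dvd_card (T : Subgroup ↥K))
              norm_num at this
            rw [ha]; exact (Nat.pow_le_pow_right (by norm_num) hle)
          have eS' : (S' : Subgroup ↥K) = zpowers (m : ↥K) :=
            (eq_of_le_of_card_ge hS' (by rw [Nat.card_zpowers, Subgroup.orderOf_coe, hm]; exact hS7 S')).symm
          obtain ⟨g, hg⟩ := MulAction.exists_smul_eq ↥K S' S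
          have hy' : y ∈ (g • S' : Sylow 7 ↥K) := hg ▸ hS (mem_zpowers y)
          replace hy' : y ∈ ((g • S' : Sylow 7 ↥K) : Subgroup ↥K) := hy'
          rw [conj_mem_sylow, eS'] at hy'
          have := hM.conj_mem _ (zpowers_le.2 m.2 hy') g
          rwa [show g * (g⁻¹ * y * g) * g⁻¹ = y by group] at this
        set A := closure {y : G | y ∈ K ∧ orderOf y = 7}
        haveI : A.Normal := ⟨by
          intro n hn g
          induction hn using closure_induction with
          | mem y hy => exact subset_closure ⟨hK.conj_mem _ hy.1 g, (orderOf_injective (MulAut.conj g).toMonoidHom (MulAut.conj g).injective y).trans hy.2⟩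
          | one => simp
          | mul a b _ _ ha hb' => rw [show g * (a * b) * g⁻¹ = g * a * g⁻¹ * (g * b * g⁻¹) by group]; exact mul_mem ha hb'
          | inv a _ ha => rw [show g * a⁻¹ * g⁻¹ = (g * a * g⁻¹)⁻¹ by group]; exact inv_mem ha⟩
        have hAK : A ≤ M.map K.subtype := (closure_le _).2 fun y hy =>
          ⟨⟨y, hy.1⟩, hall _ (by rw [Subgroup.orderOf_mk]; exact hy.2), rfl⟩
        have hAb : A ≠ ⊥ := by
          obtain ⟨v, hv⟩ := exists_prime_orderOf_dvd_card' (G := K) 7 (by rw [e]; norm_num)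
          intro hA
          have : (v : G) ∈ A := subset_closure ⟨v.2, by rw [Subgroup.orderOf_coe, hv]⟩
          rw [hA, mem_bot] at this
          rw [← Subgroup.orderOf_coe, this, orderOf_one] at hv
          norm_num at hv
        have hle := Nat.le_of_dvd Nat.card_pos (card_dvd_of_le hAK)
        rw [card_map_of_injective K.subtype_injective] at hle
        have hlt : Nat.card M < 4032 := by
          rcases Nat.lt_or_ge (Nat.card M) (Nat.card K) with hlt | hge
          · omega
          · exact absurd (M.eq_top_of_le_card hge) hc.2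
        rcases step A inferInstance hAb with e' | e' | e' <;> omega
      · obtain ⟨v, hv⟩ := exists_prime_orderOf_dvd_card' (G := K) 7 (by rw [e]; norm_num)
        have hn : (v : G) ∈ normalizer ((M.map K.subtype : Subgroup G) : Set G) :=
          Subgroup.le_normalizer_map _ ⟨v, by rw [normalizer_eq_top]; exact mem_top v, rfl⟩
        have h3 := card_sylow_three_subgroup h (by rw [Subgroup.orderOf_coe, hv]) hn
          (by rwa [card_map_of_injective K.subtype_injective])
        rw [card_map_of_injective K.subtype_injective] at h3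
        haveI : Fact (Nat.Prime 2) := ⟨Nat.prime_two⟩
        have h2 : IsPGroup 2 M := by
          have hd : Nat.card M ∈ Nat.divisors 4032 := Nat.mem_divisors.2 ⟨e ▸ card_subgroup_dvd_card M, by norm_num⟩
          have key : ∀ d ∈ Nat.divisors 4032, ¬ 7 ∣ d → ¬ 3 ∣ d → ∃ n < 8, d = 2 ^ n := by decide +kernel
          obtain ⟨n, -, hn⟩ := key _ hd h7M h3
          exact IsPGroup.of_card hn
        have hO : (Cfsg.pCore 2 ↥K) ≠ ⊥ := CfsgLib.Base.pCore_ne_bot_of_exists hc.1 h2
        have hnd : ¬ 7 ∣ Nat.card ↥((Cfsg.pCore 2 ↥K).map K.subtype) := by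
          rw [card_map_of_injective K.subtype_injective]
          obtain ⟨a, ha⟩ := (CfsgLib.Base.isPGroup_pCore 2 ↥K).exists_card_eq
          rw [ha]
          exact fun hd => absurd ((by norm_num : Nat.Prime 7).dvd_of_dvd_pow hd) (by norm_num)
        haveI : ((Cfsg.pCore 2 ↥K).map K.subtype).Normal := inferInstance
        exact hO ((map_eq_bot_iff_of_injective _ K.subtype_injective).1 (normal_eq_bot_of_not_seven h _ hnd))
    have hnc : ¬ IsMulCommutative ↥K := by
      intro hcomm
      haveI := hcomm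
      letI : CommGroup ↥K := { (inferInstance : Group ↥K) with mul_comm := fun a b => IsMulCommutative.is_comm.comm a b }
      have := IsSimpleGroup.prime_card (α := ↥K)
      rw [e] at this; norm_num at this
    have := Cfsg.Agent.S0983.result hnc (by omega) (by omega)
    omega
  · exact Or.inl e
  · exact Or.inr e

/-- There is no proper subgroup whose index is so small that the group would embed. -/
theorem dvd_factorial (h : Hyp G) (H : Subgroup G) (hi : 3 ≤ H.index) :
    12096 ∣ H.index.factorial := by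
  classical
  have hc : H.normalCore = ⊥ := by
    by_contra hb
    have h1 := Nat.le_of_dvd Nat.card_pos (card_dvd_of_le H.normalCore_le)
    have h2 := H.card_mul_index
    rw [h.card] at h2
    rcases normal_card_cases h H.normalCore hb with e | e <;> rw [e] at h1 <;> nlinarith
  have hinj : Function.Injective (MulAction.toPermHom G (G ⧸ H)) := by
    rw [← MonoidHom.ker_eq_bot_iff, ← Subgroup.normalCore_eq_ker, hc]
  have := Subgroup.card_dvd_of_injective _ hinj
  rwa [h.card, Nat.card_perm, ← Subgroup.index_eq_card] at this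

theorem index_ne (h : Hyp G) (H : Subgroup G) {n : ℕ} (hn : n = 3 ∨ n = 4 ∨ n = 7) : H.index ≠ n := by
  intro e
  have hd := dvd_factorial h H (by rcases hn with rfl | rfl | rfl <;> omega)
  rw [e] at hd
  rcases hn with rfl | rfl | rfl <;> norm_num [Nat.factorial] at hd

theorem no_two_adic (h : Hyp G) {H : Subgroup G} (h27 : 1728 ∣ Nat.card H) : H = ⊤ := by
  have hi := H.card_mul_index
  obtain ⟨c, hc⟩ := h27
  rw [h.card, hc] at hi
  have hc7 : c * H.index = 7 := by rw [mul_assoc] at hi; omega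
  rcases (Nat.dvd_prime (by norm_num : Nat.Prime 7)).1 ⟨c, by rw [mul_comm] at hc7; exact hc7.symm⟩ with e | e
  · exact index_eq_one.1 e
  · exact absurd e (index_ne h H (by omega))

theorem pResidual_three (h : Hyp G) : Cfsg.pResidual 3 G = ⊤ := by
  by_contra hne
  haveI : (Cfsg.pResidual 3 G).Normal := ⟨fun n hn g => by
    induction hn using closure_induction with
    | mem y hy => exact subset_closure (show Nat.Coprime (orderOf (g * y * g⁻¹)) 3 by
        rw [show orderOf (g * y * g⁻¹) = orderOf y from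
          orderOf_injective (MulAut.conj g).toMonoidHom (MulAut.conj g).injective y]; exact hy)
    | one => simp
    | mul a b _ _ ha hb' => rw [show g * (a * b) * g⁻¹ = g * a * g⁻¹ * (g * b * g⁻¹) by group]; exact mul_mem ha hb'
    | inv a _ ha => rw [show g * a⁻¹ * g⁻¹ = (g * a * g⁻¹)⁻¹ by group]; exact inv_mem ha⟩
  obtain ⟨u, hu⟩ := exists_seven h
  have humem : u ∈ Cfsg.pResidual 3 G := subset_closure (by show Nat.Coprime (orderOf u) 3; rw [hu]; norm_num)
  have hb : Cfsg.pResidual 3 G ≠ ⊥ := fun e => by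
    rw [e, mem_bot] at humem; rw [humem, orderOf_one] at hu; norm_num at hu
  have h2 : 2 ∣ (Cfsg.pResidual 3 G).index := by
    rcases normal_card_cases h _ hb with e | e
    · have := (Cfsg.pResidual 3 G).card_mul_index
      rw [e, h.card] at this
      exact ⟨1, by omega⟩
    · exact absurd (eq_top_of_card_eq _ (by rw [e, h.card])) hne
  rw [index_eq_card] at h2
  haveI : Fact (Nat.Prime 2) := ⟨Nat.prime_two⟩
  obtain ⟨q, hq⟩ := exists_prime_orderOf_dvd_card' (G := G ⧸ Cfsg.pResidual 3 G) 2 h2
  induction q using QuotientGroup.induction_on with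
  | _ g =>
    have hd := orderOf_map_dvd (QuotientGroup.mk' (Cfsg.pResidual 3 G)) g
    rw [show QuotientGroup.mk' (Cfsg.pResidual 3 G) g = (g : G ⧸ Cfsg.pResidual 3 G) from rfl, hq] at hd
    obtain ⟨m, hm⟩ : ∃ m, orderOf g = 3 ^ (orderOf g).factorization 3 * m ∧ ¬ 3 ∣ m :=
      ⟨_, (Nat.ordProj_mul_ordCompl_eq_self _ 3).symm, Nat.not_dvd_ordCompl Nat.prime_three (orderOf_pos g).ne'⟩
    set a := (orderOf g).factorization 3
    have hmem : g ^ 3 ^ a ∈ Cfsg.pResidual 3 G := subset_closure (by
      show Nat.Coprime (orderOf (g ^ 3 ^ a)) 3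
      rw [orderOf_pow_of_dvd (by positivity) ⟨m, hm.1⟩, hm.1, Nat.mul_div_cancel_left _ (by positivity)]
      exact ((Nat.Prime.coprime_iff_not_dvd Nat.prime_three).2 hm.2).symm)
    have h1 : ((g : G ⧸ Cfsg.pResidual 3 G)) ^ 3 ^ a = 1 := by
      rw [← QuotientGroup.mk_pow, QuotientGroup.eq_one_iff]; exact hmem
    have h3 := orderOf_dvd_of_pow_eq_one h1
    rw [hq] at h3
    exact absurd (Nat.prime_two.dvd_of_dvd_pow h3) (by norm_num)

end CfsgLib.Recog.G2TwoSpec
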