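import Cfsg.Agent.Lib.Recog.G2TwoSpec.Coord

/-!
# 2-groups of automorphisms of the two laws
-/

set_option autoImplicit false
set_option linter.unusedSectionVars false
set_option linter.style.haveILetI false

open Subgroup

namespace CfsgLib.Recog.G2TwoSpec

theorem mulH_lt : ∀ u v : Fin 27, mulH u v < 27 := by decide +kernel
theorem mulA_lt : ∀ u v : Fin 27, mulA u v < 27 := by decide +kernel
theorem okB_heis : okB mulH TH = true := by decide +kernel
theorem okB_ab : okB mulA P32 = true := by decide +kernel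

theorem tabOK_heis : TabOK mulH TH :=
  TabOK.mk' mulH_lt okB_heis (by decide +kernel) (by decide +kernel) (by decide +kernel)

theorem tabOK_ab : TabOK mulA P32 :=
  TabOK.mk' mulA_lt okB_ab (by decide +kernel) (by decide +kernel) (by decide +kernel)

/-- small powers -/
def pw (mul : ℕ → ℕ → ℕ) (v : Fin 27) : Fin 3 → Fin 27
  | 0 => 0
  | 1 => v
  | 2 => mF mul v v

theorem heis_idem : ∀ x : Fin 27, mF mulH x x = x → x = 0 := by decide +kernel
theorem ab_idem : ∀ x : Fin 27, mF mulA x x = x → x = 0 := by decide +kernel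

theorem heis_zero : mF mulH 0 0 = 0 := by decide +kernel
theorem ab_zero : mF mulA 0 0 = 0 := by decide +kernel

theorem pw_fix {mul : ℕ → ℕ → ℕ} {σ : Equiv.Perm (Fin 27)} (hσ : σ ∈ autOf mul)
    (hidem : ∀ x, mF mul x x = x → x = 0) (h0 : mF mul 0 0 = 0) {v : Fin 27} (hv : σ v = v) (a : Fin 3) :
    σ (pw mul v a) = pw mul v a := by
  fin_cases a
  · show σ 0 = 0
    refine hidem _ ?_
    rw [← hσ 0 0, h0]
  · exact hv
  · show σ (mF mul v v) = mF mul v v
    rw [hσ v v, hv]

theorem heis_X0 : (Finset.univ.filter fun x : Fin 27 => ∃ y, mF mulH x y ≠ mF mulH y x).card = 24 := by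
  decide +kernel

theorem heis_X1 : ∀ v : Fin 27, (∃ y, mF mulH v y ≠ mF mulH y v) →
    (Finset.univ.filter fun w : Fin 27 => mF mulH v w ≠ mF mulH w v).card = 18 := by
  decide +kernel

/-- commutator -/
def kH (v w : Fin 27) : Fin 27 := mF mulH (mF mulH v w) (mF mulH (mF mulH v v) (mF mulH w w))

theorem ab_comm : ∀ x y : Fin 27, mF mulA x y = mF mulA y x := by decide +kernel

theorem ab_cube : ∀ x : Fin 27, mF mulA x (mF mulA x x) = 0 := by decide +kernel

variable {G : Type*} [Group G] [Finite G]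

/-- The elements fixed by an automorphism of the law, inside the group. -/
theorem fix_subgroup {mul : ℕ → ℕ → ℕ} {S : Subgroup G} (c : Coord mul S) {σ : Equiv.Perm (Fin 27)}
    (hσ : σ ∈ autOf mul) (hidem : ∀ x, mF mul x x = x → x = 0) (h0 : mF mul 0 0 = 0) :
    ∃ K : Subgroup ↥S, ∀ s, s ∈ K ↔ σ (c.E.symm s) = c.E.symm s := by
  have hE0 : c.E 0 = 1 := by
    have := c.hom 0 0
    rw [h0] at this
    exact left_eq_mul.1 this
  let M : Submonoid ↥S :=
    { carrier := {s | σ (c.E.symm s) = c.E.symm s}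
      one_mem' := by
        show σ (c.E.symm 1) = c.E.symm 1
        rw [show c.E.symm 1 = 0 by rw [Equiv.symm_apply_eq, hE0]]
        exact hidem _ (by rw [← hσ 0 0, h0])
      mul_mem' := by
        intro s t hs ht
        have e : c.E.symm (s * t) = mF mul (c.E.symm s) (c.E.symm t) := by
          rw [Equiv.symm_apply_eq, c.hom, Equiv.apply_symm_apply, Equiv.apply_symm_apply]
        show σ (c.E.symm (s * t)) = c.E.symm (s * t)
        rw [e, hσ, show σ (c.E.symm s) = c.E.symm s from hs, show σ (c.E.symm t) = c.E.symm t from ht] }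
  refine ⟨{ M with inv_mem' := fun {s} hs => ?_ }, fun s => Iff.rfl⟩
  have h1 : s⁻¹ = s ^ (orderOf s - 1) := by
    refine inv_eq_of_mul_eq_one_right ?_
    rw [← pow_succ', Nat.sub_add_cancel (orderOf_pos s), pow_orderOf_eq_one]
  show s⁻¹ ∈ M
  rw [h1]
  exact pow_mem (show s ∈ M from hs) _

theorem card_coord {mul : ℕ → ℕ → ℕ} {S : Subgroup G} (c : Coord mul S) : Nat.card ↥S = 27 := by
  rw [← Nat.card_congr c.E, Nat.card_fin]

/-- A small orbit outside a subgroup fixed pointwise. -/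
theorem outside_step {mul : ℕ → ℕ → ℕ} {S : Subgroup G} (c : Coord mul S)
    (hidem : ∀ x, mF mul x x = x → x = 0) (h0 : mF mul 0 0 = 0)
    (P : Subgroup (Equiv.Perm (Fin 27))) (hPA : P ≤ autOf mul) (hP : IsPGroup 2 ↥P) (K : Subgroup ↥S)
    (hfix : ∀ σ ∈ P, ∀ s ∈ K, σ (c.E.symm s) = c.E.symm s) (k : ℕ) (hk : ¬ 2 ^ (k + 1) ∣ 27 - Nat.card K) :
    ∃ s : ↥S, s ∉ K ∧ ∃ Px : Subgroup (Equiv.Perm (Fin 27)), Px ≤ P ∧
      (∀ σ ∈ Px, ∀ t ∈ K ⊔ zpowers s, σ (c.E.symm t) = c.E.symm t) ∧ Nat.card P ≤ 2 ^ k * Nat.card Px := by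
  classical
  obtain ⟨x, hx, Px, hPx, hf, hc⟩ := small_orbit P hP (Finset.univ.filter fun x => c.E x ∉ K)
    (fun σ hσ x hx => by
      simp only [Finset.mem_filter, Finset.mem_univ, true_and] at hx ⊢
      intro hmem
      have h1 := hfix σ hσ _ hmem
      rw [Equiv.symm_apply_apply] at h1
      exact hx (σ.injective h1 ▸ hmem)) k (by
      have e : (Finset.univ.filter fun x => c.E x ∉ K).card = 27 - Nat.card K := by
        have h1 : (Finset.univ.filter fun x => c.E x ∉ K).card + (Finset.univ.filter fun x => c.E x ∈ K).card = 27 := by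
          rw [add_comm, Finset.card_filter_add_card_filter_not]; simp
        have h2 : (Finset.univ.filter fun x => c.E x ∈ K).card = Nat.card K := by
          rw [← Fintype.card_subtype, ← Nat.card_eq_fintype_card]
          exact Nat.card_congr (c.E.subtypeEquiv fun x => Iff.rfl)
        omega
      rw [e]; exact hk)
  simp only [Finset.mem_filter, Finset.mem_univ, true_and] at hx
  refine ⟨c.E x, hx, Px, hPx, fun σ hσ t ht => ?_, hc⟩
  obtain ⟨F, hF⟩ := fix_subgroup c (hPA (hPx hσ)) hidem h0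
  refine (hF t).1 (sup_le (fun s hs => (hF s).2 (hfix σ (hPx hσ) s hs)) (zpowers_le.2 ((hF _).2 ?_)) ht)
  rw [Equiv.symm_apply_apply]; exact hf σ hσ

theorem bound_heis {S : Subgroup G} (c : Coord mulH S) (P : Subgroup (Equiv.Perm (Fin 27)))
    (hPA : P ≤ autOf mulH) (hP : IsPGroup 2 ↥P) : Nat.card P ≤ 2 ^ 4 := by
  obtain ⟨v, hv, Pv, hPv, hfv, hcv⟩ := small_orbit P hP
    (Finset.univ.filter fun x : Fin 27 => ∃ y, mF mulH x y ≠ mF mulH y x)
    (fun σ hσ x hx => by
      simp only [Finset.mem_filter, Finset.mem_univ, true_and] at hx ⊢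
      obtain ⟨y, hy⟩ := hx
      exact ⟨σ y, fun e => hy (σ.injective (by rw [hPA hσ, hPA hσ]; exact e))⟩) 3 (by rw [heis_X0]; norm_num)
  simp only [Finset.mem_filter, Finset.mem_univ, true_and] at hv
  obtain ⟨w, hw, Pw, hPw, hfw, hcw⟩ := small_orbit Pv (hP.to_le hPv)
    (Finset.univ.filter fun w : Fin 27 => mF mulH v w ≠ mF mulH w v)
    (fun σ hσ x hx => by
      simp only [Finset.mem_filter, Finset.mem_univ, true_and] at hx ⊢
      exact fun e => hx (σ.injective (by rw [hPA (hPv hσ), hPA (hPv hσ), hfv σ hσ]; exact e)))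
    1 (by rw [heis_X1 v hv]; norm_num)
  simp only [Finset.mem_filter, Finset.mem_univ, true_and] at hw
  have hbot : Pw = ⊥ := eq_bot_iff.2 fun σ hσ => mem_bot.2 (Equiv.ext fun u => by
    obtain ⟨K, hK⟩ := fix_subgroup c (hPA (hPv (hPw hσ))) heis_idem heis_zero
    have hvK : c.E v ∈ K := (hK _).2 (by rw [Equiv.symm_apply_apply]; exact hfv σ (hPw hσ))
    have hwK : c.E w ∈ K := (hK _).2 (by rw [Equiv.symm_apply_apply]; exact hfw σ hσ)
    have htop : K = ⊤ := by
      refine eq_top_of_card_eq K ?_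
      haveI : Fact (Nat.Prime 3) := ⟨Nat.prime_three⟩
      obtain ⟨j, hj, hKj⟩ := (Nat.dvd_prime_pow Nat.prime_three).1
        (show Nat.card K ∣ 3 ^ 3 from (card_subgroup_dvd_card K).trans (dvd_of_eq (card_coord c)))
      have hne : ¬ j ≤ 2 := by
        intro hle
        have hcomm : Commute (c.E v) (c.E w) := by
          rcases (show j = 2 ∨ j ≤ 1 by omega) with rfl | hj1
          · exact congrArg Subtype.val (IsPGroup.commutative_of_card_eq_prime_sq (p := 3) hKj ⟨_, hvK⟩ ⟨_, hwK⟩)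
          · haveI : IsCyclic ↥K := by
              interval_cases j
              · haveI := (Nat.card_eq_one_iff_unique.1 (hKj.trans (pow_zero 3))).1
                infer_instance
              · exact isCyclic_of_prime_card (hKj.trans (pow_one 3))
            exact congrArg Subtype.val (IsCyclic.commutative.is_comm.comm (⟨_, hvK⟩ : ↥K) ⟨_, hwK⟩)
        exact hw (c.E.injective (by rw [c.hom, c.hom]; exact hcomm))
      rw [hKj, show j = 3 by omega, card_coord c]; norm_num
    have := (hK (c.E u)).1 (htop ▸ mem_top _)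
    rwa [Equiv.symm_apply_apply] at this)
  rw [hbot, card_bot] at hcw
  omega

theorem bound_ab {S : Subgroup G} (c : Coord mulA S) (P : Subgroup (Equiv.Perm (Fin 27)))
    (hPA : P ≤ autOf mulA) (hP : IsPGroup 2 ↥P) : Nat.card P ≤ 2 ^ 5 := by
  haveI : Fact (Nat.Prime 3) := ⟨Nat.prime_three⟩
  have hcomm : ∀ s t : ↥S, Commute s t := fun s t => by
    rw [← c.E.apply_symm_apply s, ← c.E.apply_symm_apply t]
    show _ * _ = _ * _
    rw [← c.hom, ← c.hom, ab_comm]
  have hE0 : c.E 0 = 1 := by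
    have := c.hom 0 0
    rw [ab_zero] at this
    exact left_eq_mul.1 this
  have hcube : ∀ s : ↥S, s ^ 3 = 1 := fun s => by
    rw [← c.E.apply_symm_apply s, pow_three, ← c.hom, ← c.hom, ab_cube, hE0]
  have hone : ∀ σ ∈ P, ∀ s ∈ (⊥ : Subgroup ↥S), σ (c.E.symm s) = c.E.symm s := by
    intro σ hσ s hs
    rw [mem_bot.1 hs, show c.E.symm 1 = 0 by rw [Equiv.symm_apply_eq, hE0]]
    exact ab_idem _ (by rw [← hPA hσ 0 0, ab_zero])
  obtain ⟨v, hv, Pv, hPv, hfv, hcv⟩ := outside_step c ab_idem ab_zero P hPA hP ⊥ hone 1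
    (by rw [card_bot]; norm_num)
  rw [bot_sup_eq] at hfv
  have hv3 : Nat.card ↥(zpowers v) = 3 := by
    rw [Nat.card_zpowers]; exact orderOf_eq_prime (hcube v) fun e => hv (mem_bot.2 e)
  obtain ⟨w, hw, Pw, hPw, hfw, hcw⟩ := outside_step c ab_idem ab_zero Pv (hPv.trans hPA) (hP.to_le hPv)
    (zpowers v) hfv 3 (by rw [hv3]; norm_num)
  have hvw : Nat.card ↥(zpowers v ⊔ zpowers w) = 9 := by
    have hw3 : Nat.card ↥(zpowers w) = 3 := by
      rw [Nat.card_zpowers]; exact orderOf_eq_prime (hcube w) fun e => hw (e ▸ one_mem _)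
    let f := MonoidHom.noncommCoprod (zpowers v).subtype (zpowers w).subtype fun a b => hcomm _ _
    have hr : f.range = zpowers v ⊔ zpowers w := by
      rw [MonoidHom.noncommCoprod_range, range_subtype, range_subtype]
    have hle := Nat.card_le_card_of_surjective f.rangeRestrict f.rangeRestrict_surjective
    rw [hr, Nat.card_prod, hv3, hw3] at hle
    obtain ⟨j, hj, hKj⟩ := (Nat.dvd_prime_pow Nat.prime_three).1
      (show Nat.card ↥(zpowers v ⊔ zpowers w) ∣ 3 ^ 3 from (card_subgroup_dvd_card _).trans (dvd_of_eq (card_coord c)))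
    have hlt : ¬ j ≤ 1 := fun hle1 => hw ((eq_of_le_of_card_ge (le_sup_left : zpowers v ≤ zpowers v ⊔ zpowers w)
      (by rw [hv3, hKj]; exact (Nat.pow_le_pow_right (by norm_num) hle1).trans (le_of_eq (pow_one 3)))).symm.le
        ((le_sup_right : zpowers w ≤ zpowers v ⊔ zpowers w) (mem_zpowers w)))
    rw [hKj] at hle ⊢
    interval_cases j <;> simp_all
  obtain ⟨x, hx, Px, hPx, hfx, hcx⟩ := outside_step c ab_idem ab_zero Pw (hPw.trans (hPv.trans hPA))
    ((hP.to_le hPv).to_le hPw) _ hfw 1 (by rw [hvw]; norm_num)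
  have htop : zpowers v ⊔ zpowers w ⊔ zpowers x = ⊤ := by
    refine eq_top_of_card_eq _ ?_
    obtain ⟨j, hj, hKj⟩ := (Nat.dvd_prime_pow Nat.prime_three).1
      (show Nat.card ↥(zpowers v ⊔ zpowers w ⊔ zpowers x) ∣ 3 ^ 3 from
        (card_subgroup_dvd_card _).trans (dvd_of_eq (card_coord c)))
    have hlt : ¬ j ≤ 2 := fun hle2 => hx ((eq_of_le_of_card_ge
      (le_sup_left : zpowers v ⊔ zpowers w ≤ zpowers v ⊔ zpowers w ⊔ zpowers x)
      (by rw [hvw, hKj]; exact (Nat.pow_le_pow_right (by norm_num) hle2).trans (le_of_eq (by norm_num)))).symm.le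
        ((le_sup_right : zpowers x ≤ zpowers v ⊔ zpowers w ⊔ zpowers x) (mem_zpowers x)))
    rw [hKj, show j = 3 by omega, card_coord c]; norm_num
  have hbot : Px = ⊥ := eq_bot_iff.2 fun σ hσ => mem_bot.2 (Equiv.ext fun u => by
    have := hfx σ hσ (c.E u) (htop ▸ mem_top _)
    rwa [Equiv.symm_apply_apply] at this)
  rw [hbot, card_bot] at hcx
  omega

end CfsgLib.Recog.G2TwoSpec
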