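import Cfsg.Agent.Lib.Recog.G2TwoSpec.Data

/-!
# The search, evaluated
-/

set_option autoImplicit false

namespace CfsgLib.Recog.G2TwoSpec

theorem run_ab0 : Search.run TA0 gensA0 mulA invC [] = true := by decide +kernel

theorem run_ab1 : Search.run TA1 gensA1 mulA invC [] = true := by decide +kernel

theorem run_ab2 : Search.run TA2 gensA2 mulA invC [] = true := by decide +kernel

theorem run_ab3 : Search.run TA3 gensA3 mulA invC [] = true := by decide +kernel

theorem run_ab4 : Search.run TA4 gensA4 mulA invC [] = true := by decide +kernel

theorem run_ab5 : Search.run TA5 gensA5 mulA invC [] = true := by decide +kernel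

end CfsgLib.Recog.G2TwoSpec
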