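import Cfsg.Agent.Lib.Recog.G2TwoSpec.Data

/-!
# The search, evaluated
-/

set_option autoImplicit false

namespace CfsgLib.Recog.G2TwoSpec

theorem run_heis : Search.run TH gensH mulH invC goodH = true := by decide +kernel

end CfsgLib.Recog.G2TwoSpec
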