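import Mathlib
import Cfsg.Agent.Lib.Recog.G2TwoSpec.Data

/-!
# Coordinates on a group of order 27 and 2-groups of automorphisms
-/

set_option autoImplicit false
set_option linter.unusedSectionVars false
set_option linter.style.haveILetI false

open Subgroup
open scoped Pointwise

namespace CfsgLib.Recog.G2TwoSpec

/-- A law on 27 points. -/
def mF (mul : ℕ → ℕ → ℕ) (u v : Fin 27) : Fin 27 := ⟨mul u v % 27, Nat.mod_lt _ (by norm_num)⟩

/-- A packed table as a map of 27 points. -/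
def tabFun (m : ℕ) (x : Fin 27) : Fin 27 := ⟨Search.get m x % 27, Nat.mod_lt _ (by norm_num)⟩

/-- The automorphisms of a law. -/
def autOf (mul : ℕ → ℕ → ℕ) : Subgroup (Equiv.Perm (Fin 27)) where
  carrier := {σ | ∀ u v, σ (mF mul u v) = mF mul (σ u) (σ v)}
  one_mem' _ _ := rfl
  mul_mem' {σ τ} hσ hτ u v := by
    show σ (τ (mF mul u v)) = mF mul (σ (τ u)) (σ (τ v))
    rw [hτ u v]; exact hσ _ _
  inv_mem' {σ} hσ u v := by
    apply σ.injective
    rw [hσ]
    show σ (σ.symm (mF mul u v)) = mF mul (σ (σ.symm u)) (σ (σ.symm v))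
    simp

/-- A list of tables is a group of automorphisms of a law. -/
structure TabOK (mul : ℕ → ℕ → ℕ) (TL : List ℕ) : Prop where
  hom : ∀ m ∈ TL, ∀ x y, tabFun m (mF mul x y) = mF mul (tabFun m x) (tabFun m y)
  inj : ∀ m ∈ TL, Function.Injective (tabFun m)
  closed : ∀ m ∈ TL, ∀ m' ∈ TL, ∃ m'' ∈ TL, ∀ x, tabFun m (tabFun m' x) = tabFun m'' x
  one : ∃ m ∈ TL, ∀ x, tabFun m x = x
  nodup : (TL.map tabFun).Nodup

/-- boolean form of the checks -/
def okB (mul : ℕ → ℕ → ℕ) (TL : List ℕ) : Bool :=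
  (TL.all fun m => (List.range 27).all fun x => decide (Search.get m x < 27) &&
    (List.range 27).all fun y => Search.get m (mul x y) == mul (Search.get m x) (Search.get m y)) &&
  (TL.all fun m => TL.all fun m' => TL.any fun m'' => (List.range 27).all fun x =>
    Search.get m (Search.get m' x) == Search.get m'' x)

theorem TabOK.mk' {mul : ℕ → ℕ → ℕ} {TL : List ℕ} (hlt : ∀ u v : Fin 27, mul u v < 27)
    (hb : okB mul TL = true) (hinj : ∀ m ∈ TL, Function.Injective (tabFun m))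
    (hone : ∃ m ∈ TL, ∀ x, tabFun m x = x) (hnd : (TL.map tabFun).Nodup) : TabOK mul TL := by
  simp only [okB, Bool.and_eq_true, List.all_eq_true, List.any_eq_true, List.mem_range, decide_eq_true_eq,
    beq_iff_eq] at hb
  have hval : ∀ m ∈ TL, ∀ x : Fin 27, (tabFun m x : ℕ) = Search.get m x := fun m hm x =>
    Nat.mod_eq_of_lt (hb.1 m hm x x.2).1
  refine ⟨fun m hm x y => Fin.ext ?_, hinj, fun m hm m' hm' => ?_, hone, hnd⟩
  · rw [hval m hm, show ((mF mul x y : Fin 27) : ℕ) = mul x y from Nat.mod_eq_of_lt (hlt x y),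
      show ((mF mul (tabFun m x) (tabFun m y) : Fin 27) : ℕ) = mul (tabFun m x) (tabFun m y) from
        Nat.mod_eq_of_lt (hlt _ _), hval m hm, hval m hm]
    exact (hb.1 m hm x x.2).2 y y.2
  · obtain ⟨m'', hm'', e⟩ := hb.2 m hm m' hm'
    refine ⟨m'', hm'', fun x => Fin.ext ?_⟩
    rw [hval m hm, hval m' hm', hval m'' hm'']
    exact e x x.2

theorem exists_tab_group {mul : ℕ → ℕ → ℕ} {TL : List ℕ} (hT : TabOK mul TL) :
    ∃ P : Subgroup (Equiv.Perm (Fin 27)), P ≤ autOf mul ∧ Nat.card P = TL.length ∧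
      ∀ σ ∈ P, ∃ m ∈ TL, ∀ x, σ x = tabFun m x := by
  classical
  let M : Submonoid (Equiv.Perm (Fin 27)) :=
    { carrier := {σ | ∃ m ∈ TL, ∀ x, σ x = tabFun m x}
      one_mem' := by
        obtain ⟨m, hm, e⟩ := hT.one
        exact ⟨m, hm, fun x => (e x).symm⟩
      mul_mem' := by
        rintro σ τ ⟨m, hm, e⟩ ⟨m', hm', e'⟩
        obtain ⟨m'', hm'', e''⟩ := hT.closed m hm m' hm'
        exact ⟨m'', hm'', fun x => by rw [← e'', Equiv.Perm.mul_apply, e, e']⟩ }
  let P : Subgroup (Equiv.Perm (Fin 27)) :=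
    { M with
      inv_mem' := fun {σ} hσ => by
        have h1 : σ⁻¹ = σ ^ (orderOf σ - 1) := by
          refine inv_eq_of_mul_eq_one_right ?_
          rw [← pow_succ', Nat.sub_add_cancel (orderOf_pos σ), pow_orderOf_eq_one]
        show σ⁻¹ ∈ M
        rw [h1]
        exact pow_mem (show σ ∈ M from hσ) _ }
  have hbij : ∀ m ∈ TL, ∃ σ : Equiv.Perm (Fin 27), ∀ x, σ x = tabFun m x := fun m hm =>
    ⟨Equiv.ofBijective _ (Finite.injective_iff_bijective.1 (hT.inj m hm)), fun x => rfl⟩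
  choose σ hσ using hbij
  refine ⟨P, ?_, ?_, fun τ hτ => hτ⟩
  · rintro τ ⟨m, hm, e⟩ u v
    rw [e, e, e]; exact hT.hom m hm u v
  · let f : Fin TL.length → ↥P := fun i =>
      ⟨σ TL[i.1] (List.getElem_mem i.2), TL[i.1], List.getElem_mem i.2, hσ _ _⟩
    have hf : Function.Bijective f := by
      constructor
      · intro i j e
        have e1 : ∀ x, tabFun TL[i.1] x = tabFun TL[j.1] x := fun x => by
          rw [← hσ _ (List.getElem_mem i.2), ← hσ _ (List.getElem_mem j.2)]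
          exact congrArg (fun w : ↥P => (w : Equiv.Perm (Fin 27)) x) e
        refine Fin.ext ((List.Nodup.getElem_inj_iff hT.nodup (hi := by simp) (hj := by simp)).1 ?_)
        rw [List.getElem_map, List.getElem_map]
        exact funext e1
      · rintro ⟨τ, m, hm, e⟩
        obtain ⟨i, hi, rfl⟩ := List.getElem_of_mem hm
        exact ⟨⟨i, hi⟩, Subtype.ext (Equiv.ext fun x => (hσ _ _ x).trans (e x).symm)⟩
    rw [← Nat.card_eq_of_bijective f hf, Nat.card_fin]

/-- A 2-group has a small orbit on a set of small 2-part. -/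
theorem small_orbit (P : Subgroup (Equiv.Perm (Fin 27))) (hP : IsPGroup 2 ↥P) (X : Finset (Fin 27))
    (hX : ∀ σ ∈ P, ∀ x ∈ X, σ x ∈ X) (k : ℕ) (hk : ¬ 2 ^ (k + 1) ∣ X.card) :
    ∃ x ∈ X, ∃ Px : Subgroup (Equiv.Perm (Fin 27)), Px ≤ P ∧ (∀ σ ∈ Px, σ x = x) ∧
      Nat.card P ≤ 2 ^ k * Nat.card Px := by
  classical
  haveI : Fact (Nat.Prime 2) := ⟨Nat.prime_two⟩
  letI : MulAction ↥P ↥X :=
    { smul := fun σ x => ⟨σ.1 x.1, hX σ σ.2 x x.2⟩
      one_smul := fun x => Subtype.ext rfl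
      mul_smul := fun a b x => Subtype.ext rfl }
  by_contra hc
  push Not at hc
  apply hk
  haveI := Fintype.ofFinite (MulAction.orbitRel.Quotient ↥P ↥X)
  have hX' : Nat.card ↥X = X.card := by rw [Nat.card_eq_fintype_card, Fintype.card_coe]
  rw [← hX', Nat.card_congr (MulAction.selfEquivSigmaOrbits ↥P ↥X), Nat.card_sigma]
  refine Finset.dvd_sum fun ω _ => ?_
  set x := ω.out
  obtain ⟨j, hj⟩ := hP.index (MulAction.stabilizer ↥P x)
  rw [Nat.card_coe_set_eq, ← MulAction.index_stabilizer, hj]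
  refine pow_dvd_pow 2 ?_
  by_contra hlt
  have h1 := hc x.1 x.2 ((MulAction.stabilizer ↥P x).map P.subtype) (Subgroup.map_subtype_le _)
    (by rintro _ ⟨σ, hσ, rfl⟩; exact congrArg Subtype.val (show σ • x = x from hσ))
  rw [card_map_of_injective P.subtype_injective, ← (MulAction.stabilizer ↥P x).card_mul_index, hj,
    mul_comm] at h1
  have h2 : 2 ^ j ≤ 2 ^ k := Nat.pow_le_pow_right two_pos (by omega)
  have h3 := Nat.mul_le_mul_left (Nat.card ↥(MulAction.stabilizer ↥P x)) h2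
  rw [mul_comm, mul_comm (Nat.card ↥(MulAction.stabilizer ↥P x))] at h3
  linarith

/-- Coordinates on a subgroup. -/
structure Coord {G : Type*} [Group G] (mul : ℕ → ℕ → ℕ) (S : Subgroup G) where
  E : Fin 27 ≃ ↥S
  hom : ∀ u v, E (mF mul u v) = E u * E v

/-- Coordinates in which a 2-group acts by the tables. -/
theorem adapt {G : Type*} [Group G] {mul : ℕ → ℕ → ℕ} {TL : List ℕ} (hT : TabOK mul TL) {n : ℕ}
    (hn : TL.length = 2 ^ n)
    (hb : ∀ P : Subgroup (Equiv.Perm (Fin 27)), P ≤ autOf mul → IsPGroup 2 ↥P → Nat.card P ≤ 2 ^ n)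
    {S : Subgroup G} (c : Coord mul S) (T : Subgroup G) (hTS : T ≤ normalizer (S : Set G))
    (hT2 : IsPGroup 2 ↥T) :
    ∃ c' : Coord mul S, ∀ t ∈ T, ∃ m ∈ TL, ∀ u, (c'.E (tabFun m u) : G) = t * c'.E u * t⁻¹ := by
  haveI : Fact (Nat.Prime 2) := ⟨Nat.prime_two⟩
  obtain ⟨P, hPA, hPc, hPt⟩ := exists_tab_group hT
  let cj : ↥T → ↥S → ↥S := fun t s => ⟨(t : G) * s * (t : G)⁻¹, (mem_normalizer_iff.1 (hTS t.2) _).1 s.2⟩
  let cE : ↥T → (↥S ≃ ↥S) := fun t =>
    { toFun := cj t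
      invFun := cj t⁻¹
      left_inv := fun s => Subtype.ext (by simp [cj, mul_assoc])
      right_inv := fun s => Subtype.ext (by simp [cj, mul_assoc]) }
  let φ : ↥T →* Equiv.Perm (Fin 27) := MonoidHom.mk' (fun t => c.E.trans ((cE t).trans c.E.symm))
    (fun a b => Equiv.ext fun u => by
      show c.E.symm (cj (a * b) (c.E u)) = c.E.symm (cj a (c.E (c.E.symm (cj b (c.E u)))))
      rw [Equiv.apply_symm_apply]
      refine congrArg c.E.symm (Subtype.ext ?_)
      simp [cj, mul_assoc])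
  have hφE : ∀ (t : ↥T) u, (c.E (φ t u) : G) = (t : G) * c.E u * (t : G)⁻¹ := fun t u => by
    show (c.E (c.E.symm (cj t (c.E u))) : G) = _
    rw [Equiv.apply_symm_apply]
  have hφA : ∀ t, φ t ∈ autOf mul := fun t u v => by
    apply c.E.injective
    apply Subtype.ext
    rw [hφE, c.hom, c.hom, Subgroup.coe_mul, Subgroup.coe_mul, hφE, hφE]
    group
  set A := autOf mul
  have hPA2 : IsPGroup 2 ↥(P.subgroupOf A) :=
    IsPGroup.of_card (n := n) (by rw [Nat.card_congr (subgroupOfEquivOfLe hPA).toEquiv, hPc, hn])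
  obtain ⟨R, hR⟩ := hPA2.exists_le_sylow
  have hReq : (R : Subgroup ↥A) = P.subgroupOf A := by
    refine (eq_of_le_of_card_ge hR ?_).symm
    rw [Nat.card_congr (subgroupOfEquivOfLe hPA).toEquiv, hPc, hn,
      ← card_map_of_injective A.subtype_injective]
    exact hb _ (Subgroup.map_subtype_le _) (R.2.map A.subtype)
  let ψ : ↥T →* ↥A := φ.codRestrict A hφA
  obtain ⟨R', hR'⟩ := ((hT2.of_equiv Subgroup.topEquiv.symm).map ψ).exists_le_sylow
  obtain ⟨k, hk⟩ := MulAction.exists_smul_eq ↥A R R'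
  refine ⟨⟨(k : Equiv.Perm (Fin 27)).trans c.E, fun u v => ?_⟩, fun t ht => ?_⟩
  · show c.E ((k : Equiv.Perm (Fin 27)) (mF mul u v)) = c.E (k.1 u) * c.E (k.1 v)
    rw [k.2 u v, c.hom]
  · have h1 : ψ ⟨t, ht⟩ ∈ (R' : Subgroup ↥A) := hR' (mem_map_of_mem ψ (mem_top _))
    rw [← hk] at h1
    rw [show ((k • R : Sylow 2 ↥A) : Subgroup ↥A) = MulAut.conj k • (R : Subgroup ↥A) from
      Sylow.coe_subgroup_smul, Subgroup.mem_pointwise_smul_iff_inv_smul_mem, hReq] at h1
    simp only [MulAut.smul_def, MulAut.inv_apply, MulAut.conj_symm_apply, mem_subgroupOf] at h1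
    obtain ⟨m, hm, hme⟩ := hPt _ h1
    refine ⟨m, hm, fun u => ?_⟩
    have h2 : (k : Equiv.Perm (Fin 27)) (tabFun m u) = φ ⟨t, ht⟩ (k.1 u) := by
      rw [← hme]
      simp [ψ]
    show (c.E (k.1 (tabFun m u)) : G) = t * c.E (k.1 u) * t⁻¹
    rw [h2, hφE]

end CfsgLib.Recog.G2TwoSpec
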