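import Cfsg.Agent.Lib.Recog.G2TwoSpec.Abelian

/-!
# Non-abelian Sylow 3-subgroups: planes and fusion of the centre
-/

set_option autoImplicit false
set_option linter.unusedSectionVars false
set_option linter.style.haveILetI false

open Subgroup
open scoped Pointwise

namespace CfsgLib.Recog.G2TwoSpec

variable {G : Type*} [Group G] [Finite G]

/-- The centre of a non-abelian Sylow 3-subgroup is generated by the element. -/
structure Ex (S : Sylow 3 G) (z : G) : Prop where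
  mem : z ∈ (S : Subgroup G)
  ne : z ≠ 1
  central : ∀ s ∈ (S : Subgroup G), Commute z s
  comm : ∀ a ∈ (S : Subgroup G), ∀ b ∈ (S : Subgroup G), a * b * a⁻¹ * b⁻¹ ∈ zpowers z
  cen : ∀ c ∈ (S : Subgroup G), (∀ s ∈ (S : Subgroup G), Commute c s) → c ∈ zpowers z

/-- The centre is weakly closed. -/
def WC (S : Sylow 3 G) (z : G) : Prop :=
  ∀ g : G, g * z * g⁻¹ ∈ (S : Subgroup G) → g * z * g⁻¹ ∈ zpowers z

theorem Ex.smul {S : Sylow 3 G} {z : G} (e : Ex S z) (g : G) : Ex (g • S) (g * z * g⁻¹) := by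
  have hcj : ∀ y, y ∈ zpowers z → g * y * g⁻¹ ∈ zpowers (g * z * g⁻¹) := by
    intro y hy
    obtain ⟨j, rfl⟩ := mem_zpowers_iff.1 hy
    exact mem_zpowers_iff.2 ⟨j, conj_zpow⟩
  refine ⟨?_, ?_, ?_, ?_, ?_⟩
  · rw [mem_smul_iff, show g⁻¹ * (g * z * g⁻¹) * g = z by group]; exact e.mem
  · intro h1
    rw [mul_inv_eq_one, mul_eq_left] at h1
    exact e.ne h1
  · intro s hs
    rw [mem_smul_iff] at hs
    calc g * z * g⁻¹ * s = g * (z * (g⁻¹ * s * g)) * g⁻¹ := by group
      _ = g * ((g⁻¹ * s * g) * z) * g⁻¹ := by rw [(e.central _ hs).eq]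
      _ = s * (g * z * g⁻¹) := by group
  · intro a ha b hb
    rw [mem_smul_iff] at ha hb
    have := hcj _ (e.comm _ ha _ hb)
    rwa [show g * (g⁻¹ * a * g * (g⁻¹ * b * g) * (g⁻¹ * a * g)⁻¹ * (g⁻¹ * b * g)⁻¹) * g⁻¹ =
      a * b * a⁻¹ * b⁻¹ by group] at this
  · intro c hc hall
    rw [mem_smul_iff] at hc
    have := hcj _ (e.cen _ hc fun s hs => by
      have h1 := hall (g * s * g⁻¹) (by rw [mem_smul_iff, show g⁻¹ * (g * s * g⁻¹) * g = s by group]; exact hs)
      calc g⁻¹ * c * g * s = g⁻¹ * (c * (g * s * g⁻¹)) * g := by group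
        _ = g⁻¹ * ((g * s * g⁻¹) * c) * g := by rw [h1.eq]
        _ = s * (g⁻¹ * c * g) := by group)
    rwa [show g * (g⁻¹ * c * g) * g⁻¹ = c by group] at this

variable (h : Hyp G)
include h

theorem exists_ex (hnab : ¬ AbS G) (S : Sylow 3 G) : ∃ z, Ex S z := by
  haveI : Fact (Nat.Prime 3) := ⟨Nat.prime_three⟩
  set R := ↥(S : Subgroup G)
  have hne : ∃ a : R, a ∉ center R := by
    by_contra hc
    push Not at hc
    refine hnab fun T a ha b hb => ?_
    obtain ⟨g, rfl⟩ := MulAction.exists_smul_eq G S T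
    rw [mem_smul_iff] at ha hb
    have h1 : g⁻¹ * a * g * (g⁻¹ * b * g) = g⁻¹ * b * g * (g⁻¹ * a * g) :=
      congrArg Subtype.val (mem_center_iff.1 (hc ⟨_, hb⟩) ⟨_, ha⟩)
    calc a * b = g * (g⁻¹ * a * g * (g⁻¹ * b * g)) * g⁻¹ := by group
      _ = g * (g⁻¹ * b * g * (g⁻¹ * a * g)) * g⁻¹ := by rw [h1]
      _ = b * a := by group
  haveI : Nontrivial R := (Finite.one_lt_card_iff_nontrivial).1 (by rw [card_S h S]; norm_num)
  have h1 : 1 < Nat.card ↥(center R) := (Finite.one_lt_card_iff_nontrivial).2 S.2.center_nontrivial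
  have hZ : Nat.card ↥(center R) = 3 := by
    have hmul := (center R).card_mul_index
    rw [card_S h S] at hmul
    have key : ∀ d ∈ Nat.divisors 27, 1 < d → d = 3 ∨ d = 9 ∨ d = 27 := by decide
    obtain ⟨a, ha⟩ := hne
    rcases key _ (Nat.mem_divisors.2 ⟨⟨_, hmul.symm⟩, by norm_num⟩) h1 with e | e | e
    · exact e
    · exfalso
      rw [e] at hmul
      haveI : IsCyclic (R ⧸ center R) := isCyclic_of_prime_card (p := 3) (by rw [← index_eq_card]; omega)
      exact ha (mem_center_iff.2 fun b => by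
        have := commutative_of_cyclic_center_quotient (QuotientGroup.mk' (center R)) (by rw [QuotientGroup.ker_mk']) b a
        exact this)
    · exact absurd ((eq_top_iff' _).1 (eq_top_of_card_eq _ (by rw [e, card_S h S])) a) ha
  haveI : IsCyclic ↥(center R) := isCyclic_of_prime_card hZ
  obtain ⟨z, hz⟩ := IsCyclic.exists_generator (α := ↥(center R))
  have hgen : ∀ c : R, c ∈ center R → (c : G) ∈ zpowers ((z : R) : G) := by
    intro c hc
    obtain ⟨j, hj⟩ := mem_zpowers_iff.1 (hz ⟨c, hc⟩)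
    exact mem_zpowers_iff.2 ⟨j, by rw [← SubgroupClass.coe_zpow, ← SubgroupClass.coe_zpow, hj]⟩
  refine ⟨((z : R) : G), (z : R).2, fun e => ?_, fun s hs => ?_, fun a ha b hb => ?_, fun c hc hall => ?_⟩
  · have : z = 1 := Subtype.ext (Subtype.ext e)
    have hall1 : ∀ y : ↥(center R), y = 1 := fun y => by
      obtain ⟨j, hj⟩ := mem_zpowers_iff.1 (hz y)
      rw [← hj, this, one_zpow]
    haveI : Subsingleton ↥(center R) := ⟨fun p q => (hall1 p).trans (hall1 q).symm⟩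
    rw [Nat.card_unique] at hZ; norm_num at hZ
  · exact (congrArg Subtype.val (mem_center_iff.1 z.2 ⟨s, hs⟩)).symm
  · refine hgen ⟨_, mul_mem (mul_mem (mul_mem ha hb) (inv_mem ha)) (inv_mem hb)⟩ (mem_center_iff.2 fun c => ?_)
    exact Subtype.ext (comm_central h S ha hb c.2).eq.symm
  · exact hgen ⟨c, hc⟩ (mem_center_iff.2 fun s => Subtype.ext (hall s s.2).eq.symm)

variable {S : Sylow 3 G} {z : G}

theorem Ex.card_zpowers (e : Ex S z) : Nat.card ↥(zpowers z) = 3 := by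
  haveI : Fact (Nat.Prime 3) := ⟨Nat.prime_three⟩
  rw [Nat.card_zpowers]; exact orderOf_eq_prime (cube h S e.mem) e.ne

theorem Ex.mem_zpowers_cases (e : Ex S z) {y : G} (hy : y ∈ zpowers z) :
    y = 1 ∨ y = z ∨ y = z⁻¹ := by
  obtain ⟨j, rfl⟩ := mem_zpowers_iff.1 hy
  have e3 : z ^ j = z ^ (j % 3) := by
    conv_lhs => rw [← Int.emod_add_mul_ediv j 3]
    rw [zpow_add, zpow_mul, show z ^ (3 : ℤ) = 1 by exact_mod_cast cube h S e.mem, one_zpow, mul_one]
  have h0 : j % 3 = 0 ∨ j % 3 = 1 ∨ j % 3 = 2 := by omega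
  rw [e3]
  rcases h0 with h0 | h0 | h0 <;> rw [h0]
  · exact Or.inl (zpow_zero z)
  · exact Or.inr (Or.inl (zpow_one z))
  · refine Or.inr (Or.inr (eq_inv_of_mul_eq_one_left ?_))
    rw [show z ^ (2 : ℤ) * z = z ^ 3 by group]; exact cube h S e.mem

theorem Ex.line (e : Ex S z) {x : G} (hx : x ∈ (S : Subgroup G)) (hxz : x ∉ zpowers z) :
    ∃ s ∈ (S : Subgroup G), s * x * s⁻¹ = x * z := by
  by_contra hc
  push Not at hc
  refine hxz (e.cen x hx fun s hs => ?_)
  rcases e.mem_zpowers_cases h (e.comm s hs x hx) with h1 | h1 | h1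
  · rw [mul_inv_eq_one, mul_inv_eq_iff_eq_mul] at h1; exact h1.symm
  · exfalso
    refine hc s hs ?_
    rw [← (e.central x hx).eq, ← h1]; group
  · exfalso
    refine hc s⁻¹ (inv_mem hs) ?_
    rw [inv_inv]
    have h2 : z = x * s * x⁻¹ * s⁻¹ := by rw [← inv_inv z, ← h1]; group
    have h3 : s * x * s⁻¹ = z⁻¹ * x := by rw [← h1]; group
    calc s⁻¹ * x * s = s⁻¹ * (z * (z⁻¹ * x)) * s := by group
      _ = z * (s⁻¹ * (s * x * s⁻¹) * s) := by
          rw [h3, ← mul_assoc, ← (e.central s⁻¹ (inv_mem hs)).eq]; group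
      _ = z * x := by group
      _ = x * z := (e.central x hx).eq

/-- The plane through an element and the centre. -/
abbrev plane (z x : G) : Subgroup G := zpowers x ⊔ zpowers z

theorem Ex.card_plane (e : Ex S z) {x : G} (hx : x ∈ (S : Subgroup G)) (hxz : x ∉ zpowers z) :
    Nat.card ↥(plane z x) = 9 := by
  haveI : Fact (Nat.Prime 3) := ⟨Nat.prime_three⟩
  have hx1 : x ≠ 1 := fun e' => hxz (e' ▸ one_mem _)
  let f := MonoidHom.noncommCoprod (zpowers x).subtype (zpowers z).subtype fun a b => by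
    obtain ⟨i, hi⟩ := mem_zpowers_iff.1 a.2
    obtain ⟨j, hj⟩ := mem_zpowers_iff.1 b.2
    show Commute a.1 b.1
    rw [← hi, ← hj]; exact ((e.central x hx).symm.zpow_left i).zpow_right j
  have hr : f.range = plane z x := by rw [MonoidHom.noncommCoprod_range, range_subtype, range_subtype]
  have h3 : Nat.card ↥(zpowers x) = 3 := by rw [Nat.card_zpowers]; exact orderOf_eq_prime (cube h S hx) hx1
  have hle := Nat.card_le_card_of_surjective f.rangeRestrict f.rangeRestrict_surjective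
  rw [hr, Nat.card_prod, h3, e.card_zpowers h] at hle
  have h1 : Nat.card ↥(plane z x) ∈ ([1, 3, 9, 27] : List ℕ) :=
    card_three_group h (S.2.to_le (sup_le (zpowers_le.2 hx) (zpowers_le.2 e.mem) : plane z x ≤ _))
  have hlt : 3 < Nat.card ↥(plane z x) := by
    by_contra hle3
    exact hxz ((eq_of_le_of_card_ge (le_sup_right : zpowers z ≤ plane z x)
      (show Nat.card ↥(plane z x) ≤ Nat.card ↥(zpowers z) by rw [e.card_zpowers h]; omega)).symm.le ((le_sup_left : zpowers x ≤ plane z x) (mem_zpowers x)))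
  simp only [List.mem_cons, List.not_mem_nil, or_false] at h1
  omega

theorem Ex.plane_le (e : Ex S z) {x : G} (hx : x ∈ (S : Subgroup G)) : plane z x ≤ (S : Subgroup G) :=
  sup_le (zpowers_le.2 hx) (zpowers_le.2 e.mem)

theorem Ex.mem_nine (e : Ex S z) {A : Subgroup G} (hA : A ≤ (S : Subgroup G)) (hA9 : Nat.card A = 9) :
    z ∈ A := by
  haveI : Fact (Nat.Prime 3) := ⟨Nat.prime_three⟩
  by_contra hz
  have hcA : ∀ a b : ↥A, a * b = b * a := IsPGroup.commutative_of_card_eq_prime_sq (p := 3) (by rw [hA9]; norm_num)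
  let f := MonoidHom.noncommCoprod A.subtype (zpowers z).subtype fun a b => by
    obtain ⟨j, hj⟩ := mem_zpowers_iff.1 b.2
    show Commute a.1 b.1
    rw [← hj]; exact (e.central a.1 (hA a.2)).symm.zpow_right j
  have hr : f.range = A ⊔ zpowers z := by rw [MonoidHom.noncommCoprod_range, range_subtype, range_subtype]
  have hS : A ⊔ zpowers z = (S : Subgroup G) := by
    refine eq_of_le_of_card_ge (sup_le hA (zpowers_le.2 e.mem)) ?_
    have h1 := card_three_group h (S.2.to_le (sup_le hA (zpowers_le.2 e.mem)))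
    have h2 : 9 ≤ Nat.card ↥(A ⊔ zpowers z) := hA9 ▸ Nat.le_of_dvd Nat.card_pos (card_dvd_of_le le_sup_left)
    have h3 : Nat.card ↥(A ⊔ zpowers z) ≠ 9 := fun e' => hz ((eq_of_le_of_card_ge (le_sup_left : A ≤ A ⊔ zpowers z)
      (by rw [e', hA9])).symm.le ((le_sup_right : zpowers z ≤ A ⊔ zpowers z) (mem_zpowers z)))
    rw [card_S h S]
    simp only [List.mem_cons, List.not_mem_nil, or_false] at h1
    omega
  have hab : ∀ a ∈ (S : Subgroup G), ∀ b ∈ (S : Subgroup G), Commute a b := by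
    rw [← hS, ← hr]
    rintro _ ⟨p, rfl⟩ _ ⟨q, rfl⟩
    show f p * f q = f q * f p
    rw [← map_mul, ← map_mul]
    refine congrArg f (Prod.ext (hcA _ _) ?_)
    obtain ⟨i, hi⟩ := mem_zpowers_iff.1 p.2.2
    obtain ⟨j, hj⟩ := mem_zpowers_iff.1 q.2.2
    apply Subtype.ext
    show p.2.1 * q.2.1 = q.2.1 * p.2.1
    rw [← hi, ← hj]; exact (Commute.zpow_zpow_self z i j).eq
  obtain ⟨a, ha, ha'⟩ : ∃ a ∈ A, a ∉ zpowers z := by
    by_contra hc
    push Not at hc
    have := Nat.le_of_dvd Nat.card_pos (card_dvd_of_le (hc : A ≤ zpowers z))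
    rw [hA9, e.card_zpowers h] at this
    omega
  exact ha' (e.cen a (hA ha) fun s hs => hab a (hA ha) s hs)

theorem Ex.nine_normal (e : Ex S z) {A : Subgroup G} (hA : A ≤ (S : Subgroup G)) (hA9 : Nat.card A = 9)
    {s a : G} (hs : s ∈ (S : Subgroup G)) (ha : a ∈ A) : s * a * s⁻¹ ∈ A := by
  rw [show s * a * s⁻¹ = (s * a * s⁻¹ * a⁻¹) * a by group]
  exact mul_mem (zpowers_le.2 (e.mem_nine h hA hA9) (e.comm s hs a (hA ha))) ha

theorem Ex.plane_eq (e : Ex S z) {A : Subgroup G} (hA : A ≤ (S : Subgroup G)) (hA9 : Nat.card A = 9)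
    {x : G} (hx : x ∈ A) (hxz : x ∉ zpowers z) : A = plane z x :=
  (eq_of_le_of_card_ge (sup_le (zpowers_le.2 hx) (zpowers_le.2 (e.mem_nine h hA hA9)) : plane z x ≤ A)
    (by rw [hA9, e.card_plane h (hA hx) hxz])).symm

/-- What the fusion of the centre into the Sylow subgroup gives. -/
theorem Ex.fused (e : Ex S z) {z' : G} (hz' : z' ∈ (S : Subgroup G)) (hz'z : z' ∉ zpowers z)
    (hconj : IsConj z z') :
    ∃ (S'' : Sylow 3 G) (i : G), S'' ≠ S ∧ plane z z' ≤ (S'' : Subgroup G) ∧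
      i ∈ (S : Subgroup G) ⊔ (S'' : Subgroup G) ∧
      (∀ d ∈ plane z z', i * d * i⁻¹ = d⁻¹) ∧
      (∀ d ∈ plane z z', d ≠ 1 → ∃ g ∈ (S : Subgroup G) ⊔ (S'' : Subgroup G), g * z * g⁻¹ = d) := by
  haveI : Fact (Nat.Prime 3) := ⟨Nat.prime_three⟩
  obtain ⟨g, rfl⟩ := isConj_iff.1 hconj
  set w := g * z * g⁻¹ with hw
  have eg := e.smul g
  rw [← hw] at eg
  set C := centralizer ({w} : Set G)
  have hgS : ((g • S : Sylow 3 G) : Subgroup G) ≤ C := fun s hs =>
    mem_centralizer_singleton_iff.2 (eg.central s hs).eq.symm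
  have hPC : plane z w ≤ C := sup_le (zpowers_le.2 (mem_centralizer_singleton_iff.2 rfl))
    (zpowers_le.2 (mem_centralizer_singleton_iff.2 (e.central w hz').eq))
  have hP3 : IsPGroup 3 ↥((plane z w).subgroupOf C) :=
    ((S.2.to_le (e.plane_le h hz')).of_equiv (subgroupOfEquivOfLe hPC).symm)
  obtain ⟨R, hR⟩ := hP3.exists_le_sylow
  obtain ⟨c, hc⟩ := MulAction.exists_smul_eq ↥C ((g • S).subtype hgS) R
  let S'' : Sylow 3 G := (c : G) • (g • S)
  have hP : plane z w ≤ (S'' : Subgroup G) := by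
    intro y hy
    have h1 := hR (show (⟨y, hPC hy⟩ : C) ∈ (plane z w).subgroupOf C from hy)
    rw [← hc] at h1
    rw [conj_mem_sylow] at h1
    rw [mem_smul_iff]
    exact h1
  have eS'' : Ex S'' w := by
    have := eg.smul (c : G)
    rwa [show (c : G) * w * (c : G)⁻¹ = w from
      mul_inv_eq_iff_eq_mul.2 (mem_centralizer_singleton_iff.1 c.2)] at this
  have hne : S'' ≠ S := fun e' => by
    rw [e'] at eS''
    exact hz'z (e.cen w hz' eS''.central)
  have hzw : z ∉ zpowers w := by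
    intro hz
    rcases eg.mem_zpowers_cases h hz with h1 | h1 | h1
    · exact e.ne h1
    · exact hz'z (h1 ▸ mem_zpowers z)
    · exact hz'z (by rw [show w = z⁻¹ by rw [h1, inv_inv]]; exact inv_mem (mem_zpowers z))
  obtain ⟨u, hu, huw⟩ := e.line h hz' hz'z
  have hzS'' : z ∈ (S'' : Subgroup G) := hP ((le_sup_right : zpowers z ≤ plane z w) (mem_zpowers z))
  obtain ⟨v', hv', hvz'⟩ := eS''.line h hzS'' hzw
  set v := v'⁻¹
  have hv : v ∈ (S'' : Subgroup G) := inv_mem hv'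
  have hvz : v * z * v⁻¹ = z * w⁻¹ := by
    have h2 : z = v' * (z * w⁻¹) * v'⁻¹ := by
      calc z = z * w * w⁻¹ := by group
        _ = v' * z * v'⁻¹ * w⁻¹ := by rw [hvz']
        _ = v' * z * (v'⁻¹ * w⁻¹) := by group
        _ = v' * z * (w⁻¹ * v'⁻¹) := by rw [((eS''.central v' hv').symm.inv_inv).eq]
        _ = v' * (z * w⁻¹) * v'⁻¹ := by group
    conv_lhs => rw [h2]
    simp only [v]; group
  have huz : u * z * u⁻¹ = z := mul_inv_eq_iff_eq_mul.2 (e.central u hu).eq.symm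
  have hvw : v * w * v⁻¹ = w := mul_inv_eq_iff_eq_mul.2 (eS''.central v hv).eq.symm
  have hzw' : Commute z w := e.central w hz'
  set r := u * v * u with hr
  have hrz : r * z * r⁻¹ = w⁻¹ := by
    calc r * z * r⁻¹ = u * (v * (u * z * u⁻¹) * v⁻¹) * u⁻¹ := by simp only [hr]; group
      _ = u * (z * w⁻¹) * u⁻¹ := by rw [huz, hvz]
      _ = (u * z * u⁻¹) * (u * w * u⁻¹)⁻¹ := by group
      _ = z * (w * z)⁻¹ := by rw [huz, huw]
      _ = w⁻¹ := by rw [mul_inv_rev, ← mul_assoc, mul_inv_cancel, one_mul]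
  have hrw : r * w * r⁻¹ = z := by
    calc r * w * r⁻¹ = u * (v * (u * w * u⁻¹) * v⁻¹) * u⁻¹ := by simp only [hr]; group
      _ = u * ((v * w * v⁻¹) * (v * z * v⁻¹)) * u⁻¹ := by rw [huw]; group
      _ = u * (w * (z * w⁻¹)) * u⁻¹ := by rw [hvw, hvz]
      _ = z := by rw [← mul_assoc w, ← hzw'.eq, mul_inv_cancel_right, huz]
  have hiz : r * r * z * (r * r)⁻¹ = z⁻¹ := by
    calc r * r * z * (r * r)⁻¹ = r * (r * z * r⁻¹) * r⁻¹ := by group
      _ = (r * w * r⁻¹)⁻¹ := by rw [hrz]; group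
      _ = z⁻¹ := by rw [hrw]
  have hiw : r * r * w * (r * r)⁻¹ = w⁻¹ := by
    calc r * r * w * (r * r)⁻¹ = r * (r * w * r⁻¹) * r⁻¹ := by group
      _ = w⁻¹ := by rw [hrw, hrz]
  have helts : ∀ d ∈ plane z w, ∃ a b : ℤ, d = w ^ a * z ^ b := by
    intro d hd
    let f := MonoidHom.noncommCoprod (zpowers w).subtype (zpowers z).subtype fun a b => by
      obtain ⟨i, hi⟩ := mem_zpowers_iff.1 a.2
      obtain ⟨j, hj⟩ := mem_zpowers_iff.1 b.2
      show Commute a.1 b.1
      rw [← hi, ← hj]; exact (hzw'.symm.zpow_left i).zpow_right j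
    have hfr : f.range = plane z w := by rw [MonoidHom.noncommCoprod_range, range_subtype, range_subtype]
    rw [← hfr] at hd
    obtain ⟨p, rfl⟩ := hd
    obtain ⟨a, ha⟩ := mem_zpowers_iff.1 p.1.2
    obtain ⟨b, hb⟩ := mem_zpowers_iff.1 p.2.2
    exact ⟨a, b, by rw [ha, hb]; rfl⟩
  have hL : ∀ y, y ∈ (S : Subgroup G) → y ∈ (S : Subgroup G) ⊔ (S'' : Subgroup G) := fun y hy => mem_sup_left hy
  have hrL : r ∈ (S : Subgroup G) ⊔ (S'' : Subgroup G) := mul_mem (mul_mem (hL u hu) (mem_sup_right hv)) (hL u hu)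
  refine ⟨S'', r * r, hne, hP, mul_mem hrL hrL, fun d hd => ?_, fun d hd hd1 => ?_⟩
  · obtain ⟨a, b, rfl⟩ := helts d hd
    calc r * r * (w ^ a * z ^ b) * (r * r)⁻¹
        = (r * r * w * (r * r)⁻¹) ^ a * (r * r * z * (r * r)⁻¹) ^ b := by
          show MulAut.conj (r * r) (w ^ a * z ^ b) = MulAut.conj (r * r) w ^ a * MulAut.conj (r * r) z ^ b
          rw [map_mul, map_zpow, map_zpow]
      _ = (w ^ a * z ^ b)⁻¹ := by
          rw [hiw, hiz, inv_zpow, inv_zpow, ← mul_inv_rev, ((hzw'.zpow_zpow b a)).eq]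
  · by_cases hdz : d ∈ zpowers z
    · rcases e.mem_zpowers_cases h hdz with e' | e' | e'
      · exact absurd e' hd1
      · exact ⟨1, one_mem _, by rw [e']; group⟩
      · exact ⟨r * r, mul_mem hrL hrL, by rw [hiz, e']⟩
    · -- conjugate to w or its inverse inside S
      obtain ⟨a, b, rfl⟩ := helts d hd
      have hz3 : z ^ (3 : ℤ) = 1 := by exact_mod_cast cube h S e.mem
      have hw3 : w ^ (3 : ℤ) = 1 := by exact_mod_cast cube h S hz'
      have hmod : ∀ (y : G) (k : ℤ), y ^ (3 : ℤ) = 1 → y ^ k = y ^ (k % 3) := by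
        intro y k hy
        conv_lhs => rw [← Int.emod_add_mul_ediv k 3]
        rw [zpow_add, zpow_mul, hy, one_zpow, mul_one]
      have hupow : ∀ k : ℕ, u ^ k * w * (u ^ k)⁻¹ = w * z ^ k := by
        intro k
        induction k with
        | zero => simp
        | succ k ih =>
          calc u ^ (k + 1) * w * (u ^ (k + 1))⁻¹ = u * (u ^ k * w * (u ^ k)⁻¹) * u⁻¹ := by rw [pow_succ']; group
            _ = (u * w * u⁻¹) * (u * z * u⁻¹) ^ k := by rw [ih, conj_pow]; group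
            _ = w * z ^ (k + 1) := by rw [huw, huz, pow_succ', mul_assoc]
      have h0 : a % 3 = 0 ∨ a % 3 = 1 ∨ a % 3 = 2 := by omega
      have hb0 : 0 ≤ b % 3 := Int.emod_nonneg b (by norm_num)
      rw [hmod w a hw3, hmod z b hz3] at hdz ⊢
      rcases h0 with h0 | h0 | h0 <;> rw [h0] at hdz ⊢
      · exact absurd (by rw [zpow_zero, one_mul]; exact zpow_mem (mem_zpowers z) _) hdz
      · obtain ⟨k, hk⟩ := Int.eq_ofNat_of_zero_le hb0
        refine ⟨u ^ k * (r⁻¹), mul_mem (pow_mem (hL u hu) k) (inv_mem hrL), ?_⟩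
        have hrinv : r⁻¹ * z * r = w := by rw [← hrw]; group
        calc u ^ k * r⁻¹ * z * (u ^ k * r⁻¹)⁻¹ = u ^ k * (r⁻¹ * z * r) * (u ^ k)⁻¹ := by group
          _ = w ^ (1 : ℤ) * z ^ (b % 3) := by rw [hrinv, hupow, zpow_one, hk, zpow_natCast]
      · obtain ⟨k, hk⟩ := Int.eq_ofNat_of_zero_le hb0
        refine ⟨u ^ (2 * k) * r, mul_mem (pow_mem (hL u hu) _) hrL, ?_⟩
        calc u ^ (2 * k) * r * z * (u ^ (2 * k) * r)⁻¹ = u ^ (2 * k) * (r * z * r⁻¹) * (u ^ (2 * k))⁻¹ := by group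
          _ = (u ^ (2 * k) * w * (u ^ (2 * k))⁻¹)⁻¹ := by rw [hrz]; group
          _ = w ^ (2 : ℤ) * z ^ (b % 3) := by
            rw [hupow, hk, zpow_natCast, show z ^ (2 * k) = (z ^ k) * (z ^ k) by rw [two_mul, pow_add]]
            have hz1 : z ^ k * z ^ k * z ^ k = 1 := by
              rw [← pow_add, ← pow_add, show k + k + k = 3 * k by ring, pow_mul, cube h S e.mem, one_pow]
            have hw1 : w⁻¹ = w ^ (2 : ℤ) := by
              rw [inv_eq_iff_mul_eq_one, show w * w ^ (2 : ℤ) = w ^ (3 : ℤ) by group, hw3]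
            rw [mul_inv_rev, hw1, ((hzw'.pow_left k).mul_left (hzw'.pow_left k)).symm.zpow_left 2 |>.inv_right.eq.symm,
              inv_eq_of_mul_eq_one_right hz1]

end CfsgLib.Recog.G2TwoSpec
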