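import Cfsg.Agent.Lib.Recog.G2TwoSpec.Tools

/-!
# A semiregular normal subgroup of order 9 in a point stabiliser on 28 points
-/

set_option autoImplicit false
set_option linter.unusedSectionVars false
set_option linter.style.haveILetI false

open Subgroup
open scoped Pointwise

namespace CfsgLib.Recog.G2TwoSpec

variable {G : Type*} [Group G] [Finite G]

theorem faithful_cosets (h : Hyp G) (H : Subgroup G) (hi : 3 ≤ H.index) {g : G}
    (hg : ∀ p : G ⧸ H, g • p = p) : g = 1 := by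
  have hc : H.normalCore = ⊥ := by
    by_contra hb
    have h1 := Nat.le_of_dvd Nat.card_pos (card_dvd_of_le H.normalCore_le)
    have h2 := H.card_mul_index
    rw [h.card] at h2
    rcases normal_card_cases h H.normalCore hb with e | e <;> rw [e] at h1 <;> nlinarith
  have hm : g ∈ (MulAction.toPermHom G (G ⧸ H)).ker := by
    rw [MonoidHom.mem_ker]; exact Equiv.ext hg
  rw [← Subgroup.normalCore_eq_ker, hc] at hm
  exact mem_bot.1 hm

theorem burnside_dvd (D : Subgroup G) (Ω : Type*) [MulAction G Ω] [Finite Ω] :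
    ∃ s : Finset ↥D, (∀ d, d ∈ s) ∧
      Nat.card ↥D ∣ ∑ d ∈ s, Nat.card ↥(MulAction.fixedBy Ω (d : G)) := by
  classical
  haveI := Fintype.ofFinite ↥D
  haveI := Fintype.ofFinite Ω
  haveI : Fintype (MulAction.orbitRel.Quotient ↥D Ω) := Fintype.ofFinite _
  haveI : ∀ d : ↥D, Fintype ↥(MulAction.fixedBy Ω d) := fun d => Fintype.ofFinite _
  refine ⟨Finset.univ, fun d => Finset.mem_univ d, ?_⟩
  have := MulAction.sum_card_fixedBy_eq_card_orbits_mul_card_group ↥D Ω
  refine Dvd.intro_left (Fintype.card (MulAction.orbitRel.Quotient ↥D Ω)) ?_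
  rw [Nat.card_eq_fintype_card, ← this]
  exact Finset.sum_congr rfl fun d _ => (Nat.card_eq_fintype_card.symm.trans (Nat.card_congr
    (Equiv.subtypeEquivRight fun p => Iff.rfl)))

/-- The three orbits of a semiregular group of order 9 on the 27 points, as a homomorphism. -/
theorem orbit_hom (h : Hyp G) (H D : Subgroup G) (hH : H.index = 28) (hD : Nat.card D = 9)
    (hle : D ≤ H) (hn : H ≤ normalizer (D : Set G))
    (hfree : ∀ d ∈ D, d ≠ 1 → ∀ p : G ⧸ H, d • p = p → p = ((1 : G) : G ⧸ H)) :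
    ∃ (π : ↥H →* Equiv.Perm (Fin 3)) (o : G ⧸ H → Fin 3),
      (∀ k : ↥H, (k : G) ∈ D → π k = 1) ∧
      (∀ k : ↥H, π k = 1 → ∀ p : G ⧸ H, ∃ d ∈ D, (k : G) • p = d • p) ∧
      (∀ (k : ↥H) (p : G ⧸ H), p ≠ ((1 : G) : G ⧸ H) → o ((k : G) • p) = π k (o p)) ∧
      (∀ i, ∃ p : G ⧸ H, p ≠ ((1 : G) : G ⧸ H) ∧ o p = i) ∧
      (∀ p q : G ⧸ H, p ≠ ((1 : G) : G ⧸ H) → q ≠ ((1 : G) : G ⧸ H) → o p = o q → ∃ d ∈ D, d • p = q) := by
  classical
  set a : G ⧸ H := ((1 : G) : G ⧸ H)
  have hfix : ∀ k : G, k ∈ H → k • a = a := by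
    intro k hk
    show ((k * 1 : G) : G ⧸ H) = ((1 : G) : G ⧸ H)
    rw [QuotientGroup.eq, mul_one, mul_one]; exact inv_mem hk
  let Ω := {p : G ⧸ H // p ≠ a}
  letI : MulAction ↥H Ω :=
    { smul := fun k p => ⟨(k : G) • p.1, fun e => p.2 (by
        have e' := congrArg ((k : G)⁻¹ • ·) e
        simp only [inv_smul_smul] at e'
        rw [e', hfix _ (inv_mem k.2)])⟩
      one_smul := fun p => Subtype.ext (one_smul G p.1)
      mul_smul := fun x y p => Subtype.ext (mul_smul (x : G) y p.1) }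
  let r : Setoid Ω :=
    { r := fun p q => ∃ d ∈ D, d • p.1 = q.1
      iseqv := ⟨fun p => ⟨1, one_mem _, one_smul _ _⟩,
        fun ⟨d, hd, e⟩ => ⟨d⁻¹, inv_mem hd, by rw [← e, inv_smul_smul]⟩,
        fun ⟨d, hd, e⟩ ⟨d', hd', e'⟩ => ⟨d' * d, mul_mem hd' hd, by rw [mul_smul, e, e']⟩⟩ }
  let O := Quotient r
  letI : MulAction ↥H O :=
    { smul := fun k => Quotient.map (fun p => k • p) (fun p q ⟨d, hd, e⟩ =>
        ⟨(k : G) * d * (k : G)⁻¹, (mem_normalizer_iff.1 (hn k.2) d).1 hd, by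
          show ((k : G) * d * (k : G)⁻¹) • ((k : G) • p.1) = (k : G) • q.1
          rw [← e, ← mul_smul, ← mul_smul]; group⟩)
      one_smul := fun o => Quotient.inductionOn o fun p => congrArg (Quotient.mk r) (one_smul ↥H p)
      mul_smul := fun x y o => Quotient.inductionOn o fun p => congrArg (Quotient.mk r) (mul_smul x y p) }
  have hO : Nat.card O = 3 := by
    let σ : O → Ω := Quotient.out
    have e : O × ↥D ≃ Ω := Equiv.ofBijective
      (fun od => ((⟨od.2.1, hle od.2.2⟩ : ↥H) • σ od.1)) (by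
      constructor
      · rintro ⟨o, d⟩ ⟨o', d'⟩ e
        have e1 : (d : G) • (σ o).1 = (d' : G) • (σ o').1 := congrArg Subtype.val e
        have ho : o = o' := by
          rw [← Quotient.out_eq o, ← Quotient.out_eq o']
          exact Quotient.sound ⟨(d' : G)⁻¹ * d, mul_mem (inv_mem d'.2) d.2, by
            rw [mul_smul, e1, inv_smul_smul]⟩
        subst ho
        refine Prod.ext rfl (Subtype.ext ?_)
        by_contra hne
        refine (σ o).2 (hfree ((d' : G)⁻¹ * d) (mul_mem (inv_mem d'.2) d.2) (fun e' => hne ?_) _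
          (by rw [mul_smul, e1, inv_smul_smul]))
        exact (inv_mul_eq_one.1 e').symm
      · intro p
        obtain ⟨d, hd, e⟩ := (Quotient.exact (Quotient.out_eq (Quotient.mk r p)) :
          ∃ d ∈ D, d • (σ (Quotient.mk r p)).1 = p.1)
        exact ⟨(Quotient.mk r p, ⟨d, hd⟩), Subtype.ext e⟩)
    have hΩ : Nat.card Ω = 27 := by
      have : Nat.card Ω = (({a} : Set (G ⧸ H))ᶜ).ncard := rfl
      rw [this, Set.ncard_compl, Set.ncard_singleton, ← index_eq_card, hH]
    have := Nat.card_congr e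
    rw [Nat.card_prod, hD, hΩ] at this
    omega
  obtain ⟨ι⟩ : Nonempty (O ≃ Fin 3) := by
    haveI : Finite O := Nat.finite_of_card_ne_zero (by rw [hO]; norm_num)
    exact ⟨(Finite.equivFin O).trans (finCongr hO)⟩
  refine ⟨(ι.permCongrHom.toMonoidHom).comp (MulAction.toPermHom ↥H O),
    fun p => if hp : p ≠ a then ι (Quotient.mk r ⟨p, hp⟩) else 0, fun k hk => ?_, fun k hk p => ?_,
    fun k p hp => ?_, fun i => ?_, fun p q hp hq hpq => ?_⟩
  rotate_left 2
  · have hkp : (k : G) • p ≠ a := fun e => hp (by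
      have e' := congrArg ((k : G)⁻¹ • ·) e
      simp only [inv_smul_smul] at e'
      rw [e', hfix _ (inv_mem k.2)])
    simp only [dif_pos hp, dif_pos hkp]
    show ι (Quotient.mk r ⟨(k : G) • p, hkp⟩) = ι ((k • · : O → O) (ι.symm (ι (Quotient.mk r ⟨p, hp⟩))))
    rw [Equiv.symm_apply_apply]
    rfl
  · refine ⟨(Quotient.out (ι.symm i)).1, (Quotient.out (ι.symm i)).2, ?_⟩
    simp only [dif_pos (Quotient.out (ι.symm i)).2]
    show ι (Quotient.mk r (Quotient.out (ι.symm i))) = i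
    rw [Quotient.out_eq, Equiv.apply_symm_apply]
  · simp only [dif_pos hp, dif_pos hq] at hpq
    exact Quotient.exact (ι.injective hpq)
  · have : MulAction.toPermHom ↥H O k = 1 := Equiv.ext fun o => Quotient.inductionOn o fun q =>
      Quotient.sound ⟨(k : G)⁻¹, inv_mem hk, inv_smul_smul (k : G) q.1⟩
    rw [MonoidHom.comp_apply, this, map_one]
  · by_cases hp : p = a
    · exact ⟨1, one_mem _, by rw [one_smul, hp, hfix _ k.2]⟩
    have h1 : MulAction.toPermHom ↥H O k = 1 :=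
      ι.permCongrHom.injective (by rw [map_one]; exact hk)
    obtain ⟨d, hd, e⟩ := Quotient.exact (DFunLike.congr_fun h1 (Quotient.mk r ⟨p, hp⟩) :
      Quotient.mk r (k • (⟨p, hp⟩ : Ω)) = Quotient.mk r ⟨p, hp⟩)
    exact ⟨d⁻¹, inv_mem hd, by
      show (k : G) • p = d⁻¹ • p
      rw [eq_inv_smul_iff]; exact e⟩

/-- An element of the kernel commuting with the group of order 9 has order dividing 3. -/
theorem kernel_cube (h : Hyp G) (H D : Subgroup G) (hH : H.index = 28) (hD : IsPGroup 3 D)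
    {k : G} (hk : ∀ d ∈ D, Commute k d) (hp : ∀ p : G ⧸ H, ∃ d ∈ D, k • p = d • p) : k ^ 3 = 1 := by
  refine faithful_cosets h H (by omega) fun p => ?_
  obtain ⟨d, hd, e⟩ := hp p
  have h3 : d ^ 3 = 1 := three_elem h hD hd
  have hsw : ∀ q : G ⧸ H, k • d • q = d • k • q := fun q => by
    rw [← mul_smul, (hk d hd).eq, mul_smul]
  calc k ^ 3 • p = k • k • k • p := by rw [pow_three, mul_smul, mul_smul]
    _ = d • d • d • p := by rw [e, hsw, e, hsw, hsw, e]
    _ = p := by rw [← mul_smul, ← mul_smul, mul_assoc, ← pow_three, h3, one_smul]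

end CfsgLib.Recog.G2TwoSpec
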