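import Cfsg.Agent.Lib.Recog.G2TwoSpec.ExtraWeak
import Cfsg.Agent.Lib.Recog.G2TwoSpec.Semiregular

/-!
# Tools for the case of 112 non-abelian Sylow 3-subgroups
-/

set_option autoImplicit false
set_option linter.unusedSectionVars false
set_option linter.style.haveILetI false

open Subgroup
open scoped Pointwise

namespace CfsgLib.Recog.G2TwoSpec

variable {G : Type*} [Group G] [Finite G] (h : Hyp G)
include h

/-- A plane of a non-abelian Sylow subgroup is its own centraliser there. -/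
theorem Ex.cent_nine {S : Sylow 3 G} {z : G} (e : Ex S z) {D : Subgroup G} (hD : D ≤ (S : Subgroup G))
    (hD9 : Nat.card D = 9) {s : G} (hs : s ∈ (S : Subgroup G)) (hc : ∀ d ∈ D, Commute s d) : s ∈ D := by
  by_contra hsD
  have hgen : D ⊔ zpowers s = (S : Subgroup G) := by
    refine eq_of_le_of_card_ge (sup_le hD (zpowers_le.2 hs)) ?_
    have h1 := card_three_group h (S.2.to_le (sup_le hD (zpowers_le.2 hs)))
    have h2 : 9 ≤ Nat.card ↥(D ⊔ zpowers s) := hD9 ▸ Nat.le_of_dvd Nat.card_pos (card_dvd_of_le le_sup_left)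
    have h3 : Nat.card ↥(D ⊔ zpowers s) ≠ 9 := fun e9 => hsD
      ((eq_of_le_of_card_ge (le_sup_left : D ≤ D ⊔ zpowers s) (by rw [e9, hD9])).symm.le
        ((le_sup_right : zpowers s ≤ D ⊔ zpowers s) (mem_zpowers s)))
    rw [card_S h S]
    simp only [List.mem_cons, List.not_mem_nil, or_false] at h1
    omega
  refine hsD (zpowers_le.2 (e.mem_nine h hD hD9) (e.cen s hs fun t ht => ?_))
  have hle : (S : Subgroup G) ≤ centralizer ({s} : Set G) := by
    rw [← hgen]
    exact sup_le (fun d hd => mem_centralizer_singleton_iff.2 (hc d hd).eq.symm)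
      (zpowers_le.2 (mem_centralizer_singleton_iff.2 rfl))
  exact (mem_centralizer_singleton_iff.1 (hle ht)).symm

theorem Ex.comm_plane {S : Sylow 3 G} {z : G} (e : Ex S z) {y u : G} (hy : y ∈ (S : Subgroup G))
    (hyz : y ∉ zpowers z) (hu : u ∈ (S : Subgroup G)) (hc : Commute u y) : u ∈ plane z y := by
  refine e.cent_nine h (e.plane_le h hy) (e.card_plane h hy hyz) hu fun d hd => ?_
  have hle : plane z y ≤ centralizer ({u} : Set G) := sup_le
    (zpowers_le.2 (mem_centralizer_singleton_iff.2 hc.eq.symm))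
    (zpowers_le.2 (mem_centralizer_singleton_iff.2 (e.central u hu).eq))
  exact (mem_centralizer_singleton_iff.1 (hle hd)).symm

/-- An element of a Sylow subgroup fixes at most three points of an orbit where the centre acts freely. -/
theorem Ex.fixed_orbit {S : Sylow 3 G} {z : G} (e : Ex S z) {Ω : Type*} [MulAction G Ω] {p : Ω}
    (hfree : ∀ w ∈ zpowers z, w • p = p → w = 1) {y u : G} (hy : y ∈ (S : Subgroup G))
    (hyz : y ∉ zpowers z) (hu : u ∈ (S : Subgroup G)) (hp : y • p = p) (hq : y • u • p = u • p) :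
    ∃ b < 3, u • p = z ^ b • p := by
  have hwp : (u⁻¹ * y * u) • p = p := by rw [mul_smul, mul_smul, hq, inv_smul_smul]
  have hmem : y⁻¹ * (u⁻¹ * y * u) ∈ zpowers z := by
    have := e.comm y⁻¹ (inv_mem hy) u⁻¹ (inv_mem hu)
    rwa [inv_inv, inv_inv, show y⁻¹ * u⁻¹ * y * u = y⁻¹ * (u⁻¹ * y * u) by group] at this
  have h1 := hfree _ hmem (by rw [mul_smul, hwp, inv_smul_eq_iff, hp])
  have hc : Commute u y := by
    show u * y = y * u
    have h2 : u⁻¹ * y * u = y := (inv_mul_eq_one.1 h1).symm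
    calc u * y = u * (u⁻¹ * y * u) := by rw [h2]
      _ = y * u := by group
  obtain ⟨a, b, -, hb, rfl⟩ := plane_elts h e hy (e.comm_plane h hy hyz hu hc)
  refine ⟨b, hb, ?_⟩
  have hcz : Commute (y ^ a) (z ^ b) := (((e.central y hy).pow_left b).pow_right a).symm
  have hpa : ∀ k : ℕ, y ^ k • p = p := fun k => by
    induction k with
    | zero => rw [pow_zero, one_smul]
    | succ k ih => rw [pow_succ, mul_smul, hp, ih]
  rw [hcz.eq, mul_smul, hpa]

omit h in
theorem sylow_conj_in (S Q : Sylow 3 G) {K : Subgroup G} (hS : (S : Subgroup G) ≤ K)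
    (hQ : (Q : Subgroup G) ≤ K) : ∃ k ∈ K, k • S = Q := by
  haveI : Fact (Nat.Prime 3) := ⟨Nat.prime_three⟩
  obtain ⟨⟨k, hk⟩, e⟩ := MulAction.exists_smul_eq ↥K (S.subtype hS) (Q.subtype hQ)
  refine ⟨k, hk, Sylow.ext (SetLike.ext fun y => ?_)⟩
  rw [conj_mem_sylow]
  constructor
  · intro hy
    have hyK : y ∈ K := by
      have := mul_mem (mul_mem hk (hS hy)) (inv_mem hk)
      rwa [show k * (k⁻¹ * y * k) * k⁻¹ = y by group] at this
    have h1 : (⟨y, hyK⟩ : ↥K) ∈ ((⟨k, hk⟩ : ↥K) • S.subtype hS : Sylow 3 ↥K) :=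
      (conj_mem_sylow _ _ _).2 hy
    rw [e] at h1
    exact h1
  · intro hy
    have h1 : (⟨y, hQ hy⟩ : ↥K) ∈ ((⟨k, hk⟩ : ↥K) • S.subtype hS : Sylow 3 ↥K) := by rw [e]; exact hy
    exact (conj_mem_sylow (⟨k, hk⟩ : ↥K) (S.subtype hS) ⟨y, hQ hy⟩).1 h1

theorem conj_into (S : Sylow 3 G) {K : Subgroup G} (hS : (S : Subgroup G) ≤ K) {y : G} (hy : y ∈ K)
    (h3 : y ^ 3 = 1) : ∃ k ∈ K, k⁻¹ * y * k ∈ (S : Subgroup G) := by
  haveI : Fact (Nat.Prime 3) := ⟨Nat.prime_three⟩
  have hP : IsPGroup 3 ↥(zpowers (⟨y, hy⟩ : ↥K)) := by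
    refine IsPGroup.iff_orderOf.2 fun ⟨w, hw⟩ => ?_
    obtain ⟨j, rfl⟩ := mem_zpowers_iff.1 hw
    have hd : orderOf ((⟨y, hy⟩ : ↥K) ^ j) ∣ 3 := by
      refine orderOf_dvd_of_pow_eq_one ?_
      rw [← zpow_natCast, ← zpow_mul, mul_comm, zpow_mul, zpow_natCast,
        show (⟨y, hy⟩ : ↥K) ^ 3 = 1 from Subtype.ext h3, one_zpow]
    rw [Subgroup.orderOf_mk]
    obtain ⟨i, -, hi⟩ := (Nat.dvd_prime_pow Nat.prime_three).1 (show orderOf _ ∣ 3 ^ 1 by rw [pow_one]; exact hd)
    exact ⟨i, hi⟩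
  obtain ⟨R, hR⟩ := hP.exists_le_sylow
  obtain ⟨k, hk⟩ := MulAction.exists_smul_eq ↥K (S.subtype hS) R
  have hmem := hR (mem_zpowers (⟨y, hy⟩ : ↥K))
  rw [← hk, conj_mem_sylow] at hmem
  exact ⟨k.1, k.2, hmem⟩

/-- A set of non-central elements of a Sylow subgroup closed under its conjugation. -/
theorem Ex.three_dvd_class {S : Sylow 3 G} {z : G} (e : Ex S z) (X : Set G)
    (hsub : X ⊆ ((S : Subgroup G) : Set G) \ (zpowers z : Set G))
    (hinv : ∀ s ∈ (S : Subgroup G), ∀ y ∈ X, s * y * s⁻¹ ∈ X) : 3 ∣ Nat.card ↥X := by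
  haveI : Fact (Nat.Prime 3) := ⟨Nat.prime_three⟩
  letI : MulAction ↥(S : Subgroup G) ↥X :=
    { smul := fun s y => ⟨(s : G) * y.1 * (s : G)⁻¹, hinv s s.2 _ y.2⟩
      one_smul := fun y => Subtype.ext (show (1 : G) * y.1 * (1 : G)⁻¹ = y.1 by group)
      mul_smul := fun a b y => Subtype.ext (show (a : G) * b * y.1 * ((a : G) * b)⁻¹ =
        a * ((b : G) * y.1 * (b : G)⁻¹) * (a : G)⁻¹ by group) }
  have hmod := S.2.card_modEq_card_fixedPoints ↥X
  haveI : IsEmpty ↥(MulAction.fixedPoints ↥(S : Subgroup G) ↥X) := ⟨fun y => (hsub y.1.2).2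
    (e.cen _ (hsub y.1.2).1 fun s hs =>
      (show Commute s (y.1 : G) from mul_inv_eq_iff_eq_mul.1 (congrArg Subtype.val (y.2 ⟨s, hs⟩))).symm)⟩
  rw [Nat.card_of_isEmpty (α := ↥(MulAction.fixedPoints ↥(S : Subgroup G) ↥X))] at hmod
  exact Nat.modEq_zero_iff_dvd.1 hmod

/-- With 112 Sylow subgroups some two meet in a plane. -/
theorem exists_nine (h112 : Nat.card (Sylow 3 G) = 112) (S : Sylow 3 G) :
    ∃ Q : Sylow 3 G, Q ≠ S ∧ Nat.card ↥((S : Subgroup G) ⊓ Q : Subgroup G) = 9 := by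
  by_contra hc
  push Not at hc
  have hdvd := nine_dvd h S (fun Q => Q ≠ S) (fun s hs Q hQ e => hQ (by
    calc Q = s⁻¹ • (s • Q) := (inv_smul_smul s Q).symm
      _ = S := by rw [e]; exact Sylow.smul_eq_iff_mem_normalizer.2 (inv_mem (le_normalizer hs))))
    fun Q hQ => by
      have h1 := inter_card h hQ
      have h2 := hc Q hQ
      simp only [List.mem_cons, List.not_mem_nil, or_false] at h1
      omega
  have hΩ : Nat.card {Q : Sylow 3 G // Q ≠ S} = 111 := by
    have : Nat.card {Q : Sylow 3 G // Q ≠ S} = (({S} : Set (Sylow 3 G))ᶜ).ncard := rfl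
    rw [this, Set.ncard_compl, Set.ncard_singleton, h112]
  rw [hΩ] at hdvd; norm_num at hdvd

/-- A normaliser over that of a Sylow subgroup holding a second one. -/
theorem over_432 (h4 : compOrder G = 4) (S : Sylow 3 G) (D : Subgroup G) (hD : D ≤ (S : Subgroup G))
    (hD1 : Nat.card D ≠ 1) (hN : normalizer ((S : Subgroup G) : Set G) ≤ normalizer (D : Set G))
    (Q : Sylow 3 G) (hQ : Q ≠ S) (hQN : (Q : Subgroup G) ≤ normalizer (D : Set G)) :
    Nat.card ↥(normalizer (D : Set G)) = 432 := by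
  obtain ⟨c, hc3, hc, hc1⟩ := card_over h S (le_normalizer.trans hN)
  rw [inf_eq_left.2 hN, card_normalizer h S, h4] at hc
  have hd : c ∣ 112 := by
    have := h.card ▸ card_subgroup_dvd_card (normalizer (D : Set G))
    rw [hc] at this
    exact Nat.dvd_of_mul_dvd_mul_right (by norm_num) (show c * (27 * 4) ∣ 112 * (27 * 4) by norm_num at this ⊢; exact this)
  have h7 : ¬ 7 ∣ c := fun h7 => not_seven_normalizer h D (S.2.to_le hD) hD1 (hc ▸ dvd_mul_of_dvd_left h7 _)
  have key : ∀ d ∈ Nat.divisors 112, ¬ 7 ∣ d → d % 3 = 1 → d = 1 ∨ d = 4 ∨ d = 16 := by decide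
  rcases key c (Nat.mem_divisors.2 ⟨hd, by norm_num⟩) h7 hc3 with e1 | e1 | e1
  · exact absurd (hc1 e1 Q hQN) hQ
  · rw [hc, e1]
  · exfalso
    have htop := no_two_adic h (dvd_of_eq (show 1728 = Nat.card ↥(normalizer (D : Set G)) by rw [hc, e1]))
    haveI : D.Normal := normalizer_eq_top_iff.1 htop
    have h27 : Nat.card D ≤ 27 := card_S h S ▸ Nat.le_of_dvd Nat.card_pos (card_dvd_of_le hD)
    rcases normal_card_cases h D (fun e' => hD1 (by rw [e', card_bot])) with e' | e' <;> omega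

/-- The kernel on the four Sylow subgroups of a subgroup of order 432. -/
theorem core_nine (h4 : compOrder G = 4) (S : Sylow 3 G) (H : Subgroup G)
    (hN : normalizer ((S : Subgroup G) : Set G) ≤ H) (hH : Nat.card H = 432) :
    ∃ D : Subgroup G, Nat.card D = 9 ∧ D ≤ (S : Subgroup G) ∧ H ≤ normalizer (D : Set G) ∧
      ∀ R : Sylow 3 G, (R : Subgroup G) ≤ H → D ≤ (R : Subgroup G) := by
  haveI : Fact (Nat.Prime 3) := ⟨Nat.prime_three⟩
  have hSH : (S : Subgroup G) ≤ H := le_normalizer.trans hN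
  obtain ⟨c, -, hc, hc1⟩ := card_over h S hSH
  rw [inf_eq_left.2 hN, card_normalizer h S, h4, hH] at hc
  have hn4 : Nat.card (Sylow 3 ↥H) = 4 := by
    have hi := (normalizer (((S.subtype hSH : Sylow 3 ↥H) : Subgroup ↥H) : Set ↥H)).card_mul_index
    rw [← sylow_index (S.subtype hSH)] at hi
    have hn : normalizer (((S.subtype hSH : Sylow 3 ↥H) : Subgroup ↥H) : Set ↥H) =
        (normalizer ((S : Subgroup G) : Set G)).subgroupOf H := by
      ext y
      rw [mem_subgroupOf, mem_normalizer_iff, mem_normalizer_iff]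
      refine ⟨fun hy z => ⟨fun hz => (hy ⟨z, hSH hz⟩).1 hz, fun hz => ?_⟩, fun hy z => hy z⟩
      have hzK : z ∈ H := by
        have := mul_mem (mul_mem (inv_mem y.2) (hSH hz)) y.2
        simpa [mul_assoc] using this
      exact (hy ⟨z, hzK⟩).2 hz
    rw [hn, Nat.card_congr (subgroupOfEquivOfLe hN).toEquiv, card_normalizer h S, h4, hH] at hi
    omega
  let ρ := MulAction.toPermHom ↥H (Sylow 3 ↥H)
  have hin : ∀ y : ↥H, y ∈ ρ.ker → (y : G) ^ 3 = 1 → ∀ R : Sylow 3 G, (R : Subgroup G) ≤ H →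
      (y : G) ∈ (R : Subgroup G) := by
    intro y hy h3 R hR
    have he : y • R.subtype hR = R.subtype hR := DFunLike.congr_fun (MonoidHom.mem_ker.1 hy) _
    refine mem_of_normalizer h R (mem_normalizer_iff.2 fun w => ?_) h3
    have hn := Sylow.smul_eq_iff_mem_normalizer.1 he
    refine ⟨fun hw => ((mem_normalizer_iff.1 hn) ⟨w, hR hw⟩).1 hw, fun hw => ?_⟩
    have hwK : w ∈ H := by
      have := mul_mem (mul_mem (inv_mem y.2) (hR hw)) y.2
      simpa [mul_assoc] using this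
    exact ((mem_normalizer_iff.1 hn) ⟨w, hwK⟩).2 hw
  set D := (S : Subgroup G) ⊓ ρ.ker.map H.subtype
  have hDR : ∀ R : Sylow 3 G, (R : Subgroup G) ≤ H → D ≤ (R : Subgroup G) := by
    rintro R hR _ ⟨hyS, y, hy, rfl⟩
    exact hin y hy (cube h S hyS) R hR
  refine ⟨D, ?_, inf_le_left, fun m hm => card_normalizer_real.mem_normalizer_of_forall ?_, hDR⟩
  · have h1 := card_three_group h (S.2.to_le (inf_le_left : D ≤ (S : Subgroup G)))
    set f := ρ.comp (inclusion hSH)
    have h2 := f.ker.card_mul_index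
    rw [Subgroup.index_ker, card_S h S] at h2
    have h4' : Nat.card f.ker = Nat.card D := Nat.card_congr
      { toFun := fun a => ⟨a.1.1, a.1.2, inclusion hSH a.1, a.2, rfl⟩
        invFun := fun a => ⟨⟨a.1, a.2.1⟩, by
          obtain ⟨w, hw, e⟩ := a.2.2
          have : inclusion hSH ⟨a.1, a.2.1⟩ = w := Subtype.ext e.symm
          show ρ (inclusion hSH ⟨a.1, a.2.1⟩) = 1
          rw [this]; exact hw⟩
        left_inv := fun a => rfl
        right_inv := fun a => rfl }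
    rw [h4'] at h2
    have h3 := card_subgroup_dvd_card f.range
    rw [Nat.card_perm, hn4] at h3
    have h5 : Nat.card f.range ∣ 27 := ⟨_, by rw [← h2, mul_comm]⟩
    have hd : Nat.card ↥D = 9 ∨ Nat.card ↥D = 27 := by
      generalize Nat.card f.range = r at h2 h3 h5
      have h6 := Nat.le_of_dvd (by norm_num) (Nat.dvd_gcd h3 h5)
      norm_num [Nat.factorial] at h6
      have h1' : Nat.card ↥D ∈ ([1, 3, 9, 27] : List ℕ) := h1
      generalize Nat.card ↥D = d at h1' h2 ⊢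
      simp only [List.mem_cons, List.not_mem_nil, or_false] at h1'
      rcases h1' with e' | e' | e' | e' <;> subst e' <;> omega
    refine hd.resolve_right fun e' => ?_
    obtain ⟨Q, hQ⟩ : ∃ Q : Sylow 3 ↥H, Q ≠ S.subtype hSH := by
      haveI : Nontrivial (Sylow 3 ↥H) := Finite.one_lt_card_iff_nontrivial.1 (by rw [hn4]; norm_num)
      exact exists_ne _
    refine hQ (Sylow.ext (eq_of_le_of_card_ge ?_ ?_).symm)
    · intro y hy
      have hyD : (y : G) ∈ D :=
        (eq_of_le_of_card_ge (inf_le_left : D ≤ (S : Subgroup G)) (by rw [e', card_S h S])).symm.le hy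
      obtain ⟨-, w, hw, e''⟩ := hyD
      have : w = y := Subtype.ext e''
      subst this
      have he : w • Q = Q := DFunLike.congr_fun (MonoidHom.mem_ker.1 hw) Q
      have hP : IsPGroup 3 ↥(zpowers w) := ((S.subtype hSH).2).to_le (zpowers_le.2 hy)
      exact ((hP.inf_normalizer_sylow Q).le ⟨mem_zpowers w, Sylow.smul_eq_iff_mem_normalizer.1 he⟩).2
    · rw [Sylow.card_eq_multiplicity, Sylow.card_eq_multiplicity]
  · rintro _ ⟨hyS, y, hy, rfl⟩
    have hker : (⟨m, hm⟩ : ↥H) * y * (⟨m, hm⟩ : ↥H)⁻¹ ∈ ρ.ker := ρ.normal_ker.conj_mem _ hy _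
    have h3 : (((⟨m, hm⟩ : ↥H) * y * (⟨m, hm⟩ : ↥H)⁻¹ : ↥H) : G) ^ 3 = 1 := by
      show (m * y.1 * m⁻¹) ^ 3 = 1
      rw [conj_pow, show y.1 ^ 3 = 1 from cube h S hyS, mul_one, mul_inv_cancel]
    exact ⟨hin _ hker h3 S hSH, _, hker, rfl⟩

end CfsgLib.Recog.G2TwoSpec
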