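import Cfsg.Agent.Lib.Recog.G2TwoSpec.Extra
import Cfsg.Agent.Lib.Recog.G2TwoSpec.Orbits

/-!
# With 28 non-abelian Sylow 3-subgroups the centre of one lies in no other
-/

set_option autoImplicit false
set_option linter.unusedSectionVars false
set_option linter.style.haveILetI false

open Subgroup
open scoped Pointwise

namespace CfsgLib.Recog.G2TwoSpec

variable {G : Type*} [Group G] [Finite G]

theorem sylow_faithful (h : Hyp G) {g : G} (hg : ∀ Q : Sylow 3 G, g • Q = Q) : g = 1 := by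
  haveI : Fact (Nat.Prime 3) := ⟨Nat.prime_three⟩
  obtain ⟨S⟩ := (inferInstance : Nonempty (Sylow 3 G))
  set K := (MulAction.toPermHom G (Sylow 3 G)).ker
  have hgK : g ∈ K := by rw [MonoidHom.mem_ker]; exact Equiv.ext hg
  have hK : K ≤ normalizer ((S : Subgroup G) : Set G) := fun k hk =>
    Sylow.smul_eq_iff_mem_normalizer.1 (DFunLike.congr_fun (MonoidHom.mem_ker.1 hk) S)
  by_contra hne
  have hb : K ≠ ⊥ := fun e => hne (mem_bot.1 (e ▸ hgK))
  have h1 := Nat.le_of_dvd Nat.card_pos (card_dvd_of_le hK)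
  rw [card_normalizer h S] at h1
  have h2 : compOrder G ≤ 16 := by
    rcases card_sylow_three h with e | e <;> rw [compOrder, e] <;> norm_num
  rcases normal_card_cases h K hb with e | e <;> omega

variable (h : Hyp G)
include h

theorem plane_elts {S : Sylow 3 G} {z x y : G} (e : Ex S z) (hx : x ∈ (S : Subgroup G)) (hy : y ∈ plane z x) :
    ∃ a b : ℕ, a < 3 ∧ b < 3 ∧ y = x ^ a * z ^ b := by
  let f := MonoidHom.noncommCoprod (zpowers x).subtype (zpowers z).subtype fun a b => by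
    obtain ⟨i, hi⟩ := mem_zpowers_iff.1 a.2
    obtain ⟨j, hj⟩ := mem_zpowers_iff.1 b.2
    show Commute a.1 b.1
    rw [← hi, ← hj]; exact ((e.central x hx).symm.zpow_left i).zpow_right j
  have hr : f.range = plane z x := by rw [MonoidHom.noncommCoprod_range, range_subtype, range_subtype]
  rw [← hr] at hy
  obtain ⟨p, rfl⟩ := hy
  have hpow : ∀ (w : G), w ^ 3 = 1 → ∀ u ∈ zpowers w, ∃ a < 3, u = w ^ a := by
    intro w hw u hu
    obtain ⟨j, rfl⟩ := mem_zpowers_iff.1 hu
    refine ⟨(j % 3).toNat, by omega, ?_⟩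
    conv_lhs => rw [← Int.emod_add_mul_ediv j 3]
    rw [zpow_add, zpow_mul, show w ^ (3 : ℤ) = 1 by exact_mod_cast hw, one_zpow, mul_one, ← zpow_natCast,
      Int.toNat_of_nonneg (by omega)]
  obtain ⟨a, ha, ea⟩ := hpow x (cube h S hx) _ p.1.2
  obtain ⟨b, hb, eb⟩ := hpow z (cube h S e.mem) _ p.2.2
  exact ⟨a, b, ha, hb, by rw [← ea, ← eb]; rfl⟩

theorem conj_center {S : Sylow 3 G} {z : G} (e : Ex S z) {n : G}
    (hn : n ∈ normalizer ((S : Subgroup G) : Set G)) : n * z * n⁻¹ = z ∨ n * z * n⁻¹ = z⁻¹ := by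
  have hmem : n * z * n⁻¹ ∈ zpowers z := e.cen _ ((mem_normalizer_iff.1 hn z).1 e.mem) fun s hs => by
    have hs' : n⁻¹ * s * n ∈ (S : Subgroup G) := by
      have := (mem_normalizer_iff.1 (inv_mem hn) s).1 hs
      rwa [inv_inv] at this
    calc n * z * n⁻¹ * s = n * (z * (n⁻¹ * s * n)) * n⁻¹ := by group
      _ = n * ((n⁻¹ * s * n) * z) * n⁻¹ := by rw [(e.central _ hs').eq]
      _ = s * (n * z * n⁻¹) := by group
  rcases e.mem_zpowers_cases h hmem with h1 | h1 | h1
  · exfalso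
    rw [mul_inv_eq_one, mul_eq_left] at h1
    exact e.ne h1
  · exact Or.inl h1
  · exact Or.inr h1

theorem conj_plane {S : Sylow 3 G} {z : G} (e : Ex S z) {n : G}
    (hn : n ∈ normalizer ((S : Subgroup G) : Set G)) (y : G) :
    (plane z y).map (MulAut.conj n).toMonoidHom = plane z (n * y * n⁻¹) := by
  rw [plane, Subgroup.map_sup, MonoidHom.map_zpowers, MonoidHom.map_zpowers]
  show zpowers (n * y * n⁻¹) ⊔ zpowers (n * z * n⁻¹) = _
  rcases conj_center h e hn with h1 | h1 <;> rw [h1]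
  rw [Subgroup.zpowers_inv]

theorem normalizer_le_center {S : Sylow 3 G} {z : G} (e : Ex S z) :
    normalizer ((S : Subgroup G) : Set G) ≤ normalizer ((zpowers z : Subgroup G) : Set G) := by
  intro n hn
  refine card_normalizer_real.mem_normalizer_of_forall fun y hy => ?_
  obtain ⟨j, rfl⟩ := mem_zpowers_iff.1 hy
  rw [← conj_zpow]
  rcases conj_center h e hn with h1 | h1 <;> rw [h1]
  · exact zpow_mem (mem_zpowers z) j
  · exact zpow_mem (inv_mem (mem_zpowers z)) j

theorem not_inter_nine_of_notMem {S Q : Sylow 3 G} {z : G} (e : Ex S z) (hz : z ∉ (Q : Subgroup G)) :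
    Nat.card ↥((S : Subgroup G) ⊓ Q : Subgroup G) ≤ 3 := by
  have h1 := inter_card h (show Q ≠ S from fun e' => hz (e' ▸ e.mem))
  simp only [List.mem_cons, List.not_mem_nil, or_false] at h1
  rcases h1 with e1 | e1 | e1
  · omega
  · omega
  · exact absurd (e.mem_nine h inf_le_left e1).2 hz

/-- With 28 Sylow subgroups the centre is weakly closed. -/
theorem weakly_closed (h28 : Nat.card (Sylow 3 G) = 28) (S : Sylow 3 G) {z : G} (e : Ex S z) : WC S z := by
  classical
  haveI : Fact (Nat.Prime 3) := ⟨Nat.prime_three⟩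
  haveI : Fact (Nat.Prime 2) := ⟨Nat.prime_two⟩
  haveI := Fintype.ofFinite G
  intro g hg
  by_contra hgz
  have h16 : compOrder G = 16 := by rw [compOrder, h28]
  set N := normalizer ((S : Subgroup G) : Set G)
  have hz3 := cube h S e.mem
  obtain ⟨S1, i, hS1, hPS1, _, hinv, _⟩ := e.fused h hg hgz (isConj_iff.2 ⟨g, rfl⟩)
  have hzS1 : z ∈ (S1 : Subgroup G) :=
    hPS1 ((le_sup_right : zpowers z ≤ plane z (g * z * g⁻¹)) (mem_zpowers z))
  have hreal : i * z * i⁻¹ = z⁻¹ := hinv z ((le_sup_right : zpowers z ≤ plane z (g * z * g⁻¹)) (mem_zpowers z))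
  -- the non-central conjugates
  let X : Finset G := Finset.univ.filter fun y => y ∈ (S : Subgroup G) ∧ y ∉ zpowers z ∧ IsConj z y
  have hX : ∀ y, y ∈ X ↔ y ∈ (S : Subgroup G) ∧ y ∉ zpowers z ∧ IsConj z y := fun y => by simp [X]
  have hplane : ∀ y ∈ X, ∀ d ∈ plane z y, d ∉ zpowers z → d ∈ X := by
    intro y hy d hd hdz
    obtain ⟨hyS, hyz, hyc⟩ := (hX y).1 hy
    obtain ⟨_, _, _, _, _, _, hall⟩ := e.fused h hyS hyz hyc
    obtain ⟨k, -, ek⟩ := hall d hd (fun e1 => hdz (e1 ▸ one_mem _))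
    exact (hX d).2 ⟨e.plane_le h hyS hd, hdz, isConj_iff.2 ⟨k, ek⟩⟩
  let PP : Finset (Subgroup G) := X.image fun y => plane z y
  have hfib : ∀ P ∈ PP, (X.filter fun y => plane z y = P).card = 6 := by
    intro P hP
    obtain ⟨y0, hy0, rfl⟩ := Finset.mem_image.1 hP
    obtain ⟨hy0S, hy0z, -⟩ := (hX y0).1 hy0
    have heq : (((X.filter fun y => plane z y = plane z y0) : Finset G) : Set G) =
        (plane z y0 : Set G) \ (zpowers z : Set G) := by
      ext y
      simp only [Finset.coe_filter, Set.mem_setOf_eq, Set.mem_diff, SetLike.mem_coe]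
      constructor
      · rintro ⟨hy, ey⟩
        exact ⟨ey ▸ (le_sup_left : zpowers y ≤ plane z y) (mem_zpowers y), ((hX y).1 hy).2.1⟩
      · rintro ⟨hy, hyz⟩
        exact ⟨hplane y0 hy0 y hy hyz, (e.plane_eq h (e.plane_le h hy0S) (e.card_plane h hy0S hy0z) hy hyz).symm⟩
    rw [← Set.ncard_coe_finset, heq, Set.ncard_diff (fun y hy => (le_sup_right : zpowers z ≤ plane z y0) hy),
      ← Nat.card_coe_set_eq, ← Nat.card_coe_set_eq]
    show Nat.card ↥(plane z y0) - Nat.card ↥(zpowers z) = 6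
    rw [e.card_plane h hy0S hy0z, e.card_zpowers h]
  have hXcard : X.card = 6 * PP.card := by
    rw [Finset.card_eq_sum_card_image (fun y => plane z y) X, Finset.sum_congr rfl hfib, Finset.sum_const,
      smul_eq_mul, mul_comm]
  have hle24 : X.card ≤ 24 := by
    have hsub : ((X : Finset G) : Set G) ⊆ ((S : Subgroup G) : Set G) \ (zpowers z : Set G) :=
      fun y hy => ⟨((hX y).1 hy).1, ((hX y).1 hy).2.1⟩
    have := Set.ncard_le_ncard hsub
    rw [Set.ncard_coe_finset, Set.ncard_diff (fun y hy => (zpowers_le.2 e.mem) hy), ← Nat.card_coe_set_eq,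
      ← Nat.card_coe_set_eq] at this
    have h27 : Nat.card ↥((S : Subgroup G) : Set G) = 27 := card_S h S
    have h3 : Nat.card ↥((zpowers z : Subgroup G) : Set G) = 3 := e.card_zpowers h
    rw [h27, h3] at this
    exact this
  have hjpos : 1 ≤ PP.card := Finset.card_pos.2 ⟨_, Finset.mem_image_of_mem _
    ((hX _).2 ⟨hg, hgz, isConj_iff.2 ⟨g, rfl⟩⟩)⟩
  have hk : Nat.card ↥({y | y ∈ N ∧ IsConj z y} : Set G) = 2 + 6 * PP.card := by
    have heq : ({y | y ∈ N ∧ IsConj z y} : Set G) = {z, z⁻¹} ∪ ((X : Finset G) : Set G) := by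
      ext y
      constructor
      · rintro ⟨hy, hc⟩
        obtain ⟨k, rfl⟩ := isConj_iff.1 hc
        have hyS : k * z * k⁻¹ ∈ (S : Subgroup G) := mem_of_normalizer h S hy (by
          rw [conj_pow, hz3, mul_one, mul_inv_cancel])
        by_cases hyz : k * z * k⁻¹ ∈ zpowers z
        · rcases e.mem_zpowers_cases h hyz with h1 | h1 | h1
          · exfalso
            rw [mul_inv_eq_one, mul_eq_left] at h1
            exact e.ne h1
          · exact Or.inl (Or.inl h1)
          · exact Or.inl (Or.inr h1)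
        · exact Or.inr (Finset.mem_coe.2 ((hX _).2 ⟨hyS, hyz, hc⟩))
      · rintro ((h1 | h1) | hy)
        · rw [h1]; exact ⟨le_normalizer e.mem, IsConj.refl z⟩
        · rw [Set.mem_singleton_iff.1 h1]; exact ⟨le_normalizer (inv_mem e.mem), isConj_iff.2 ⟨i, hreal⟩⟩
        · exact ⟨le_normalizer ((hX y).1 hy).1, ((hX y).1 hy).2.2⟩
    have hne : z ≠ z⁻¹ := fun e2 => e.ne (by
      have h2 : z * z = 1 := by rw [← inv_eq_iff_mul_eq_one]; exact e2.symm
      calc z = z ^ 3 * (z * z)⁻¹ := by group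
        _ = 1 := by rw [hz3, h2, one_mul, inv_one])
    rw [heq, Nat.card_coe_set_eq, Set.ncard_union_eq ?_, Set.ncard_pair hne, Set.ncard_coe_finset, hXcard]
    rw [Set.disjoint_left]
    rintro y (h1 | h1) hy
    · exact ((hX _).1 hy).2.1 (h1 ▸ mem_zpowers z)
    · exact ((hX _).1 hy).2.1 (Set.mem_singleton_iff.1 h1 ▸ inv_mem (mem_zpowers z))
  -- the fixed points of z
  have hmul := fixCard_mul h S hz3
  rw [hk, h16] at hmul
  have hM := nine_dvd h S (fun Q => z ∉ (Q : Subgroup G)) (fun s hs Q hQ hc => hQ (by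
      rw [mem_smul_iff, mul_assoc, (e.central s hs).eq, ← mul_assoc, inv_mul_cancel, one_mul] at hc
      exact hc)) fun Q hQ => not_inter_nine_of_notMem h e hQ
  have hsplit : fixCard z + Nat.card {Q : Sylow 3 G // z ∉ (Q : Subgroup G)} = 28 := by
    rw [fixCard, ← Nat.card_sum, ← h28]
    exact Nat.card_congr (Equiv.sumCompl _)
  have hf2 : 2 ≤ fixCard z := by
    rw [fixCard, Nat.succ_le_iff, Finite.one_lt_card_iff_nontrivial]
    exact ⟨⟨S1, hzS1⟩, ⟨S, e.mem⟩, fun e' => hS1 (congrArg Subtype.val e')⟩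
  have hf28 : fixCard z ≠ 28 := by
    intro e28
    refine e.ne (sylow_faithful h fun Q => (fixed_iff h Q hz3).2 ?_)
    have h0 : Nat.card {Q : Sylow 3 G // z ∉ (Q : Subgroup G)} = 0 := by omega
    by_contra hQ
    exact (Nat.card_ne_zero.2 ⟨⟨⟨Q, hQ⟩⟩, inferInstance⟩) h0
  have hC := card_centralizer_three h hz3 e.ne
  have hj : PP.card = 3 := by
    obtain ⟨t, ht⟩ := hM
    have hf : fixCard z = 10 ∨ fixCard z = 19 := by omega
    set j := PP.card
    set C := Nat.card ↥(centralizer ({z} : Set G))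
    have key : ∀ c ∈ Nat.divisors 1728, ∀ j < 5, (10 * (27 * 16) = c * (2 + 6 * j) → j = 3) ∧
        19 * (27 * 16) ≠ c * (2 + 6 * j) := by decide +kernel
    have hk' := key C (Nat.mem_divisors.2 ⟨hC, by norm_num⟩) j (by omega)
    rcases hf with hf | hf <;> rw [hf] at hmul
    · exact hk'.1 hmul
    · exact absurd hmul hk'.2
  obtain ⟨T, hTN, -, hT2, hST, -⟩ := exists_complement h S
  have hmap : ∀ n ∈ N, ∀ P ∈ PP, P.map (MulAut.conj n).toMonoidHom ∈ PP := by
    intro n hn P hP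
    obtain ⟨y, hy, rfl⟩ := Finset.mem_image.1 hP
    obtain ⟨hyS, hyz, hyc⟩ := (hX y).1 hy
    refine Finset.mem_image.2 ⟨n * y * n⁻¹, (hX _).2 ⟨(mem_normalizer_iff.1 hn y).1 hyS, fun hmem => ?_,
      hyc.trans (isConj_iff.2 ⟨n, rfl⟩)⟩, (conj_plane h e hn y).symm⟩
    exact hyz ((mem_normalizer_iff.1 (normalizer_le_center h e hn) y).2 hmem)
  letI : MulAction ↥T ↥PP :=
    { smul := fun t P => ⟨P.1.map (MulAut.conj (t : G)).toMonoidHom, hmap _ (hTN t.2) _ P.2⟩
      one_smul := fun P => Subtype.ext (by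
        show P.1.map (MulAut.conj (1 : G)).toMonoidHom = P.1
        rw [map_one]; exact Subgroup.map_id _)
      mul_smul := fun a b P => Subtype.ext (by
        show P.1.map (MulAut.conj ((a : G) * b)).toMonoidHom = (P.1.map _).map _
        rw [Subgroup.map_map]; congr 1; ext w; simp [mul_assoc]) }
  obtain ⟨P, hP⟩ := hT2.nonempty_fixed_point_of_prime_not_dvd_card ↥PP (by
    rw [Nat.card_eq_fintype_card, Fintype.card_coe, hj]; norm_num)
  obtain ⟨y, hy, hPy⟩ := Finset.mem_image.1 P.2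
  obtain ⟨hyS, hyz, hyc⟩ := (hX y).1 hy
  have hP9 : Nat.card ↥P.1 = 9 := by rw [← hPy]; exact e.card_plane h hyS hyz
  have hPS : P.1 ≤ (S : Subgroup G) := by rw [← hPy]; exact e.plane_le h hyS
  have hNP : N ≤ normalizer (P.1 : Set G) := by
    intro n hn
    obtain ⟨s, hs, t, ht, rfl⟩ := hST n hn
    refine mul_mem (card_normalizer_real.mem_normalizer_of_forall fun w hw => e.nine_normal h hPS hP9 hs hw) ?_
    refine card_normalizer_real.mem_normalizer_of_forall fun w hw => ?_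
    have := congrArg Subtype.val (hP ⟨t, ht⟩)
    exact this ▸ ⟨w, hw, rfl⟩
  obtain ⟨S2, _, hS2, hPS2, _, _, _⟩ := e.fused h hyS hyz hyc
  rw [hPy] at hPS2
  have hS2N : (S2 : Subgroup G) ≤ normalizer (P.1 : Set G) := by
    obtain ⟨g2, rfl⟩ := MulAction.exists_smul_eq G S S2
    exact fun s hs => card_normalizer_real.mem_normalizer_of_forall fun w hw =>
      (e.smul g2).nine_normal h hPS2 hP9 hs hw
  obtain ⟨c, hc3, hc, hc1⟩ := card_over h S (le_normalizer.trans hNP)
  rw [inf_eq_left.2 hNP, card_normalizer h S, h16] at hc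
  have hc' : c ≠ 1 := fun e1 => hS2 (hc1 e1 S2 hS2N)
  have hd : c ∣ 28 := by
    have := h.card ▸ card_subgroup_dvd_card (normalizer (P.1 : Set G))
    rw [hc] at this
    exact Nat.dvd_of_mul_dvd_mul_right (by norm_num) (show c * (27 * 16) ∣ 28 * (27 * 16) by norm_num at this ⊢; exact this)
  have h7 : ¬ 7 ∣ c := fun h7 => not_seven_normalizer h P.1 (S.2.to_le hPS) (by rw [hP9]; norm_num)
    (hc ▸ dvd_mul_of_dvd_left h7 _)
  have key : ∀ d ∈ Nat.divisors 28, ¬ 7 ∣ d → d % 3 = 1 → d = 1 ∨ d = 4 := by decide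
  rcases key c (Nat.mem_divisors.2 ⟨hd, by norm_num⟩) h7 hc3 with e1 | e1
  · exact hc' e1
  · exact normal_nine h P.1 hP9 (no_two_adic h (dvd_of_eq (by rw [hc, e1])))

theorem center_only (h28 : Nat.card (Sylow 3 G) = 28) (S : Sylow 3 G) {z : G} (e : Ex S z)
    (Q : Sylow 3 G) (hz : z ∈ (Q : Subgroup G)) : Q = S := by
  haveI : Fact (Nat.Prime 3) := ⟨Nat.prime_three⟩
  obtain ⟨g, rfl⟩ := MulAction.exists_smul_eq G S Q
  have h1 := weakly_closed h h28 S e g⁻¹ (by rw [inv_inv]; exact (mem_smul_iff g S z).1 hz)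
  rw [inv_inv] at h1
  have hzg : z ∈ zpowers (g * z * g⁻¹) := by
    obtain ⟨j, hj⟩ := mem_zpowers_iff.1 h1
    exact mem_zpowers_iff.2 ⟨j, by rw [conj_zpow, hj]; group⟩
  obtain ⟨j, hj⟩ := mem_zpowers_iff.1 hzg
  have hcen : ((g • S : Sylow 3 G) : Subgroup G) ≤ centralizer ({z} : Set G) := fun s hs =>
    mem_centralizer_singleton_iff.2 (by
      rw [← hj]; exact (((e.smul g).central s hs).zpow_left j).eq.symm)
  have hNM := normalizer_le_center h e
  obtain ⟨c, hc3, hc, hc1⟩ := card_over h S (le_normalizer.trans hNM)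
  rw [inf_eq_left.2 hNM, card_normalizer h S, show compOrder G = 16 by rw [compOrder, h28]] at hc
  refine hc1 ?_ _ (hcen.trans (centralizer_le_normalizer_zpowers z))
  by_contra hne
  have hd : c ∣ 28 := by
    have := h.card ▸ card_subgroup_dvd_card (normalizer ((zpowers z : Subgroup G) : Set G))
    rw [hc] at this
    exact Nat.dvd_of_mul_dvd_mul_right (by norm_num) (show c * (27 * 16) ∣ 28 * (27 * 16) by norm_num at this ⊢; exact this)
  have h7 : ¬ 7 ∣ c := fun h7 => not_seven_normalizer h (zpowers z) (S.2.to_le (zpowers_le.2 e.mem))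
    (by rw [e.card_zpowers h]; norm_num) (hc ▸ dvd_mul_of_dvd_left h7 _)
  have key : ∀ d ∈ Nat.divisors 28, ¬ 7 ∣ d → d % 3 = 1 → d = 1 ∨ d = 4 := by decide
  rcases key c (Nat.mem_divisors.2 ⟨hd, by norm_num⟩) h7 hc3 with e1 | e1
  · exact hne e1
  · have htop := no_two_adic h (dvd_of_eq (show 1728 = Nat.card ↥(normalizer ((zpowers z : Subgroup G) : Set G)) by rw [hc, e1]))
    haveI : (zpowers z).Normal := normalizer_eq_top_iff.1 htop
    rcases normal_card_cases h (zpowers z) (fun e' => e.ne (zpowers_eq_bot.1 e')) with e' | e' <;>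
      rw [e.card_zpowers h] at e' <;> omega

end CfsgLib.Recog.G2TwoSpec
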