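import Cfsg.Agent.Lib.Recog.G2TwoSpec.Action
import Cfsg.Agent.Lib.Recog.G2TwoSpec.CheckHeis
import Cfsg.Agent.Lib.Recog.G2TwoSpec.CheckAb

/-!
# Groups with the hypothesis are isomorphic
-/

set_option autoImplicit false
set_option linter.unusedSectionVars false
set_option linter.style.haveILetI false

open Subgroup
open scoped Pointwise

namespace CfsgLib.Recog.G2TwoSpec

variable {G : Type*} [Group G] [Finite G]

theorem pow_mod_three {y : G} (hy : y ^ 3 = 1) (n : ℕ) : y ^ n = y ^ (n % 3) := by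
  conv_lhs => rw [← Nat.mod_add_div n 3, pow_add, pow_mul, hy, one_pow, mul_one]

theorem coordA_law : ∀ u v : Fin 27,
    (mF mulA u v : ℕ) / 9 = ((u : ℕ) / 9 + (v : ℕ) / 9) % 3 ∧
    (mF mulA u v : ℕ) / 3 % 3 = ((u : ℕ) / 3 % 3 + (v : ℕ) / 3 % 3) % 3 ∧
    (mF mulA u v : ℕ) % 3 = ((u : ℕ) % 3 + (v : ℕ) % 3) % 3 := by decide +kernel

theorem coordH_law : ∀ u v : Fin 27,
    (mF mulH u v : ℕ) / 9 = ((u : ℕ) / 9 + (v : ℕ) / 9) % 3 ∧
    (mF mulH u v : ℕ) / 3 % 3 = ((u : ℕ) / 3 % 3 + (v : ℕ) / 3 % 3) % 3 ∧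
    ((mF mulH u v : ℕ) % 3 + (mF mulH u v : ℕ) / 9 * ((mF mulH u v : ℕ) / 3 % 3)) % 3 =
      (2 * ((v : ℕ) / 9) * ((u : ℕ) / 3 % 3) + ((u : ℕ) % 3 + (u : ℕ) / 9 * ((u : ℕ) / 3 % 3)) +
        ((v : ℕ) % 3 + (v : ℕ) / 9 * ((v : ℕ) / 3 % 3))) % 3 := by decide +kernel

theorem coord_ab (h : Hyp G) (hab : AbS G) (S : Sylow 3 G) : Nonempty (Coord mulA (S : Subgroup G)) := by
  classical
  haveI : Fact (Nat.Prime 3) := ⟨Nat.prime_three⟩
  have hS := card_S h S
  have pick : ∀ A : Subgroup G, Nat.card A < 27 → ∃ x ∈ (S : Subgroup G), x ∉ A := fun A hA => by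
    by_contra hc
    push Not at hc
    have := Nat.le_of_dvd Nat.card_pos (card_dvd_of_le (hc : (S : Subgroup G) ≤ A))
    omega
  have h3c : ∀ x ∈ (S : Subgroup G), x ≠ 1 → Nat.card ↥(zpowers x) = 3 := fun x hx hx1 => by
    rw [Nat.card_zpowers]; exact orderOf_eq_prime (cube h S hx) hx1
  obtain ⟨x, hx, hx1⟩ := pick ⊥ (by rw [card_bot]; norm_num)
  obtain ⟨y, hy, hy1⟩ := pick (zpowers x) (by rw [h3c x hx fun e => hx1 (e ▸ one_mem _)]; norm_num)
  set P := zpowers x ⊔ zpowers y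
  have hPS : P ≤ (S : Subgroup G) := sup_le (zpowers_le.2 hx) (zpowers_le.2 hy)
  have hP9 : Nat.card P = 9 := by
    let f := MonoidHom.noncommCoprod (zpowers x).subtype (zpowers y).subtype fun a b =>
      hab S a.1 (zpowers_le.2 hx a.2) b.1 (zpowers_le.2 hy b.2)
    have hr : f.range = P := (MonoidHom.noncommCoprod_range _ _ _).trans (by rw [range_subtype, range_subtype])
    have hle := Nat.card_le_card_of_surjective f.rangeRestrict f.rangeRestrict_surjective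
    rw [hr, Nat.card_prod, h3c x hx fun e => hx1 (e ▸ one_mem _), h3c y hy fun e => hy1 (e ▸ one_mem _)] at hle
    have h1 : Nat.card ↥P ∈ ([1, 3, 9, 27] : List ℕ) := card_three_group h (S.2.to_le hPS)
    have hlt : 3 < Nat.card P := by
      by_contra hle3
      exact hy1 ((eq_of_le_of_card_ge (le_sup_left : zpowers x ≤ P)
        (show Nat.card ↥P ≤ Nat.card ↥(zpowers x) by rw [h3c x hx fun e => hx1 (e ▸ one_mem _)]; omega)).symm.le
        ((le_sup_right : zpowers y ≤ P) (mem_zpowers y)))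
    simp only [List.mem_cons, List.not_mem_nil, or_false] at h1
    omega
  obtain ⟨z, hz, hz1⟩ := pick P (by rw [hP9]; norm_num)
  let E : Fin 27 → ↥(S : Subgroup G) := fun u =>
    ⟨x ^ ((u : ℕ) / 9) * y ^ ((u : ℕ) / 3 % 3) * z ^ ((u : ℕ) % 3),
      mul_mem (mul_mem (pow_mem hx _) (pow_mem hy _)) (pow_mem hz _)⟩
  have hsurj : Function.Surjective E := by
    rintro ⟨s, hs⟩
    obtain ⟨c, hc, k, hk, e1⟩ := decomp hPS (by rw [hS, hP9]) hz hz1 (cube h S hz) hs
    obtain ⟨d, hd, j, hj, e2⟩ := decomp (le_sup_left : zpowers x ≤ P)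
      (by rw [hP9, h3c x hx fun e => hx1 (e ▸ one_mem _)]) ((le_sup_right : zpowers y ≤ P) (mem_zpowers y))
      hy1 (cube h S hy) hc
    obtain ⟨o, ho, i, hi, e3⟩ := decomp (A := ⊥) (B := zpowers x) bot_le
      (by rw [h3c x hx fun e => hx1 (e ▸ one_mem _), card_bot]) (mem_zpowers x)
      (fun e => hx1 (mem_bot.1 e ▸ one_mem _)) (cube h S hx) hd
    rw [mem_bot.1 ho, one_mul] at e3
    refine ⟨⟨9 * i + 3 * j + k, by omega⟩, Subtype.ext ?_⟩
    show x ^ ((9 * i + 3 * j + k) / 9) * y ^ ((9 * i + 3 * j + k) / 3 % 3) * z ^ ((9 * i + 3 * j + k) % 3) = s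
    rw [show (9 * i + 3 * j + k) / 9 = i by omega, show (9 * i + 3 * j + k) / 3 % 3 = j by omega,
      show (9 * i + 3 * j + k) % 3 = k by omega, e1, e2, e3]
  refine ⟨⟨Equiv.ofBijective E (hsurj.bijective_of_nat_card_le (by rw [hS, Nat.card_fin])), fun u v => Subtype.ext ?_⟩⟩
  obtain ⟨e1, e2, e3⟩ := coordA_law u v
  show x ^ ((mF mulA u v : ℕ) / 9) * y ^ ((mF mulA u v : ℕ) / 3 % 3) * z ^ ((mF mulA u v : ℕ) % 3) =
    x ^ ((u : ℕ) / 9) * y ^ ((u : ℕ) / 3 % 3) * z ^ ((u : ℕ) % 3) *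
      (x ^ ((v : ℕ) / 9) * y ^ ((v : ℕ) / 3 % 3) * z ^ ((v : ℕ) % 3))
  rw [e1, e2, e3, ← pow_mod_three (cube h S hx), ← pow_mod_three (cube h S hy), ← pow_mod_three (cube h S hz),
    pow_add, pow_add, pow_add]
  have c1 : Commute (z ^ ((u : ℕ) % 3)) (x ^ ((v : ℕ) / 9)) := (hab S z hz x hx).pow_pow _ _
  have c2 : Commute (y ^ ((u : ℕ) / 3 % 3)) (x ^ ((v : ℕ) / 9)) := (hab S y hy x hx).pow_pow _ _
  have c3 : Commute (z ^ ((u : ℕ) % 3)) (y ^ ((v : ℕ) / 3 % 3)) := (hab S z hz y hy).pow_pow _ _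
  generalize x ^ ((u : ℕ) / 9) = a at *
  generalize x ^ ((v : ℕ) / 9) = a' at *
  generalize y ^ ((u : ℕ) / 3 % 3) = b at *
  generalize y ^ ((v : ℕ) / 3 % 3) = b' at *
  generalize z ^ ((u : ℕ) % 3) = k at *
  generalize z ^ ((v : ℕ) % 3) = k' at *
  calc a * a' * (b * b') * (k * k') = a * (a' * b) * (b' * k) * k' := by group
    _ = a * (b * a') * (k * b') * k' := by rw [← c2.eq, ← c3.eq]
    _ = a * b * (a' * k) * b' * k' := by group
    _ = a * b * k * (a' * b' * k') := by rw [← c1.eq]; group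

theorem coord_heis (h : Hyp G) (S : Sylow 3 G) {z : G} (e : Ex S z) :
    Nonempty (Coord mulH (S : Subgroup G)) := by
  classical
  haveI : Fact (Nat.Prime 3) := ⟨Nat.prime_three⟩
  have hS := card_S h S
  have pick : ∀ A : Subgroup G, Nat.card A < 27 → ∃ x ∈ (S : Subgroup G), x ∉ A := fun A hA => by
    by_contra hc
    push Not at hc
    have := Nat.le_of_dvd Nat.card_pos (card_dvd_of_le (hc : (S : Subgroup G) ≤ A))
    omega
  obtain ⟨y, hy, hyz⟩ := pick (zpowers z) (by rw [e.card_zpowers h]; norm_num)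
  obtain ⟨x, hx, hxP⟩ := pick (plane z y) (by rw [e.card_plane h hy hyz]; norm_num)
  set ζ := x⁻¹ * y⁻¹ * x * y with hζdef
  have hζmem : ζ ∈ zpowers z := by
    have := e.comm x⁻¹ (inv_mem hx) y⁻¹ (inv_mem hy)
    rwa [inv_inv, inv_inv] at this
  have hζ1 : ζ ≠ 1 := by
    intro h1
    refine hxP (e.comm_plane h hy hyz hx ?_)
    show x * y = y * x
    calc x * y = (y * x) * (x⁻¹ * y⁻¹ * x * y) := by group
      _ = y * x := by rw [← hζdef, h1, mul_one]
  have hζS : ζ ∈ (S : Subgroup G) := zpowers_le.2 e.mem hζmem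
  have hζ3 := cube h S hζS
  have hζz : zpowers ζ = zpowers z := eq_of_le_of_card_ge (zpowers_le.2 hζmem) (by
    rw [e.card_zpowers h, Nat.card_zpowers, orderOf_eq_prime hζ3 hζ1])
  have hcen : ∀ s ∈ (S : Subgroup G), Commute ζ s := fun s hs => by
    obtain ⟨k, hk⟩ := mem_zpowers_iff.1 hζmem
    rw [← hk]; exact (e.central s hs).zpow_left k
  have hyx : y * x = x * y * ζ ^ 2 := by
    have h1 : ζ ^ 2 = ζ⁻¹ := eq_inv_of_mul_eq_one_left (by rw [← pow_succ, hζ3])
    rw [h1, hζdef]; group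
  have hyxp : ∀ a b : ℕ, y ^ b * x ^ a = x ^ a * y ^ b * ζ ^ (2 * a * b) := by
    have h1 : ∀ b : ℕ, y ^ b * x = x * y ^ b * ζ ^ (2 * b) := by
      intro b
      induction b with
      | zero => simp
      | succ b ih =>
        calc y ^ (b + 1) * x = y * (y ^ b * x) := by rw [pow_succ']; group
          _ = (y * x) * y ^ b * ζ ^ (2 * b) := by rw [ih]; group
          _ = x * y * (ζ ^ 2 * y ^ b) * ζ ^ (2 * b) := by rw [hyx]; group
          _ = x * y * (y ^ b * ζ ^ 2) * ζ ^ (2 * b) := by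
            rw [((hcen _ (pow_mem hy b)).pow_left 2).eq]
          _ = x * y ^ (b + 1) * ζ ^ (2 * (b + 1)) := by
            rw [pow_succ' y b, show 2 * (b + 1) = 2 + 2 * b by ring, pow_add ζ]; simp only [mul_assoc]
    intro a b
    induction a with
    | zero => simp
    | succ a ih =>
      calc y ^ b * x ^ (a + 1) = (y ^ b * x ^ a) * x := by rw [pow_succ]; group
        _ = x ^ a * y ^ b * (ζ ^ (2 * a * b) * x) := by rw [ih]; group
        _ = x ^ a * (y ^ b * x) * ζ ^ (2 * a * b) := by rw [((hcen x hx).pow_left _).eq]; group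
        _ = x ^ (a + 1) * y ^ b * ζ ^ (2 * (a + 1) * b) := by
          rw [h1 b, pow_succ x a, show 2 * (a + 1) * b = 2 * b + 2 * a * b by ring, pow_add ζ]
          simp only [mul_assoc]
  let E : Fin 27 → ↥(S : Subgroup G) := fun u =>
    ⟨x ^ ((u : ℕ) / 9) * y ^ ((u : ℕ) / 3 % 3) * ζ ^ ((u : ℕ) % 3 + (u : ℕ) / 9 * ((u : ℕ) / 3 % 3)),
      mul_mem (mul_mem (pow_mem hx _) (pow_mem hy _)) (pow_mem hζS _)⟩
  have hsurj : Function.Surjective E := by
    rintro ⟨s, hs⟩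
    obtain ⟨c, hc, i, hi, e1⟩ := decomp (e.plane_le h hy) (by rw [hS, e.card_plane h hy hyz]) hx hxP (cube h S hx) hs
    have hc' : (x ^ i)⁻¹ * c * x ^ i ∈ plane z y := by
      have := e.nine_normal h (e.plane_le h hy) (e.card_plane h hy hyz) (inv_mem (pow_mem hx i)) hc
      rwa [inv_inv] at this
    obtain ⟨j, n, hj, -, e2⟩ := plane_elts h e hy hc'
    have hn : z ^ n ∈ zpowers ζ := hζz ▸ pow_mem (mem_zpowers z) n
    obtain ⟨o, ho, k, hk, e3⟩ := decomp (A := ⊥) (B := zpowers ζ) bot_le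
      (by rw [Nat.card_zpowers, orderOf_eq_prime hζ3 hζ1, card_bot]) (mem_zpowers ζ)
      (fun e' => hζ1 (mem_bot.1 e')) hζ3 hn
    rw [mem_bot.1 ho, one_mul] at e3
    have hs' : s = x ^ i * y ^ j * ζ ^ k := by
      calc s = x ^ i * ((x ^ i)⁻¹ * c * x ^ i) := by rw [e1]; group
        _ = x ^ i * y ^ j * ζ ^ k := by rw [e2, e3]; group
    refine ⟨⟨9 * i + 3 * j + (k + 2 * i * j) % 3, by omega⟩, Subtype.ext ?_⟩
    show x ^ ((9 * i + 3 * j + (k + 2 * i * j) % 3) / 9) * y ^ ((9 * i + 3 * j + (k + 2 * i * j) % 3) / 3 % 3) *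
      ζ ^ ((9 * i + 3 * j + (k + 2 * i * j) % 3) % 3 + (9 * i + 3 * j + (k + 2 * i * j) % 3) / 9 *
        ((9 * i + 3 * j + (k + 2 * i * j) % 3) / 3 % 3)) = s
    rw [show (9 * i + 3 * j + (k + 2 * i * j) % 3) / 9 = i by omega,
      show (9 * i + 3 * j + (k + 2 * i * j) % 3) / 3 % 3 = j by omega, hs', pow_mod_three hζ3 (_ + i * j)]
    congr 2
    interval_cases i <;> interval_cases j <;> omega
  refine ⟨⟨Equiv.ofBijective E (hsurj.bijective_of_nat_card_le (by rw [hS, Nat.card_fin])), fun u v => Subtype.ext ?_⟩⟩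
  obtain ⟨e1, e2, e3⟩ := coordH_law u v
  show x ^ ((mF mulH u v : ℕ) / 9) * y ^ ((mF mulH u v : ℕ) / 3 % 3) *
      ζ ^ ((mF mulH u v : ℕ) % 3 + (mF mulH u v : ℕ) / 9 * ((mF mulH u v : ℕ) / 3 % 3)) =
    x ^ ((u : ℕ) / 9) * y ^ ((u : ℕ) / 3 % 3) * ζ ^ ((u : ℕ) % 3 + (u : ℕ) / 9 * ((u : ℕ) / 3 % 3)) *
      (x ^ ((v : ℕ) / 9) * y ^ ((v : ℕ) / 3 % 3) * ζ ^ ((v : ℕ) % 3 + (v : ℕ) / 9 * ((v : ℕ) / 3 % 3)))
  rw [pow_mod_three hζ3 ((mF mulH u v : ℕ) % 3 + _), e3, ← pow_mod_three hζ3, e1, e2,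
    ← pow_mod_three (cube h S hx), ← pow_mod_three (cube h S hy)]
  generalize (u : ℕ) % 3 + (u : ℕ) / 9 * ((u : ℕ) / 3 % 3) = n
  generalize (v : ℕ) % 3 + (v : ℕ) / 9 * ((v : ℕ) / 3 % 3) = n'
  generalize (u : ℕ) / 9 = a
  generalize (v : ℕ) / 9 = a'
  generalize (u : ℕ) / 3 % 3 = b
  generalize (v : ℕ) / 3 % 3 = b'
  symm
  calc x ^ a * y ^ b * ζ ^ n * (x ^ a' * y ^ b' * ζ ^ n')
      = x ^ a * y ^ b * (ζ ^ n * x ^ a') * y ^ b' * ζ ^ n' := by simp only [mul_assoc]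
    _ = x ^ a * (y ^ b * x ^ a') * (ζ ^ n * y ^ b') * ζ ^ n' := by
      rw [((hcen _ (pow_mem hx a')).pow_left n).eq]; simp only [mul_assoc]
    _ = x ^ a * x ^ a' * y ^ b * (ζ ^ (2 * a' * b + n) * y ^ b') * ζ ^ n' := by
      rw [hyxp a' b, pow_add ζ]; simp only [mul_assoc]
    _ = x ^ (a + a') * y ^ (b + b') * ζ ^ (2 * a' * b + n + n') := by
      rw [((hcen _ (pow_mem hy b')).pow_left _).eq, pow_add x, pow_add y, pow_add ζ (2 * a' * b + n) n']
      simp only [mul_assoc]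

/-- words for the Sylow 2-subgroup in three of its tables -/
def wordsA : List (List (Fin 3)) := [[],
  [0],
  [0, 1, 1],
  [1, 1],
  [1],
  [1, 0],
  [0, 1, 1, 1],
  [0, 1, 0, 1, 1],
  [0, 1, 0, 1, 0],
  [0, 1, 0, 1],
  [1, 1, 1],
  [1, 0, 1, 1],
  [1, 0, 1],
  [1, 0, 1, 0],
  [0, 1],
  [0, 1, 0],
  [2],
  [0, 2],
  [0, 1, 1, 2],
  [1, 1, 2],
  [1, 2],
  [1, 0, 2],
  [0, 1, 1, 1, 2],
  [0, 1, 0, 1, 1, 2],
  [0, 1, 0, 1, 0, 2],
  [0, 1, 0, 1, 2],
  [1, 1, 1, 2],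
  [1, 0, 1, 1, 2],
  [1, 0, 1, 2],
  [1, 0, 1, 0, 2],
  [0, 1, 2],
  [0, 1, 0, 2]]

/-- the three generating tables -/
def genA (j : Fin 3) : ℕ := [P32[1]!, P32[4]!, P32[16]!][(j : ℕ)]!

theorem genA_mem : ∀ j, genA j ∈ P32 := by decide +kernel

theorem wordsA_length : wordsA.length = 32 ∧ P32.length = 32 := by decide +kernel

theorem wordsA_spec : ∀ i : Fin 32, ∀ x : Fin 27,
    tabFun (P32[(i : ℕ)]!) x = (wordsA[(i : ℕ)]!).foldr (fun j y => tabFun (genA j) y) x := by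
  decide +kernel

/-- parity of a word -/
def parity (b : Fin 3 → Bool) (l : List (Fin 3)) : Bool := l.foldr (fun j r => xor (b j) r) false

/-- the six candidates -/
def candA : List (List ℕ × List ℕ) :=
  [(TA0, gensA0), (TA1, gensA1), (TA2, gensA2), (TA3, gensA3), (TA4, gensA4), (TA5, gensA5)]

theorem cases_ab : ∀ b : Fin 3 → Bool, (∃ j, b j = true) →
    (∃ k : Fin 6, ∀ i : Fin 32, parity b (wordsA[(i : ℕ)]!) = false → P32[(i : ℕ)]! ∈ (candA[(k : ℕ)]!).1) ∨
      (∃ x : Fin 27, x ≠ 0 ∧ ∀ i : Fin 32, parity b (wordsA[(i : ℕ)]!) = false → tabFun (P32[(i : ℕ)]!) x = x) := by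
  decide +kernel

theorem candA_ok : ∀ p ∈ candA, p.1.length = 16 ∧ (∀ m ∈ p.1, Search.get m 27 = 27 ∧ ∀ x : Fin 27, Search.get m x < 27) ∧
    ∀ m ∈ p.2, m ∈ p.1 := by
  decide +kernel

theorem candA_run : ∀ p ∈ candA, Search.run p.1 p.2 mulA invC [] = true := by
  intro p hp
  simp only [candA, List.mem_cons, List.not_mem_nil, or_false] at hp
  rcases hp with rfl | rfl | rfl | rfl | rfl | rfl
  exacts [run_ab0, run_ab1, run_ab2, run_ab3, run_ab4, run_ab5]

theorem invC_lt : ∀ u : Fin 27, invC u < 27 := by decide +kernel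
theorem invC_A : ∀ u : Fin 27, mulA u 0 = u ∧ mulA (invC u) u = 0 := by decide +kernel
theorem invC_H : ∀ u : Fin 27, mulH u 0 = u ∧ mulH (invC u) u = 0 := by decide +kernel

/-- With 28 Sylow subgroups they are not abelian. -/
theorem abelian_not_28 (h : Hyp G) (hab : AbS G) (h28 : Nat.card (Sylow 3 G) = 28) : False := by
  classical
  haveI : Fact (Nat.Prime 3) := ⟨Nat.prime_three⟩
  haveI : Fact (Nat.Prime 2) := ⟨Nat.prime_two⟩
  haveI : Nontrivial (Sylow 3 G) := Finite.one_lt_card_iff_nontrivial.1 (by rw [h28]; norm_num)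
  obtain ⟨S, Q, hne⟩ := exists_pair_ne (Sylow 3 G)
  have hreg : ∀ R : Sylow 3 G, R ≠ S → (S : Subgroup G) ⊓ R = ⊥ := fun R hR => abelian_regular h hab h28 S R hR
  obtain ⟨c0⟩ := coord_ab h hab S
  set N := normalizer ((S : Subgroup G) : Set G)
  set T := N ⊓ normalizer ((Q : Subgroup G) : Set G)
  have hST : ∀ g ∈ T, g ∈ (S : Subgroup G) → g = 1 := fun g hg hgS => by
    have h1 : g ∈ (S : Subgroup G) ⊓ Q := ⟨hgS, mem_of_normalizer h Q hg.2 (cube h S hgS)⟩
    rw [hreg Q hne.symm] at h1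
    exact mem_bot.1 h1
  have hdec : ∀ n ∈ N, ∃ s ∈ (S : Subgroup G), s⁻¹ * n ∈ T := by
    intro n hn
    have hsub : ({R | ∃ s ∈ (S : Subgroup G), s • Q = R} : Set (Sylow 3 G)) ⊆ ({S} : Set (Sylow 3 G))ᶜ := by
      rintro _ ⟨s, hs, rfl⟩ e
      exact hne.symm (by
        calc Q = s⁻¹ • (s • Q) := (inv_smul_smul s Q).symm
          _ = S := by rw [Set.mem_singleton_iff.1 e]; exact Sylow.smul_eq_iff_mem_normalizer.2 (inv_mem (le_normalizer hs)))
    have horb := orbit_card h S Q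
    rw [hreg Q hne.symm, card_bot, mul_one, Nat.card_coe_set_eq] at horb
    have heq := Set.eq_of_subset_of_ncard_le hsub (by
      rw [Set.ncard_compl, Set.ncard_singleton, h28, horb])
    have hnQ : n • Q ∈ ({S} : Set (Sylow 3 G))ᶜ := fun e => hne.symm (by
      calc Q = n⁻¹ • (n • Q) := (inv_smul_smul n Q).symm
        _ = S := by rw [Set.mem_singleton_iff.1 e]; exact Sylow.smul_eq_iff_mem_normalizer.2 (inv_mem hn))
    rw [← heq] at hnQ
    obtain ⟨s, hs, e⟩ := hnQ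
    refine ⟨s, hs, Subgroup.mem_inf.2 ⟨N.mul_mem (N.inv_mem (le_normalizer hs)) hn,
      Sylow.smul_eq_iff_mem_normalizer.1 ?_⟩⟩
    rw [mul_smul, ← e, inv_smul_smul]
  have hT16 : Nat.card T = 16 := by
    let f : ↥(S : Subgroup G) × ↥T → ↥N := fun q => ⟨q.1 * q.2, mul_mem (le_normalizer q.1.2) q.2.2.1⟩
    have hf : Function.Bijective f := by
      constructor
      · rintro ⟨s, t⟩ ⟨s', t'⟩ e
        have e1 : (s : G) * t = s' * t' := congrArg Subtype.val e
        have e2 : (s' : G)⁻¹ * s = t'.1 * t.1⁻¹ := by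
          rw [eq_mul_inv_iff_mul_eq, mul_assoc, e1, inv_mul_cancel_left]
        have e3 := hST _ (e2 ▸ mul_mem t'.2 (inv_mem t.2)) (mul_mem (inv_mem s'.2) s.2)
        have e4 : s = s' := Subtype.ext (inv_mul_eq_one.1 e3).symm
        subst e4
        exact Prod.ext rfl (Subtype.ext (mul_left_cancel e1))
      · rintro ⟨n, hn⟩
        obtain ⟨s, hs, ht⟩ := hdec n hn
        exact ⟨(⟨s, hs⟩, ⟨_, ht⟩), Subtype.ext (mul_inv_cancel_left s n)⟩
    have h1 := Nat.card_eq_of_bijective f hf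
    rw [Nat.card_prod, card_S h S, card_normalizer h S, show compOrder G = 16 by rw [compOrder, h28]] at h1
    omega
  have hT2 : IsPGroup 2 ↥T := IsPGroup.of_card (n := 4) (by rw [hT16]; norm_num)
  obtain ⟨c, hc⟩ := adapt tabOK_ab (n := 5) (by rw [wordsA_length.2]; norm_num) (bound_ab c0) c0 T inf_le_left hT2
  obtain ⟨P, -, hPc, hPt⟩ := exists_tab_group tabOK_ab
  have hPmem : ∀ m ∈ P32, ∃ σ ∈ P, ∀ x, σ x = tabFun m x := by
    intro m hm
    let F : ↥P → Fin P32.length := fun σ =>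
      ⟨P32.idxOf (Classical.choose (hPt σ σ.2)), List.idxOf_lt_length_iff.2 (Classical.choose_spec (hPt σ σ.2)).1⟩
    have hF : Function.Injective F := fun a b e => by
      have h1 : Classical.choose (hPt a a.2) = Classical.choose (hPt b b.2) :=
        (List.idxOf_inj (Classical.choose_spec (hPt a a.2)).1).1 (congrArg Fin.val e)
      exact Subtype.ext (Equiv.ext fun x => by
        rw [(Classical.choose_spec (hPt a a.2)).2, (Classical.choose_spec (hPt b b.2)).2, h1])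
    obtain ⟨σ, hσ⟩ := (hF.bijective_of_nat_card_le (by rw [Nat.card_fin, hPc])).2
      ⟨P32.idxOf m, List.idxOf_lt_length_iff.2 hm⟩
    have h1 : Classical.choose (hPt σ σ.2) = m :=
      (List.idxOf_inj (Classical.choose_spec (hPt σ σ.2)).1).1 (congrArg Fin.val hσ)
    exact ⟨σ.1, σ.2, fun x => by rw [(Classical.choose_spec (hPt σ σ.2)).2, h1]⟩
  -- the image of the stabiliser
  let I : Subgroup ↥P :=
    { carrier := {σ | ∃ t ∈ T, ∀ u, (c.E ((σ : Equiv.Perm (Fin 27)) u) : G) = t * c.E u * t⁻¹}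
      one_mem' := ⟨1, one_mem _, fun u => by simp⟩
      mul_mem' := by
        rintro a b ⟨t, ht, e⟩ ⟨t', ht', e'⟩
        exact ⟨t * t', mul_mem ht ht', fun u => by rw [Subgroup.coe_mul, Equiv.Perm.mul_apply, e, e']; group⟩
      inv_mem' := by
        rintro a ⟨t, ht, e⟩
        refine ⟨t⁻¹, inv_mem ht, fun u => ?_⟩
        rw [show (c.E u : G) = c.E ((a : Equiv.Perm (Fin 27)) ((a : Equiv.Perm (Fin 27))⁻¹ u)) by simp, e]
        simp [mul_assoc] }
  have htab : ∀ t ∈ T, ∃ σ : ↥P, σ ∈ I ∧ ∀ u, (c.E ((σ : Equiv.Perm (Fin 27)) u) : G) = t * c.E u * t⁻¹ := by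
    intro t ht
    obtain ⟨m, hm, hme⟩ := hc t ht
    obtain ⟨σ, hσ, hσe⟩ := hPmem m hm
    exact ⟨⟨σ, hσ⟩, ⟨t, ht, fun u => by rw [hσe, hme]⟩, fun u => by rw [hσe, hme]⟩
  choose F hF hFe using htab
  -- conjugation is faithful
  have hfaith : ∀ t ∈ T, (∀ s ∈ (S : Subgroup G), t * s * t⁻¹ = s) → t = 1 := by
    intro t ht hts
    refine sylow_faithful h fun R => ?_
    by_cases hR : R = S
    · rw [hR]; exact Sylow.smul_eq_iff_mem_normalizer.2 ht.1
    have hsub : ({R | ∃ s ∈ (S : Subgroup G), s • Q = R} : Set (Sylow 3 G)) ⊆ ({S} : Set (Sylow 3 G))ᶜ := by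
      rintro _ ⟨s, hs, rfl⟩ e
      exact hne.symm (by
        calc Q = s⁻¹ • (s • Q) := (inv_smul_smul s Q).symm
          _ = S := by rw [Set.mem_singleton_iff.1 e]; exact Sylow.smul_eq_iff_mem_normalizer.2 (inv_mem (le_normalizer hs)))
    have horb := orbit_card h S Q
    rw [hreg Q hne.symm, card_bot, mul_one, Nat.card_coe_set_eq] at horb
    have heq := Set.eq_of_subset_of_ncard_le hsub (by
      rw [Set.ncard_compl, Set.ncard_singleton, h28, horb])
    obtain ⟨s, hs, rfl⟩ : R ∈ ({R | ∃ s ∈ (S : Subgroup G), s • Q = R} : Set (Sylow 3 G)) := heq ▸ hR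
    rw [← mul_smul, show t * s = s * t by rw [← mul_inv_eq_iff_eq_mul]; exact hts s hs, mul_smul,
      show t • Q = Q from Sylow.smul_eq_iff_mem_normalizer.2 ht.2]
  have hI16 : Nat.card I = 16 := by
    rw [← hT16]
    refine (Nat.card_eq_of_bijective (fun t : ↥T => (⟨F t t.2, hF t t.2⟩ : ↥I)) ⟨fun a b e => ?_, fun σ => ?_⟩).symm
    · have h1 : ∀ u, (a : G) * c.E u * (a : G)⁻¹ = b * c.E u * (b : G)⁻¹ := fun u => by
        rw [← hFe a a.2, ← hFe b b.2, show F a a.2 = F b b.2 from congrArg Subtype.val e]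
      refine Subtype.ext (inv_mul_eq_one.1 (hfaith _ (mul_mem (inv_mem b.2) a.2) fun s hs => ?_)).symm
      obtain ⟨u, hu⟩ := c.E.surjective ⟨s, hs⟩
      have h2 := h1 u
      rw [show (c.E u : G) = s from congrArg Subtype.val hu] at h2
      calc (b : G)⁻¹ * a * s * ((b : G)⁻¹ * a)⁻¹ = (b : G)⁻¹ * (a * s * (a : G)⁻¹) * b := by group
        _ = s := by rw [h2]; group
    · obtain ⟨t, ht, e⟩ := σ.2
      refine ⟨⟨t, ht⟩, Subtype.ext (Subtype.ext (Equiv.ext fun u => c.E.injective (Subtype.ext ?_)))⟩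
      exact (hFe t ht u).trans (e u).symm
  have hI2 : I.index = 2 := by
    have := I.card_mul_index
    rw [hI16, hPc, wordsA_length.2] at this
    omega
  choose π hπP hπe using fun j => hPmem _ (genA_mem j)
  let b : Fin 3 → Bool := fun j => decide ((⟨π j, hπP j⟩ : ↥P) ∉ I)
  have hword : ∀ l : List (Fin 3), ((l.map fun j => (⟨π j, hπP j⟩ : ↥P)).prod ∈ I ↔ parity b l = false) ∧
      ∀ x, (((l.map fun j => (⟨π j, hπP j⟩ : ↥P)).prod : ↥P) : Equiv.Perm (Fin 27)) x =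
        l.foldr (fun j y => tabFun (genA j) y) x := by
    intro l
    induction l with
    | nil => exact ⟨by simp [parity], fun x => rfl⟩
    | cons j l ih =>
      refine ⟨?_, fun x => ?_⟩
      · rw [List.map_cons, List.prod_cons, mul_mem_iff_of_index_two hI2, ih.1]
        have hpar : parity b (j :: l) = xor (b j) (parity b l) := rfl
        rw [hpar]
        by_cases hj : (⟨π j, hπP j⟩ : ↥P) ∈ I <;> simp [b, hj]
      · rw [List.map_cons, List.prod_cons, Subgroup.coe_mul, Equiv.Perm.mul_apply, ih.2, hπe]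
        rfl
  have hindex : ∀ t (ht : t ∈ T), ∃ i : Fin 32, parity b (wordsA[(i : ℕ)]!) = false ∧
      ∀ u, (c.E (tabFun (P32[(i : ℕ)]!) u) : G) = t * c.E u * t⁻¹ := by
    intro t ht
    obtain ⟨m, hm, hme⟩ := hPt (F t ht) (F t ht).2
    obtain ⟨i, hi, rfl⟩ := List.getElem_of_mem hm
    have hi32 : i < 32 := wordsA_length.2 ▸ hi
    refine ⟨⟨i, hi32⟩, ?_, fun u => ?_⟩
    · rw [← (hword _).1]
      have e : ((wordsA[i]!).map fun j => (⟨π j, hπP j⟩ : ↥P)).prod = F t ht := Subtype.ext (Equiv.ext fun x => by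
        rw [(hword _).2, ← wordsA_spec ⟨i, hi32⟩, hme, getElem!_pos P32 i hi])
      rw [e]; exact hF t ht
    · show (c.E (tabFun (P32[i]!) u) : G) = _
      rw [getElem!_pos P32 i hi, ← hme, hFe]
  have hb : ∃ j, b j = true := by
    by_contra hc
    push Not at hc
    have htop : I = ⊤ := by
      rw [eq_top_iff']
      intro σ
      obtain ⟨m, hm, hme⟩ := hPt σ σ.2
      obtain ⟨i, hi, rfl⟩ := List.getElem_of_mem hm
      have hi32 : i < 32 := wordsA_length.2 ▸ hi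
      have e : ((wordsA[i]!).map fun j => (⟨π j, hπP j⟩ : ↥P)).prod = σ := Subtype.ext (Equiv.ext fun x => by
        rw [(hword _).2, ← wordsA_spec ⟨i, hi32⟩, hme, getElem!_pos P32 i hi])
      rw [← e, (hword _).1]
      have : ∀ l : List (Fin 3), parity b l = false := fun l => by
        induction l with
        | nil => rfl
        | cons j l ih =>
          show xor (b j) (parity b l) = false
          rw [ih, Bool.eq_false_iff.2 (hc j)]; rfl
      exact this _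
    rw [htop, index_top] at hI2
    norm_num at hI2
  rcases cases_ab b hb with ⟨k, hk⟩ | ⟨x, hx0, hx⟩
  · set p := candA[(k : ℕ)]!
    have hp : p ∈ candA := by
      have hl : (k : ℕ) < candA.length := k.2
      show candA[(k : ℕ)]! ∈ candA
      rw [getElem!_pos candA (k : ℕ) hl]
      exact List.getElem_mem hl
    obtain ⟨hl, ht, hg⟩ := candA_ok p hp
    obtain ⟨φ, W, hW, -, -⟩ := search_find h h28 S Q hne.symm hreg mulA_lt invC_lt invC_A c hl ht
      (fun t ht' => by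
        obtain ⟨i, hi, hie⟩ := hindex t ht'
        exact ⟨_, hk i hi, hie⟩) hg (candA_run p hp)
    simp at hW
  · refine hx0 (c.E.injective (Subtype.ext ?_))
    have hfix : ∀ n ∈ N, n * (c.E x : G) * n⁻¹ = c.E x := by
      intro n hn
      obtain ⟨s, hs, ht⟩ := hdec n hn
      obtain ⟨i, hi, hie⟩ := hindex _ ht
      have h1 := hie x
      rw [hx i hi] at h1
      calc n * (c.E x : G) * n⁻¹ = s * (s⁻¹ * n * c.E x * (s⁻¹ * n)⁻¹) * s⁻¹ := by group
        _ = c.E x := by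
          rw [← h1, mul_inv_eq_iff_eq_mul]
          exact (hab S s hs _ (c.E x).2).eq
    rw [no_central h hab S (c.E x).2 hfix]
    have h0 := c.hom 0 0
    rw [show mF mulA 0 0 = 0 from ab_zero] at h0
    rw [left_eq_mul.1 h0, Subgroup.coe_one]

/-- a table as a map of 28 points -/
def tab28 (m : ℕ) (x : Fin 28) : Fin 28 := ⟨Search.get m x % 28, Nat.mod_lt _ (by norm_num)⟩

theorem good_rel : ∀ W ∈ goodH, ∃ t ∈ TH, ∀ x : Fin 28, Search.get W x = Search.get goodH[0]! (Search.get t x) := by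
  decide +kernel

theorem good_tabs : ∀ m ∈ goodH ++ TH, (∀ x : Fin 28, Search.get m x < 28) ∧ Function.Injective (tab28 m) := by
  decide +kernel

theorem th_ok : (∀ m ∈ TH, Search.get m 27 = 27 ∧ ∀ x : Fin 27, Search.get m x < 27) ∧ TH.length = 16 ∧
    (∀ m ∈ gensH, m ∈ TH) ∧ goodH[0]! ∈ goodH := by
  decide +kernel

theorem tab_perm {m : ℕ} (hm : m ∈ goodH ++ TH) :
    ∃ σ : Equiv.Perm (Fin 28), ∀ x : Fin 28, (σ x : ℕ) = Search.get m x :=
  ⟨Equiv.ofBijective _ (Finite.injective_iff_bijective.1 (good_tabs m hm).2),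
    fun x => Nat.mod_eq_of_lt ((good_tabs m hm).1 x)⟩

theorem KG_good {W : ℕ} (hW : W ∈ goodH) : KG mulH TH W = KG mulH TH goodH[0]! := by
  obtain ⟨t, ht, hWt⟩ := good_rel W hW
  obtain ⟨a, ha⟩ := tab_perm (List.mem_append_left TH hW)
  obtain ⟨b, hb⟩ := tab_perm (List.mem_append_left TH th_ok.2.2.2)
  obtain ⟨s, hs⟩ := tab_perm (List.mem_append_right goodH ht)
  have hab : a = b * s := Equiv.ext fun x => Fin.ext (by
    rw [Equiv.Perm.mul_apply, ha, hb, hs, hWt])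
  refine le_antisymm ?_ ?_ <;> refine (closure_le _).2 ?_ <;> rintro σ (h1 | h1 | h1)
  · exact subset_closure (Or.inl h1)
  · exact subset_closure (Or.inr (Or.inl h1))
  · rw [show σ = b * s from hab ▸ Equiv.ext fun x => Fin.ext ((h1 x).trans (ha x).symm)]
    exact mul_mem (subset_closure (Or.inr (Or.inr hb))) (subset_closure (Or.inr (Or.inl ⟨t, ht, hs⟩)))
  · exact subset_closure (Or.inl h1)
  · exact subset_closure (Or.inr (Or.inl h1))
  · rw [show σ = a * s⁻¹ from (show σ = b from Equiv.ext fun x => Fin.ext ((h1 x).trans (hb x).symm)).trans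
      (eq_mul_inv_of_mul_eq hab.symm)]
    exact mul_mem (subset_closure (Or.inr (Or.inr ha))) (inv_mem (subset_closure (Or.inr (Or.inl ⟨t, ht, hs⟩))))

/-- Every group with the hypothesis is one permutation group. -/
theorem iso_KG (h : Hyp G) : Nonempty (G ≃* ↥(KG mulH TH goodH[0]!)) := by
  classical
  haveI : Fact (Nat.Prime 3) := ⟨Nat.prime_three⟩
  haveI : Fact (Nat.Prime 2) := ⟨Nat.prime_two⟩
  by_cases hab : AbS G
  · rcases card_sylow_three h with h28 | h112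
    · exact (abelian_not_28 h hab h28).elim
    · exact (abelian_not_112 h hab h112).elim
  obtain ⟨S⟩ := (inferInstance : Nonempty (Sylow 3 G))
  obtain ⟨z, e⟩ := exists_ex h hab S
  rcases card_sylow_three h with h28 | h112
  swap
  · by_cases hwc : WC S z
    · exact (weak_not_112 h h112 S e hwc).elim
    · exact (fused_not_112 h h112 S e hwc).elim
  haveI : Nontrivial (Sylow 3 G) := Finite.one_lt_card_iff_nontrivial.1 (by rw [h28]; norm_num)
  obtain ⟨Q, hne⟩ := exists_ne S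
  have hreg : ∀ R : Sylow 3 G, R ≠ S → (S : Subgroup G) ⊓ R = ⊥ := fun R hR => extra_regular h h28 S e R hR
  obtain ⟨c0⟩ := coord_heis h S e
  set T := normalizer ((S : Subgroup G) : Set G) ⊓ normalizer ((Q : Subgroup G) : Set G)
  have hT2 : IsPGroup 2 ↥T := by
    have h3 : ¬ 3 ∣ Nat.card T := by
      intro hd
      obtain ⟨t, ht⟩ := exists_prime_orderOf_dvd_card' (G := ↥T) 3 hd
      have ht3 : (t : G) ^ 3 = 1 := by rw [← ht, ← Subgroup.coe_pow, pow_orderOf_eq_one, Subgroup.coe_one]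
      have h1 : (t : G) ∈ (S : Subgroup G) ⊓ Q :=
        ⟨mem_of_normalizer h S t.2.1 ht3, mem_of_normalizer h Q t.2.2 ht3⟩
      rw [hreg Q hne, mem_bot] at h1
      rw [show t = 1 from Subtype.ext h1, orderOf_one] at ht
      norm_num at ht
    have hd : Nat.card T ∣ 432 := by
      have h2 := card_dvd_of_le (inf_le_left : T ≤ normalizer ((S : Subgroup G) : Set G))
      rw [card_normalizer h S, show compOrder G = 16 by rw [compOrder, h28]] at h2
      exact h2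
    have key : ∀ d ∈ Nat.divisors 432, ¬ 3 ∣ d → ∃ n < 5, d = 2 ^ n := by decide +kernel
    obtain ⟨n, -, hn⟩ := key _ (Nat.mem_divisors.2 ⟨hd, by norm_num⟩) h3
    exact IsPGroup.of_card hn
  obtain ⟨c, hc⟩ := adapt tabOK_heis (n := 4) (by rw [th_ok.2.1]; norm_num) (bound_heis c0) c0 T inf_le_left hT2
  obtain ⟨φ, W, hW, hφ, hr⟩ := search_find h h28 S Q hne hreg mulH_lt invC_lt invC_H c th_ok.2.1 th_ok.1 hc
    th_ok.2.2.1 run_heis
  exact ⟨(MonoidHom.ofInjective hφ).trans (MulEquiv.subgroupCongr (hr.trans (KG_good hW)))⟩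

end CfsgLib.Recog.G2TwoSpec
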