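import Cfsg.Agent.Lib.Recog.G2TwoSpec.Abelian
import Cfsg.Agent.Lib.Chev.G2Two.Main
import Cfsg.Agent.Lib.Rec.ThreeSpectrum
import Cfsg.Agent.S1059

/-!
# The Chevalley group of type G₂ over two elements satisfies the hypothesis
-/

set_option autoImplicit false
set_option linter.unusedSectionVars false
set_option linter.style.haveILetI false

open Subgroup CfsgLib.Chev CfsgLib.Chev.G2Two
open Cfsg.Lie (chevG2)

namespace CfsgLib.Recog.G2TwoSpec

theorem invert_word : (∀ i : Fin 63, ((fun i => gP 7 (gP 2 (gP 8 (gP 2 i))))^[7]) i = i) ∧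
    (∃ i : Fin 63, gP 7 (gP 2 (gP 8 (gP 2 i))) ≠ i) ∧ (∀ i : Fin 63, gP 7 (gP 7 i) = i) ∧
    ∀ i : Fin 63, gP 7 (gP 2 (gP 8 (gP 2 (gP 7 (gP 7 (gP 2 (gP 8 (gP 2 (gP 7 i))))))))) = i := by
  decide +kernel

theorem card_orbit_conj {G : Type*} [Group G] [Finite G] (K : Subgroup G) (x : G) :
    Nat.card ↥({y | ∃ n ∈ K, n * x * n⁻¹ = y} : Set G) *
      Nat.card ↥(K ⊓ centralizer ({x} : Set G) : Subgroup G) = Nat.card K :=
  conj_card K x

theorem mem_normalizer_zpowers {G : Type*} [Group G] [Finite G] {x : G} (n : G) (hn : n * x * n⁻¹ ∈ zpowers x) :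
    n ∈ normalizer ((zpowers x : Subgroup G) : Set G) :=
  card_normalizer_real.mem_normalizer_of_forall fun y hy => by
    obtain ⟨j, rfl⟩ := mem_zpowers_iff.1 hy
    rw [← conj_zpow]
    exact zpow_mem hn j

theorem no_fourteen {M : Type*} [Group M] [Finite M] (hcard : Nat.card M = 12096) (D : Subgroup M)
    (hDn : D.Normal) (hD2 : D.index = 2)
    (hin : ∀ g ∈ D, orderOf g ∣ 7 ∨ orderOf g ∣ 8 ∨ orderOf g ∣ 12)
    (hodd : ∀ g : M, ¬ 2 ∣ orderOf g → g ∈ D) {u t : M} (hu : orderOf u = 7)
    (htu : t * u * t⁻¹ = u⁻¹) (g : M) (hg : orderOf g = 14) : False := by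
    haveI : Fact (Nat.Prime 7) := ⟨by norm_num⟩
    haveI : Fact (Nat.Prime 2) := ⟨Nat.prime_two⟩
    -- the centraliser of an element of order 7
    have hd7 : ∀ P : Sylow 7 M, Nat.card (P : Subgroup M) = 7 := by
      intro P
      rw [Sylow.card_eq_multiplicity, hcard]
      have : (12096 : ℕ).factorization 7 = 1 := by
        rw [show (12096 : ℕ) = 7 * 1728 from rfl, Nat.factorization_mul_apply_of_coprime (by norm_num)]
        rw [Nat.Prime.factorization_self (by norm_num), Nat.factorization_eq_zero_of_not_dvd (by norm_num)]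
      rw [this, pow_one]
    set a := g ^ 7
    set b := g ^ 2
    have ha : orderOf a = 2 := by
      rw [orderOf_pow_of_dvd (by norm_num) (by rw [hg]; norm_num), hg]
    have hb : orderOf b = 7 := by
      rw [orderOf_pow_of_dvd (by norm_num) (by rw [hg]; norm_num), hg]
    have hba : Commute a b := (Commute.refl g).pow_pow 7 2
    have haD : a ∉ D := by
      intro haD
      have hgD : g ∈ D := by
        have hbD : b ∈ D := hodd b (by rw [hb]; norm_num)
        have h1 : g = a * (b ^ 3)⁻¹ := by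
          simp only [a, b]; group
        rw [h1]; exact mul_mem haD (inv_mem (pow_mem hbD 3))
      have := hin g hgD
      rw [hg] at this; norm_num at this
    -- an element inverting b
    obtain ⟨s, hs⟩ : ∃ s : M, s * b * s⁻¹ = b⁻¹ := by
      have hP : ∀ w : M, orderOf w = 7 → ∃ P : Sylow 7 M, zpowers w = (P : Subgroup M) := by
        intro w hw
        have hPw : IsPGroup 7 ↥(zpowers w) := IsPGroup.of_card (n := 1) (by rw [Nat.card_zpowers, hw, pow_one])
        obtain ⟨P, hP⟩ := hPw.exists_le_sylow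
        exact ⟨P, eq_of_le_of_card_ge hP (by rw [hd7, Nat.card_zpowers, hw])⟩
      obtain ⟨P, hPu⟩ := hP u hu
      obtain ⟨R, hRb⟩ := hP b hb
      obtain ⟨k, hk⟩ := MulAction.exists_smul_eq M P R
      have hbk : k⁻¹ * b * k ∈ zpowers u := by
        rw [hPu]
        have := mem_zpowers b
        rw [hRb, ← hk, conj_mem_sylow] at this
        exact this
      obtain ⟨j, hj⟩ := mem_zpowers_iff.1 hbk
      refine ⟨k * t * k⁻¹, ?_⟩
      calc k * t * k⁻¹ * b * (k * t * k⁻¹)⁻¹ = k * (t * (k⁻¹ * b * k) * t⁻¹) * k⁻¹ := by group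
        _ = k * (u ^ j)⁻¹ * k⁻¹ := by rw [← hj, ← conj_zpow, htu, inv_zpow]
        _ = b⁻¹ := by rw [hj]; group
    have hbD : b ∈ D := hodd b (by rw [hb]; norm_num)
    set C := centralizer ({b} : Set M)
    have hCD : Nat.card ↥(C ⊓ D : Subgroup M) = 7 := by
      have hle : zpowers b ≤ C ⊓ D := le_inf (zpowers_le.2 (mem_centralizer_singleton_iff.2 rfl)) (zpowers_le.2 hbD)
      have h7 : 7 ∣ Nat.card ↥(C ⊓ D : Subgroup M) := by
        rw [← hb, ← Nat.card_zpowers]; exact card_dvd_of_le hle
      have hd : Nat.card ↥(C ⊓ D : Subgroup M) ∣ 12096 := hcard ▸ card_subgroup_dvd_card _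
      have key : ∀ q : ℕ, q = 2 ∨ q = 3 → ¬ q ∣ Nat.card ↥(C ⊓ D : Subgroup M) := by
        intro q hq hqd
        haveI : Fact q.Prime := ⟨by rcases hq with rfl | rfl <;> norm_num⟩
        obtain ⟨y, hy⟩ := exists_prime_orderOf_dvd_card' (G := ↥(C ⊓ D : Subgroup M)) q hqd
        have hy' : orderOf (y : M) = q := by rw [Subgroup.orderOf_coe, hy]
        have hyb : Commute (y : M) b := mem_centralizer_singleton_iff.1 y.2.1
        have h1 : orderOf ((y : M) * b) = q * 7 := by
          rw [hyb.orderOf_mul_eq_mul_orderOf_of_coprime (by rw [hy', hb]; rcases hq with rfl | rfl <;> norm_num), hy', hb]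
        have h2 := hin _ (D.mul_mem y.2.2 hbD)
        rw [h1] at h2
        rcases hq with rfl | rfl <;> norm_num at h2
      have hall : ∀ d ∈ Nat.divisors 12096, 7 ∣ d → ¬ 2 ∣ d → ¬ 3 ∣ d → d = 7 := by decide +kernel
      exact hall _ (Nat.mem_divisors.2 ⟨hd, by norm_num⟩) h7 (key 2 (Or.inl rfl)) (key 3 (Or.inr rfl))
    have hC : Nat.card C = 14 := by
      have h1 := (D.subgroupOf C).card_mul_index
      rw [show Nat.card ↥(D.subgroupOf C) = Nat.card ↥(C ⊓ D : Subgroup M) from Nat.card_congr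
        { toFun := fun y => ⟨y.1.1, y.1.2, y.2⟩
          invFun := fun y => ⟨⟨y.1, y.2.1⟩, y.2.2⟩
          left_inv := fun _ => rfl
          right_inv := fun _ => rfl }, hCD] at h1
      haveI := hDn
      have h2 : (D.subgroupOf C).index ∣ 2 := hD2 ▸ relIndex_dvd_index_of_normal D C
      have h3 : (D.subgroupOf C).index ≠ 1 := fun e1 => haD
        (show (⟨a, mem_centralizer_singleton_iff.2 hba.eq⟩ : ↥C) ∈ D.subgroupOf C from index_eq_one.1 e1 ▸ mem_top _)
      rcases (Nat.dvd_prime Nat.prime_two).1 h2 with e1 | e1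
      · exact absurd e1 h3
      · rw [e1] at h1; exact h1.symm
    set N := normalizer ((zpowers b : Subgroup M) : Set M)
    have hCN : C ≤ N := by
      rw [show N = normalizer ((zpowers b : Subgroup M) : Set M) from rfl, zpowers_eq_closure]
      exact (centralizer_closure {b}).symm.le.trans (centralizer_le_normalizer _)
    have hne1 : ∀ n : M, n * b * n⁻¹ ≠ 1 := fun n e1 => by
      rw [mul_inv_eq_one, mul_eq_left] at e1
      rw [e1, orderOf_one] at hb; norm_num at hb
    have hN : Nat.card N = 42 := by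
      obtain ⟨P, hP⟩ := (IsPGroup.of_card (n := 1) (by rw [Nat.card_zpowers, hb, pow_one]) :
        IsPGroup 7 ↥(zpowers b)).exists_le_sylow
      have heq : zpowers b = (P : Subgroup M) := eq_of_le_of_card_ge hP (by rw [hd7, Nat.card_zpowers, hb])
      have h1 := N.card_mul_index
      rw [hcard, show N.index = Nat.card (Sylow 7 M) by rw [sylow_index P, ← heq]] at h1
      have hmod := card_sylow_modEq_one 7 M
      have h14 : 14 ∣ Nat.card N := hC ▸ card_dvd_of_le hCN
      have h84 : Nat.card N ≤ 84 := by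
        have h2 := card_orbit_conj N b
        rw [show N ⊓ centralizer ({b} : Set M) = C from inf_eq_right.2 hCN, hC] at h2
        have h3 : Nat.card ↥({y | ∃ n ∈ N, n * b * n⁻¹ = y} : Set M) ≤ 6 := by
          rw [Nat.card_coe_set_eq]
          refine (Set.ncard_le_ncard (?_ : _ ⊆ (zpowers b : Set M) \ {1})).trans (le_of_eq ?_)
          · rintro _ ⟨n, hn, rfl⟩
            exact ⟨(mem_normalizer_iff.1 hn b).1 (mem_zpowers b), hne1 n⟩
          · rw [Set.ncard_diff_singleton_of_mem (one_mem _), ← Nat.card_coe_set_eq]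
            show Nat.card ↥(zpowers b) - 1 = 6
            rw [Nat.card_zpowers, hb]
        generalize Nat.card ↥({y | ∃ n ∈ N, n * b * n⁻¹ = y} : Set M) = o at h2 h3
        generalize Nat.card N = d at h2 ⊢
        omega
      have key : ∀ d ∈ Nat.divisors 12096, 14 ∣ d → d ≤ 84 → (12096 / d) % 7 = 1 → d = 42 := by decide +kernel
      refine key _ (Nat.mem_divisors.2 ⟨⟨_, h1.symm⟩, by norm_num⟩) h14 h84 ?_
      rw [← h1, Nat.mul_div_cancel_left _ Nat.card_pos]
      exact hmod
    let L : Subgroup M :=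
      { carrier := {n | n * b * n⁻¹ = b ∨ n * b * n⁻¹ = b⁻¹}
        one_mem' := Or.inl (by group)
        mul_mem' := by
          intro n n' hn hn'
          have e : n * n' * b * (n * n')⁻¹ = n * (n' * b * n'⁻¹) * n⁻¹ := by group
          show _ ∨ _
          rw [e]
          rcases hn' with h' | h' <;> rw [h']
          · exact hn
          · rw [show n * b⁻¹ * n⁻¹ = (n * b * n⁻¹)⁻¹ by group]
            rcases hn with h | h <;> rw [h]
            · exact Or.inr rfl
            · exact Or.inl (inv_inv b)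
        inv_mem' := by
          intro n hn
          show _ ∨ _
          rcases hn with h | h
          · left
            calc n⁻¹ * b * n⁻¹⁻¹ = n⁻¹ * (n * b * n⁻¹) * n⁻¹⁻¹ := by rw [h]
              _ = b := by group
          · right
            calc n⁻¹ * b * n⁻¹⁻¹ = (n⁻¹ * (n * b * n⁻¹) * n⁻¹⁻¹)⁻¹ := by rw [h]; group
              _ = b⁻¹ := by group }
    have hL : Nat.card L = 28 := by
      have h2 := card_orbit_conj L b
      have hset : ({y | ∃ n ∈ L, n * b * n⁻¹ = y} : Set M) = {b, b⁻¹} := by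
        ext y
        constructor
        · rintro ⟨n, hn | hn, rfl⟩
          · exact Or.inl hn
          · exact Or.inr hn
        · rintro (rfl | hy)
          · exact ⟨1, one_mem _, by group⟩
          · exact ⟨s, Or.inr hs, hs.trans (Set.mem_singleton_iff.1 hy).symm⟩
      have hCL : C ≤ L := fun n hn => Or.inl (mul_inv_eq_iff_eq_mul.2 (mem_centralizer_singleton_iff.1 hn))
      have hne : b ≠ b⁻¹ := fun e1 => by
        have h3 : b ^ 2 = 1 := by rw [pow_two, ← inv_eq_iff_mul_eq_one, ← e1]
        have := orderOf_dvd_of_pow_eq_one h3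
        rw [hb] at this; norm_num at this
      rw [hset, Nat.card_coe_set_eq, Set.ncard_pair hne, inf_eq_right.2 hCL, hC] at h2
      exact h2.symm
    have hLN : L ≤ N := by
      intro n hn
      refine mem_normalizer_zpowers n ?_
      rcases hn with h | h <;> rw [h]
      · exact mem_zpowers b
      · exact inv_mem (mem_zpowers b)
    have := card_dvd_of_le hLN
    rw [hL, hN] at this
    norm_num at this

variable {F : Type*} [Field F] [Fintype F]

theorem hyp_chev (hF : Fintype.card F = 2) : Hyp ↥(chevG2.group F) := by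
  classical
  set M := ↥(chevG2.group F)
  have hcard : Nat.card M = 12096 := by
    rw [Cfsg.Agent.S1059.result hF]; norm_num
  haveI : Finite M := Nat.finite_of_card_ne_zero (by rw [hcard]; norm_num)
  haveI : Fact (Nat.Prime 3) := ⟨Nat.prime_three⟩
  haveI : Fact (Nat.Prime 7) := ⟨by norm_num⟩
  haveI : Fact (Nat.Prime 2) := ⟨Nat.prime_two⟩
  let K := GaloisField 3 2
  haveI : Fintype K := Fintype.ofFinite K
  have hK : Fintype.card K = 9 := by
    rw [← Nat.card_eq_fintype_card, GaloisField.card 3 2 (by norm_num)]; norm_num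
  obtain ⟨e⟩ := derived_equiv (F := F) (K := K) hF hK
  obtain ⟨e'⟩ := Unitary.nonempty_equiv_PSU (K := K) hK
  set D := commutator M
  have hD : Nat.card D = 6048 := by
    rw [Nat.card_congr e.toEquiv, ← Nat.card_congr e'.toEquiv, Unitary.card_eq hK]
  have hD2 : D.index = 2 := by
    have := D.card_mul_index
    rw [hD, hcard] at this; omega
  have hspec := CfsgLib.Rec.ThreeSpectrum.range_orderOf_PSU (F := K) hK
  have hin : ∀ g : M, g ∈ D → orderOf g ∣ 7 ∨ orderOf g ∣ 8 ∨ orderOf g ∣ 12 := by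
    intro g hg
    have h1 : orderOf g = orderOf (e ⟨g, hg⟩) := by
      rw [show orderOf (e ⟨g, hg⟩) = orderOf (⟨g, hg⟩ : ↥D) from
        orderOf_injective e.toMonoidHom e.injective _]
      exact (Subgroup.orderOf_mk g hg).symm
    have h2 : orderOf (e ⟨g, hg⟩) ∈ Set.range (orderOf : Cfsg.PSU 3 K 3 → ℕ) := ⟨_, rfl⟩
    rw [hspec] at h2
    rwa [h1]
  have hodd : ∀ g : M, ¬ 2 ∣ orderOf g → g ∈ D := by
    intro g hg
    obtain ⟨k, hk⟩ : Odd (orderOf g) := Nat.not_even_iff_odd.1 fun h => hg h.two_dvd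
    have h1 : g = (g ^ 2) ^ (k + 1) := by
      rw [← pow_mul, show 2 * (k + 1) = orderOf g + 1 by omega, pow_succ, pow_orderOf_eq_one, one_mul]
    rw [h1]
    exact pow_mem ((pow_two g).symm ▸ (mul_mem_iff_of_index_two hD2).2 Iff.rfl) _
  refine ⟨hcard, fun g hg => ?_, fun g hg => ?_, fun g hg => ?_, ?_⟩
  · have := hin g (hodd g (by rw [hg]; norm_num))
    rw [hg] at this; norm_num at this
  · -- no element of order 14
    haveI : CharP F 2 := charP_of_card_eq_prime (by rw [hF]) (hp := ⟨Nat.prime_two⟩)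
    let x : Fin 12 → M := fun r => ⟨xG stdG2.good r.val (1 : F), xG_mem_group stdG2.good r.val 1⟩
    have hx : ∀ r i, rho hF (x r) i = gP r i := fun r i => rho_gen hF r.isLt i
    have hact : ∀ a b : M, (∀ i, rho hF a i = rho hF b i) → a = b := fun a b hab => rho_inj hF (Equiv.ext hab)
    set t := x 7
    set u := x 7 * (x 2 * (x 8 * x 2))
    have hu_app : ∀ i, rho hF u i = gP 7 (gP 2 (gP 8 (gP 2 i))) := fun i => by
      simp only [u, map_mul, Equiv.Perm.mul_apply, hx]; rfl
    obtain ⟨hu7, ⟨i0, hi0⟩, ht2, hinv⟩ := invert_word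
    have hu7' : u ^ 7 = 1 := hact _ _ fun i => by
      rw [map_pow, Equiv.Perm.coe_pow, show ⇑(rho hF u) = fun i => gP 7 (gP 2 (gP 8 (gP 2 i))) from funext hu_app,
        map_one]
      exact hu7 i
    have hu1 : u ≠ 1 := fun e1 => hi0 (by rw [← hu_app, e1, map_one]; rfl)
    have hu : orderOf u = 7 := orderOf_eq_prime hu7' hu1
    have htt : t * t = 1 := hact _ _ fun i => by
      simp only [t, map_mul, map_one, Equiv.Perm.mul_apply, hx]; exact ht2 i
    have hrev : u * (t * u * t) = 1 := hact _ _ fun i => by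
      simp only [map_mul, map_one, Equiv.Perm.mul_apply, hu_app, t, hx]
      exact hinv i
    refine no_fourteen (t := t) hcard D inferInstance hD2 hin hodd hu ?_ g hg
    rw [show t⁻¹ = t from inv_eq_of_mul_eq_one_right htt]
    exact eq_inv_of_mul_eq_one_right hrev
  · have := hin g (hodd g (by rw [hg]; norm_num))
    rw [hg] at this; norm_num at this
  · have h2 : (12 : ℕ) ∈ Set.range (orderOf : Cfsg.PSU 3 K 3 → ℕ) := by
      rw [hspec]; exact Or.inr (Or.inr dvd_rfl)
    obtain ⟨y, hy⟩ := h2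
    refine ⟨((e.symm y : ↥D) : M), ?_⟩
    rw [Subgroup.orderOf_coe, show orderOf (e.symm y) = orderOf y from
      orderOf_injective e.symm.toMonoidHom e.symm.injective y, hy]

end CfsgLib.Recog.G2TwoSpec
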