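import Mathlib

/-!
# An exhaustive search for involutions normalising a point stabiliser on 28 points

Permutations of 28 points are packed in natural numbers, five bits for each point; the value 31
stands for "not yet known". The point 27 is the point at infinity.
-/

set_option autoImplicit false

namespace CfsgLib.Recog.G2TwoSpec.Search

/-- the entry of a packed table -/
def get (m x : ℕ) : ℕ := (m >>> (5 * x)) &&& 31

/-- fill an empty entry -/
def put (m x y : ℕ) : ℕ := m ^^^ ((31 ^^^ y) <<< (5 * x))

/-- the table without entries -/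
def blank : ℕ := 2 ^ 140 - 1

theorem get_blank {x : ℕ} (hx : x < 28) : get blank x = 31 := by
  interval_cases x <;> rfl

theorem get_put_self {m x y : ℕ} (hy : y < 32) (h : get m x = 31) : get (put m x y) x = y := by
  have e : get (put m x y) x = get m x ^^^ ((31 ^^^ y) &&& 31) := by
    simp only [get, put, Nat.shiftRight_xor_distrib, Nat.shiftLeft_shiftRight,
      Nat.and_xor_distrib_right]
  rw [e, h]
  interval_cases y <;> rfl

theorem get_put_ne {m x y z : ℕ} (hy : y < 32) (h : z ≠ x) : get (put m x y) z = get m z := by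
  have hb : 31 ^^^ y < 2 ^ 5 := Nat.xor_lt_two_pow (by norm_num) hy
  have key : ((31 ^^^ y) <<< (5 * x)) >>> (5 * z) &&& 31 = 0 := by
    apply Nat.eq_of_testBit_eq
    intro i
    rw [Nat.zero_testBit, Nat.testBit_and, Nat.testBit_shiftRight, Nat.testBit_shiftLeft,
      Bool.eq_false_iff]
    intro hc
    simp only [Bool.and_eq_true, decide_eq_true_eq] at hc
    obtain ⟨⟨h1, h2⟩, h3⟩ := hc
    have hi : i < 5 := by
      by_contra hlt
      rw [Nat.testBit_eq_false_of_lt] at h3
      · simp at h3
      · exact lt_of_lt_of_le (by norm_num : (31 : ℕ) < 2 ^ 5) (Nat.pow_le_pow_right two_pos (not_lt.1 hlt))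
    rw [Nat.testBit_eq_false_of_lt (lt_of_lt_of_le hb (Nat.pow_le_pow_right two_pos (by omega)))] at h2
    simp at h2
  simp only [get, put, Nat.shiftRight_xor_distrib, Nat.and_xor_distrib_right, key, Nat.xor_zero]

/-- propagation of the values forced by the relations -/
def close (rel : List (ℕ × ℕ)) : ℕ → List (ℕ × ℕ) → ℕ → Option ℕ
  | 0, _, m => some m
  | _ + 1, [], m => some m
  | n + 1, (x, y) :: q, m =>
    if get m x == 31 then
      close rel n ((y, x) :: ((rel.map fun r => (get r.1 x, get r.2 y)) ++ q)) (put m x y)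
    else if get m x == y then close rel n q m else none

/-- depth first search: every completion satisfies the check -/
def dfs (rel : List (ℕ × ℕ)) (chk : ℕ → Bool) : ℕ → ℕ → Bool
  | 0, _ => false
  | n + 1, m =>
    match (List.range 28).find? (fun x => get m x == 31) with
    | none => chk m
    | some x => (List.range 28).all fun y =>
      match close rel 400 [(x, y)] m with
      | none => true
      | some m' => dfs rel chk n m'

/-- the number of fixed points -/
def fixN (t : ℕ) : ℕ := (List.range 28).countP fun x => get t x == x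

/-- the number of fixed points of a product -/
def fixP (s t : ℕ) : ℕ := (List.range 28).countP fun x => get s (get t x) == x

/-- the possible images of generators under conjugation -/
def tuples (T : List ℕ) : List ℕ → List (List (ℕ × ℕ))
  | [] => [[]]
  | t :: ts => (tuples T ts).flatMap fun rel =>
      (T.filter fun u => (fixN t == fixN u) && (fixP t t == fixP u u) && rel.all fun r => fixP t r.1 == fixP u r.2).map
        fun u => (t, u) :: rel

/-- left translation extended to infinity -/
def sh (mul : ℕ → ℕ → ℕ) (u x : ℕ) : ℕ := if x == 27 then 27 else mul u x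

/-- the commutation map of two translations and the involution -/
def gmap (mul : ℕ → ℕ → ℕ) (inv : ℕ → ℕ) (m u x : ℕ) : ℕ :=
  get m (sh mul (inv (get m u)) (get m (sh mul u (get m x))))

/-- the translated map is not in the stabiliser -/
def badAt (T : List ℕ) (mul : ℕ → ℕ → ℕ) (inv : ℕ → ℕ) (m u : ℕ) : Bool :=
  !(gmap mul inv m u 27 == 27) || !(T.any fun t => (List.range 27).all fun x =>
    get t x == sh mul (inv (gmap mul inv m u 0)) (gmap mul inv m u x))

/-- the check at a leaf -/
def check (T : List ℕ) (mul : ℕ → ℕ → ℕ) (inv : ℕ → ℕ) (good : List ℕ) (m : ℕ) : Bool :=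
  (good.any fun W => (List.range 28).all fun x => get W x == get m x) ||
    (List.range' 1 26).any fun u => badAt T mul inv m u

/-- the whole search -/
def run (T gens : List ℕ) (mul : ℕ → ℕ → ℕ) (inv : ℕ → ℕ) (good : List ℕ) : Bool :=
  (tuples T gens).all fun rel =>
    match close rel 400 [(0, 27)] blank with
    | none => true
    | some m => dfs rel (check T mul inv good) 28 m

variable (f : ℕ → ℕ)

/-- a table agrees with the map -/
def Agrees (m : ℕ) : Prop := ∀ x, x < 28 → get m x ≠ 31 → get m x = f x

/-- a pair of permutations intertwined by the map -/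
def Rel (r : ℕ × ℕ) : Prop := ∀ x, x < 28 → get r.1 x < 28 ∧ f (get r.1 x) = get r.2 (f x)

variable {f} (hlt : ∀ x, x < 28 → f x < 28) (hinv : ∀ x, x < 28 → f (f x) = x)
include hlt hinv

theorem close_sound {rel : List (ℕ × ℕ)} (hrel : ∀ r ∈ rel, Rel f r) :
    ∀ (n : ℕ) (q : List (ℕ × ℕ)) (m : ℕ), Agrees f m → (∀ p ∈ q, p.1 < 28 ∧ f p.1 = p.2) →
      ∃ m', close rel n q m = some m' ∧ Agrees f m'
  | 0, q, m, hm, _ => ⟨m, by simp [close], hm⟩
  | n + 1, [], m, hm, _ => ⟨m, by simp [close], hm⟩
  | n + 1, (x, y) :: q, m, hm, hq => by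
    obtain ⟨hx, hy'⟩ := hq (x, y) (by simp)
    simp only at hx hy'
    subst hy'
    have hq' : ∀ p ∈ q, p.1 < 28 ∧ f p.1 = p.2 := fun p hp => hq p (List.mem_cons_of_mem _ hp)
    by_cases h : get m x = 31
    · have hy : f x < 32 := lt_trans (hlt x hx) (by norm_num)
      have hm' : Agrees f (put m x (f x)) := fun z hz hne => by
        by_cases hzx : z = x
        · subst hzx
          exact get_put_self hy h
        · rw [get_put_ne hy hzx] at hne ⊢
          exact hm z hz hne
      obtain ⟨m', e, hm''⟩ := close_sound hrel n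
        ((f x, x) :: ((rel.map fun r => (get r.1 x, get r.2 (f x))) ++ q)) (put m x (f x)) hm' (by
          intro p hp
          simp only [List.mem_cons, List.mem_append, List.mem_map] at hp
          rcases hp with rfl | ⟨r, hr, rfl⟩ | hp
          · exact ⟨hlt x hx, hinv x hx⟩
          · exact hrel r hr x hx
          · exact hq' p hp)
      exact ⟨m', by simp [close, h, e], hm''⟩
    · obtain ⟨m', e, hm'⟩ := close_sound hrel n q m hm hq'
      exact ⟨m', by simp [close, hm x hx h, e, show f x ≠ 31 from fun e' => by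
        have := hlt x hx; omega], hm'⟩

theorem dfs_sound {rel : List (ℕ × ℕ)} (hrel : ∀ r ∈ rel, Rel f r) {chk : ℕ → Bool} :
    ∀ (n m : ℕ), Agrees f m → dfs rel chk n m = true →
      ∃ m', (∀ x, x < 28 → get m' x = f x) ∧ chk m' = true
  | 0, m, _, h => by simp [dfs] at h
  | n + 1, m, hm, h => by
    rw [dfs] at h
    split at h
    · rename_i hnone
      refine ⟨m, fun x hx => hm x hx fun e => ?_, h⟩
      have := List.find?_eq_none.1 hnone x (List.mem_range.2 hx)
      simp [e] at this
    · rename_i x hsome
      have hx : x < 28 := List.mem_range.1 (List.mem_of_find?_eq_some hsome)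
      rw [List.all_eq_true] at h
      have h' := h (f x) (List.mem_range.2 (hlt x hx))
      obtain ⟨m', e, hm'⟩ := close_sound hlt hinv hrel 400 [(x, f x)] m hm
        (by intro p hp; simp only [List.mem_singleton] at hp; subst hp; exact ⟨hx, rfl⟩)
      rw [e] at h'
      exact dfs_sound hrel n m' hm' h'

theorem fixN_eq {t u : ℕ} (h : Rel f (t, u)) : fixN t = fixN u := by
  simp only [fixN, List.countP_eq_length_filter]
  rw [← List.toFinset_card_of_nodup (List.nodup_range.filter _),
    ← List.toFinset_card_of_nodup (List.nodup_range.filter _)]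
  refine Finset.card_bij' (fun x _ => f x) (fun x _ => f x) ?_ ?_ ?_ ?_
  all_goals intro x hx
  all_goals simp only [List.toFinset_filter, Finset.mem_filter, List.mem_toFinset, List.mem_range,
    beq_iff_eq] at hx
  · simp only [List.toFinset_filter, Finset.mem_filter, List.mem_toFinset, List.mem_range, beq_iff_eq]
    exact ⟨hlt x hx.1, by rw [← (h x hx.1).2, hx.2]⟩
  · simp only [List.toFinset_filter, Finset.mem_filter, List.mem_toFinset, List.mem_range, beq_iff_eq]
    refine ⟨hlt x hx.1, ?_⟩
    have h1 := (h (f x) (hlt x hx.1))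
    rw [hinv x hx.1, hx.2] at h1
    calc get t (f x) = f (f (get t (f x))) := (hinv _ h1.1).symm
      _ = f x := by rw [h1.2]
  · exact hinv x hx.1
  · exact hinv x hx.1

theorem fixP_eq {s u t v : ℕ} (h : Rel f (s, u)) (h' : Rel f (t, v)) : fixP s t = fixP u v := by
  simp only [fixP, List.countP_eq_length_filter]
  rw [← List.toFinset_card_of_nodup (List.nodup_range.filter _),
    ← List.toFinset_card_of_nodup (List.nodup_range.filter _)]
  refine Finset.card_bij' (fun x _ => f x) (fun x _ => f x) ?_ ?_ ?_ ?_
  all_goals intro x hx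
  all_goals simp only [List.toFinset_filter, Finset.mem_filter, List.mem_toFinset, List.mem_range,
    beq_iff_eq] at hx
  · simp only [List.toFinset_filter, Finset.mem_filter, List.mem_toFinset, List.mem_range, beq_iff_eq]
    refine ⟨hlt x hx.1, ?_⟩
    obtain ⟨a, b⟩ := h' x hx.1
    rw [← b, ← (h _ a).2, hx.2]
  · simp only [List.toFinset_filter, Finset.mem_filter, List.mem_toFinset, List.mem_range, beq_iff_eq]
    refine ⟨hlt x hx.1, ?_⟩
    obtain ⟨a, b⟩ := h' (f x) (hlt x hx.1)
    obtain ⟨c, d⟩ := h _ a
    rw [b, hinv x hx.1, hx.2] at d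
    calc get s (get t (f x)) = f (f (get s (get t (f x)))) := (hinv _ c).symm
      _ = f x := by rw [d]
  · exact hinv x hx.1
  · exact hinv x hx.1

theorem tuples_sound {T : List ℕ} : ∀ gens : List ℕ, (∀ t ∈ gens, ∃ u ∈ T, Rel f (t, u)) →
    ∃ rel ∈ tuples T gens, ∀ r ∈ rel, Rel f r
  | [], _ => ⟨[], by simp [tuples], by simp⟩
  | t :: ts, h => by
    obtain ⟨u, hu, hr⟩ := h t (by simp)
    obtain ⟨rel, hmem, hrel⟩ := tuples_sound ts fun a ha => h a (List.mem_cons_of_mem _ ha)
    refine ⟨(t, u) :: rel, ?_, ?_⟩
    · simp only [tuples, List.mem_flatMap, List.mem_map, List.mem_filter, Bool.and_eq_true,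
        beq_iff_eq, List.all_eq_true]
      exact ⟨rel, hmem, u, ⟨hu, ⟨fixN_eq hlt hinv hr, fixP_eq hlt hinv hr hr⟩,
        fun r hr' => fixP_eq hlt hinv hr (hrel r hr')⟩, rfl⟩
    · intro r hr'
      rcases List.mem_cons.1 hr' with rfl | hr'
      · exact hr
      · exact hrel r hr'

theorem run_sound {T gens : List ℕ} {mul : ℕ → ℕ → ℕ} {inv : ℕ → ℕ} {good : List ℕ}
    (hmul : ∀ u x, u < 27 → x < 27 → mul u x < 27) (hi : ∀ u, u < 27 → inv u < 27)
    (h0 : f 0 = 27)
    (hgens : ∀ t ∈ gens, ∃ u ∈ T, Rel f (t, u))
    (hB : ∀ u, 1 ≤ u → u < 27 →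
      f (sh mul (inv (f u)) (f (sh mul u (f 27)))) = 27 ∧
      ∃ t ∈ T, ∀ x, x < 27 → get t x =
        sh mul (inv (f (sh mul (inv (f u)) (f (sh mul u (f 0))))))
          (f (sh mul (inv (f u)) (f (sh mul u (f x))))))
    (hr : run T gens mul inv good = true) :
    ∃ W ∈ good, ∀ x, x < 28 → get W x = f x := by
  obtain ⟨rel, hmem, hrel⟩ := tuples_sound hlt hinv gens hgens
  rw [run, List.all_eq_true] at hr
  have h1 := hr rel hmem
  obtain ⟨m0, e, hm0⟩ := close_sound hlt hinv hrel 400 [(0, 27)] blank
    (fun x hx hne => absurd (get_blank hx) hne)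
    (by intro p hp; simp only [List.mem_singleton] at hp; subst hp; exact ⟨by norm_num, h0⟩)
  rw [e] at h1
  obtain ⟨m, hm, hc⟩ := dfs_sound hlt hinv hrel 28 m0 hm0 h1
  simp only [check, Bool.or_eq_true, List.any_eq_true, List.all_eq_true, beq_iff_eq,
    List.mem_range] at hc
  rcases hc with ⟨W, hW, hWm⟩ | ⟨u, hu, hbad⟩
  · exact ⟨W, hW, fun x hx => (hWm x hx).trans (hm x hx)⟩
  · exfalso
    rw [List.mem_range'_1] at hu
    obtain ⟨hinf, t, ht, htx⟩ := hB u hu.1 (by omega)
    have hsh : ∀ a, a < 27 → ∀ b, b < 28 → sh mul a b < 28 := by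
      intro a ha b hb
      simp only [sh, beq_iff_eq]
      split
      · norm_num
      · exact lt_trans (hmul a b ha (by omega)) (by norm_num)
    have hfu : f u < 27 := by
      rcases Nat.lt_or_ge (f u) 27 with h | h
      · exact h
      · exfalso
        have he : f u = 27 := le_antisymm (Nat.le_of_lt_succ (hlt u (by omega))) h
        have := hinv u (by omega)
        rw [he] at this
        have h27 := hinv 0 (by norm_num)
        rw [h0] at h27
        omega
    have hg : ∀ x, x < 28 → gmap mul inv m u x = f (sh mul (inv (f u)) (f (sh mul u (f x)))) := by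
      intro x hx
      simp only [gmap]
      rw [hm u (by omega), hm x hx, hm _ (hsh u (by omega) _ (hlt x hx)),
        hm _ (hsh _ (hi _ hfu) _ (hlt _ (hsh u (by omega) _ (hlt x hx))))]
    simp only [badAt, Bool.or_eq_true, Bool.not_eq_true', beq_eq_false_iff_ne, ne_eq,
      List.any_eq_false, List.all_eq_true, List.mem_range, beq_iff_eq] at hbad
    rcases hbad with h | h
    · exact h (by rw [hg 27 (by norm_num)]; exact hinf)
    · exact h t ht fun x hx => by rw [hg 0 (by norm_num), hg x (by omega)]; exact htx x hx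

end CfsgLib.Recog.G2TwoSpec.Search
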