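import Cfsg.Agent.Lib.Recog.G2TwoSpec.Basic
import Cfsg.Prelude.Def_BaumannBlocks

/-!
# Sylow 3-subgroups of groups of order 12096 without elements of order 9, 14 and 21
-/

set_option autoImplicit false
set_option linter.unusedSectionVars false
set_option linter.style.haveILetI false

open Subgroup
open scoped Pointwise

namespace CfsgLib.Recog.G2TwoSpec

/-! ## Counting fixed points -/

theorem fix_count {G : Type*} [Group G] [Finite G] {Ω : Type*} [MulAction G Ω]
    [MulAction.IsPretransitive G Ω] (ω : Ω) (x : G) :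
    Nat.card ↥(MulAction.fixedBy Ω x) * Nat.card ↥(MulAction.stabilizer G ω) =
      Nat.card ↥(centralizer ({x} : Set G)) *
        Nat.card ↥({y | y ∈ MulAction.stabilizer G ω ∧ IsConj x y} : Set G) := by
  classical
  set H := MulAction.stabilizer G ω
  choose σ hσ using fun η : Ω => MulAction.exists_smul_eq G ω η
  choose τ hτ using fun y : ↥({y | y ∈ H ∧ IsConj x y} : Set G) => isConj_iff.1 y.2.2
  let Y := {g : G // g⁻¹ * x * g ∈ H}
  have hY : ∀ g : G, g⁻¹ * x * g ∈ H ↔ g • ω ∈ MulAction.fixedBy Ω x := by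
    intro g
    rw [MulAction.mem_stabilizer_iff, MulAction.mem_fixedBy, mul_smul, mul_smul, inv_smul_eq_iff]
  let e1 : Y ≃ ↥(MulAction.fixedBy Ω x) × ↥H :=
    { toFun := fun g => (⟨g.1 • ω, (hY g.1).1 g.2⟩, ⟨(σ (g.1 • ω))⁻¹ * g.1, by
        rw [MulAction.mem_stabilizer_iff, mul_smul, inv_smul_eq_iff, hσ]⟩)
      invFun := fun p => ⟨σ p.1.1 * p.2.1, (hY _).2 (by
        rw [mul_smul, show p.2.1 • ω = ω from p.2.2, hσ]; exact p.1.2)⟩
      left_inv := fun g => Subtype.ext (by simp)
      right_inv := fun p => by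
        have e : (σ p.1.1 * p.2.1) • ω = p.1.1 := by
          rw [mul_smul, show p.2.1 • ω = ω from p.2.2, hσ]
        refine Prod.ext (Subtype.ext e) (Subtype.ext ?_)
        show (σ ((σ p.1.1 * p.2.1) • ω))⁻¹ * (σ p.1.1 * p.2.1) = p.2.1
        rw [e, inv_mul_cancel_left] }
  let e2 : Y ≃ ↥(centralizer ({x} : Set G)) × ↥({y | y ∈ H ∧ IsConj x y} : Set G) :=
    { toFun := fun g =>
        let y : ↥({y | y ∈ H ∧ IsConj x y} : Set G) :=
          ⟨g.1⁻¹ * x * g.1, g.2, isConj_iff.2 ⟨g.1⁻¹, by rw [inv_inv]⟩⟩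
        (⟨g.1 * τ y, by
          rw [mem_centralizer_singleton_iff]
          have h1 : τ y * x = g.1⁻¹ * x * g.1 * τ y := by
            rw [← mul_inv_eq_iff_eq_mul]; exact hτ y
          rw [mul_assoc, h1]; group⟩, y)
      invFun := fun p => ⟨p.1.1 * (τ p.2)⁻¹, by
        have hc : p.1.1⁻¹ * x * p.1.1 = x := by
          rw [mul_assoc, ← mem_centralizer_singleton_iff.1 p.1.2, inv_mul_cancel_left]
        have : (p.1.1 * (τ p.2)⁻¹)⁻¹ * x * (p.1.1 * (τ p.2)⁻¹) = p.2.1 := by
          rw [show (p.1.1 * (τ p.2)⁻¹)⁻¹ * x * (p.1.1 * (τ p.2)⁻¹) =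
            τ p.2 * (p.1.1⁻¹ * x * p.1.1) * (τ p.2)⁻¹ by group, hc, hτ]
        rw [this]; exact p.2.2.1⟩
      left_inv := fun g => Subtype.ext (by simp)
      right_inv := fun p => by
        have hc : p.1.1⁻¹ * x * p.1.1 = x := by
          rw [mul_assoc, ← mem_centralizer_singleton_iff.1 p.1.2, inv_mul_cancel_left]
        have e : (p.1.1 * (τ p.2)⁻¹)⁻¹ * x * (p.1.1 * (τ p.2)⁻¹) = p.2.1 := by
          rw [show (p.1.1 * (τ p.2)⁻¹)⁻¹ * x * (p.1.1 * (τ p.2)⁻¹) =
            τ p.2 * (p.1.1⁻¹ * x * p.1.1) * (τ p.2)⁻¹ by group, hc, hτ]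
        refine Prod.ext (Subtype.ext ?_) (Subtype.ext e)
        show p.1.1 * (τ p.2)⁻¹ * τ ⟨_, _⟩ = p.1.1
        rw [show (⟨_, _⟩ : ↥({y | y ∈ H ∧ IsConj x y} : Set G)) = p.2 from Subtype.ext e,
          inv_mul_cancel_right] }
  rw [← Nat.card_prod, ← Nat.card_prod]
  exact Nat.card_congr (e1.symm.trans e2)

variable {G : Type*} [Group G] [Finite G]

theorem card_S (h : Hyp G) (S : Sylow 3 G) : Nat.card (S : Subgroup G) = 27 := by
  haveI : Fact (Nat.Prime 3) := ⟨Nat.prime_three⟩
  have h27 : 27 ∣ Nat.card (S : Subgroup G) := by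
    refine Nat.Coprime.dvd_of_dvd_mul_left (k := 27) (show Nat.Coprime (3 ^ 3) _ from Nat.Coprime.pow_left 3
      ((Nat.Prime.coprime_iff_not_dvd Nat.prime_three).2 S.not_dvd_index)) ?_
    rw [mul_comm, (S : Subgroup G).card_mul_index, h.card]; norm_num
  have := card_three_group h S.2
  simp only [List.mem_cons, List.not_mem_nil, or_false] at this
  rcases this with e | e | e | e <;> omega

theorem cube (h : Hyp G) (S : Sylow 3 G) {x : G} (hx : x ∈ (S : Subgroup G)) : x ^ 3 = 1 :=
  three_elem h S.2 hx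

theorem comm_central (h : Hyp G) (S : Sylow 3 G) {a b c : G} (ha : a ∈ (S : Subgroup G))
    (hb : b ∈ (S : Subgroup G)) (hc : c ∈ (S : Subgroup G)) :
    Commute (a * b * a⁻¹ * b⁻¹) c := by
  haveI : Fact (Nat.Prime 3) := ⟨Nat.prime_three⟩
  set R := ↥(S : Subgroup G)
  haveI : Nontrivial R := (Finite.one_lt_card_iff_nontrivial).1 (by rw [card_S h S]; norm_num)
  have hZ := S.2.center_nontrivial
  have h1 : 1 < Nat.card ↥(center R) := (Finite.one_lt_card_iff_nontrivial).2 hZ
  have hmul := (center R).card_mul_index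
  rw [card_S h S] at hmul
  have hd : Nat.card ↥(center R) ∈ Nat.divisors 27 :=
    Nat.mem_divisors.2 ⟨⟨_, hmul.symm⟩, by norm_num⟩
  have key : ∀ d ∈ Nat.divisors 27, 1 < d → d = 3 ∨ d = 9 ∨ d = 27 := by decide
  have hcomm : ∀ p q : R ⧸ center R, p * q = q * p := by
    rcases key _ hd h1 with e | e | e <;> rw [e] at hmul
    · exact IsPGroup.commutative_of_card_eq_prime_sq (p := 3) (by rw [← index_eq_card]; omega)
    · haveI : IsCyclic (R ⧸ center R) := isCyclic_of_prime_card (p := 3) (by rw [← index_eq_card]; omega)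
      intro p q
      exact IsMulCommutative.is_comm.comm p q
    · haveI : Subsingleton (R ⧸ center R) := (Nat.card_eq_one_iff_unique.1 (by rw [← index_eq_card]; omega)).1
      exact fun p q => Subsingleton.elim _ _
  have hmem : (⟨a, ha⟩ * ⟨b, hb⟩ * (⟨a, ha⟩ : R)⁻¹ * (⟨b, hb⟩ : R)⁻¹) ∈ center R := by
    rw [← QuotientGroup.eq_one_iff, QuotientGroup.mk_mul, QuotientGroup.mk_mul, QuotientGroup.mk_mul,
      hcomm (QuotientGroup.mk _) (QuotientGroup.mk _)]
    simp
  exact (congrArg Subtype.val (mem_center_iff.1 hmem ⟨c, hc⟩)).symm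

theorem card_normalizer_mul (h : Hyp G) (S : Sylow 3 G) :
    Nat.card ↥(normalizer ((S : Subgroup G) : Set G)) * Nat.card (Sylow 3 G) = 12096 := by
  haveI : Fact (Nat.Prime 3) := ⟨Nat.prime_three⟩
  rw [sylow_index S, card_mul_index, h.card]

theorem pResidual_normalizer (h : Hyp G) (S : Sylow 3 G) :
    Cfsg.pResidual 3 ↥(normalizer ((S : Subgroup G) : Set G)) = ⊤ := by
  haveI : Fact (Nat.Prime 3) := ⟨Nat.prime_three⟩
  have hw : Cfsg.IsWeaklyClosed (S : Subgroup G) (S : Subgroup G) := by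
    refine ⟨le_rfl, fun g hg => eq_of_le_of_card_ge hg ?_⟩
    rw [card_map_of_injective (MulAut.conj g).injective]
  have hengel : ∀ u ∈ (S : Subgroup G), ∀ z ∈ (S : Subgroup G),
      (CfsgLib.Transfer.engel z)^[3 - 1] u = 1 := by
    intro u hu z hz
    show (CfsgLib.Transfer.engel z) ((CfsgLib.Transfer.engel z) u) = 1
    set c := (CfsgLib.Transfer.engel z) u
    have hc : Commute c z := by
      have := comm_central h S (inv_mem hu) (inv_mem hz) hz
      simpa [c, CfsgLib.Transfer.engel, mul_assoc] using this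
    show c⁻¹ * z⁻¹ * c * z = 1
    rw [mul_assoc, mul_assoc, hc.eq]; group
  have e := CfsgLib.Transfer.pResidualOf_normalizer_eq S (S : Subgroup G) hw hengel
  rw [pResidual_three h, top_inf_eq] at e
  apply map_injective (normalizer ((S : Subgroup G) : Set G)).subtype_injective
  rw [show (Cfsg.pResidual 3 ↥(normalizer ((S : Subgroup G) : Set G))).map
    (normalizer ((S : Subgroup G) : Set G)).subtype = _ from e, ← MonoidHom.range_eq_map, range_subtype]

theorem card_sylow_three (h : Hyp G) :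
    Nat.card (Sylow 3 G) = 28 ∨ Nat.card (Sylow 3 G) = 112 := by
  haveI : Fact (Nat.Prime 3) := ⟨Nat.prime_three⟩
  haveI : Fact (Nat.Prime 7) := ⟨by norm_num⟩
  obtain ⟨S⟩ := (inferInstance : Nonempty (Sylow 3 G))
  have hN := card_normalizer_mul h S
  have hidx : Nat.card (Sylow 3 G) ∣ 448 := by
    have h1 := (S : Subgroup G).card_mul_index
    rw [card_S h S, h.card] at h1
    have h2 : (S : Subgroup G).index = 448 := by omega
    exact h2 ▸ S.card_dvd_index
  have h7 : 7 ∣ Nat.card (Sylow 3 G) := by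
    by_contra h7
    obtain ⟨u, hu⟩ := exists_seven h
    have hP : IsPGroup 7 ↥(zpowers u) := IsPGroup.of_card (n := 1) (by rw [Nat.card_zpowers, hu, pow_one])
    obtain ⟨Q, hQ⟩ := hP.nonempty_fixed_point_of_prime_not_dvd_card (Sylow 3 G) h7
    have := three_normalised h hu Q.2 (Sylow.smul_eq_iff_mem_normalizer.1 (hQ ⟨u, mem_zpowers u⟩))
    rw [card_S h Q] at this; norm_num at this
  have key : ∀ d ∈ Nat.divisors 448, 7 ∣ d → d % 3 = 1 → d = 7 ∨ d = 28 ∨ d = 112 ∨ d = 448 := by
    decide +kernel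
  rcases key _ (Nat.mem_divisors.2 ⟨hidx, by norm_num⟩) h7 (card_sylow_modEq_one 3 G) with e | e | e | e
  · exact absurd ((sylow_index S).symm.trans e) (index_ne h _ (by omega))
  · exact Or.inl e
  · exact Or.inr e
  · exfalso
    rw [e] at hN
    have h27 : Nat.card ↥(normalizer ((S : Subgroup G) : Set G)) = 27 := by omega
    have hr := pResidual_normalizer h S
    have hbot : Cfsg.pResidual 3 ↥(normalizer ((S : Subgroup G) : Set G)) = ⊥ := by
      refine (eq_bot_iff).2 ((closure_le _).2 fun g hg => ?_)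
      have hd := orderOf_dvd_natCard g
      rw [h27, show (27 : ℕ) = 3 ^ 3 by norm_num] at hd
      have hone := Nat.eq_one_of_dvd_coprimes (Nat.Coprime.pow_right 3 (hg : Nat.Coprime (orderOf g) 3)) dvd_rfl hd
      exact orderOf_eq_one_iff.1 hone
    rw [hbot] at hr
    have := congrArg (fun H : Subgroup ↥(normalizer ((S : Subgroup G) : Set G)) => Nat.card H) hr
    simp only [card_bot, card_top, h27] at this
    norm_num at this

/-- The order of a complement of a Sylow 3-subgroup in its normaliser. -/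
noncomputable def compOrder (G : Type*) [Group G] : ℕ := 448 / Nat.card (Sylow 3 G)

theorem card_normalizer (h : Hyp G) (S : Sylow 3 G) :
    Nat.card ↥(normalizer ((S : Subgroup G) : Set G)) = 27 * compOrder G := by
  have := card_normalizer_mul h S
  rcases card_sylow_three h with e | e <;> rw [e] at this <;> rw [compOrder, e] <;> omega

theorem mem_of_normalizer (h : Hyp G) (S : Sylow 3 G) {y : G}
    (hy : y ∈ normalizer ((S : Subgroup G) : Set G)) (h3 : y ^ 3 = 1) : y ∈ (S : Subgroup G) := by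
  haveI : Fact (Nat.Prime 3) := ⟨Nat.prime_three⟩
  set N := normalizer ((S : Subgroup G) : Set G)
  have hle : (S : Subgroup G) ≤ N := le_normalizer
  haveI : ((S : Subgroup G).subgroupOf N).Normal := normal_in_normalizer
  have hi : ((S : Subgroup G).subgroupOf N).index = compOrder G := by
    have := ((S : Subgroup G).subgroupOf N).card_mul_index
    rw [Nat.card_congr (subgroupOfEquivOfLe hle).toEquiv, card_S h S, card_normalizer h S] at this
    omega
  have h1 : ((⟨y, hy⟩ : N) : N ⧸ (S : Subgroup G).subgroupOf N) = 1 := by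
    rw [← orderOf_eq_one_iff]
    refine Nat.eq_one_of_dvd_coprimes (a := 3) (b := compOrder G) ?_ ?_ ?_
    · rcases card_sylow_three h with e | e <;> rw [compOrder, e] <;> norm_num
    · refine orderOf_dvd_of_pow_eq_one ?_
      rw [← QuotientGroup.mk_pow, QuotientGroup.eq_one_iff, mem_subgroupOf]
      show y ^ 3 ∈ _
      rw [h3]; exact one_mem _
    · rw [← hi, index_eq_card]; exact orderOf_dvd_natCard _
  rw [QuotientGroup.eq_one_iff, mem_subgroupOf] at h1
  exact h1

theorem no_central_quot (h : Hyp G) (S : Sylow 3 G) (A : Subgroup G) (hA : A ≤ (S : Subgroup G))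
    (hAn : normalizer ((S : Subgroup G) : Set G) ≤ normalizer (A : Set G))
    (hab : ∀ a ∈ (S : Subgroup G), ∀ b ∈ (S : Subgroup G), a * b * a⁻¹ * b⁻¹ ∈ A)
    {x : G} (hx : x ∈ (S : Subgroup G))
    (hfix : ∀ n ∈ normalizer ((S : Subgroup G) : Set G), n * x * n⁻¹ * x⁻¹ ∈ A) : x ∈ A := by
  haveI : Fact (Nat.Prime 3) := ⟨Nat.prime_three⟩
  set N := normalizer ((S : Subgroup G) : Set G)
  have hAN : A ≤ N := hA.trans le_normalizer
  haveI : (A.subgroupOf N).Normal := (normal_subgroupOf_iff_le_normalizer hAN).2 hAn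
  let q := QuotientGroup.mk' (A.subgroupOf N)
  let Sb := ((S : Subgroup G).subgroupOf N).map q
  letI : CommGroup ↥Sb :=
    { (inferInstance : Group ↥Sb) with
      mul_comm := by
        rintro ⟨_, a, ha, rfl⟩ ⟨_, b, hb, rfl⟩
        apply Subtype.ext
        show q a * q b = q b * q a
        rw [← map_mul, ← map_mul]
        refine QuotientGroup.eq.2 ?_
        rw [mem_subgroupOf]
        have := hab b.1⁻¹ (inv_mem hb) a.1⁻¹ (inv_mem ha)
        simpa [mul_assoc] using this }
  let tr : N ⧸ A.subgroupOf N →* ↥Sb := MonoidHom.transfer (MonoidHom.id ↥Sb)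
  have htriv : ∀ n : N, tr (q n) = 1 := by
    intro n
    have hn : n ∈ Cfsg.pResidual 3 ↥N := by rw [pResidual_normalizer h S]; exact mem_top _
    unfold Cfsg.pResidual at hn
    induction hn using closure_induction with
    | mem g hg =>
      rw [← orderOf_eq_one_iff]
      refine Nat.eq_one_of_dvd_coprimes hg ((orderOf_map_dvd _ _).trans (orderOf_map_dvd _ _)) ?_
      refine orderOf_dvd_of_pow_eq_one ?_
      obtain ⟨a, ha, e⟩ := (tr (q g)).2
      apply Subtype.ext
      rw [SubgroupClass.coe_pow, ← e, ← map_pow, show a ^ 3 = 1 from Subtype.ext (cube h S ha), map_one]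
      rfl
    | one => rw [map_one, map_one]
    | mul a b _ _ ha hb => rw [map_mul, map_mul, ha, hb, mul_one]
    | inv a _ ha => rw [map_inv, map_inv, ha, inv_one]
  set xN : N := ⟨x, le_normalizer hx⟩
  have hcen : ∀ p : N ⧸ A.subgroupOf N, p * q xN * p⁻¹ = q xN := by
    intro p
    obtain ⟨n, rfl⟩ := QuotientGroup.mk'_surjective _ p
    rw [← map_inv, ← map_mul, ← map_mul, ← div_eq_one, ← map_div]
    refine (QuotientGroup.eq_one_iff _).2 ?_
    rw [mem_subgroupOf, div_eq_mul_inv]
    exact hfix n.1 n.2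
  have hkey : ∀ (k : ℕ) (g₀ : N ⧸ A.subgroupOf N), g₀⁻¹ * q xN ^ k * g₀ ∈ Sb →
      g₀⁻¹ * q xN ^ k * g₀ = q xN ^ k := by
    intro k g₀ _
    have := hcen g₀⁻¹
    rw [inv_inv] at this
    conv_rhs => rw [← this]
    have e := conj_pow (i := k) (a := g₀⁻¹) (b := q xN)
    rw [inv_inv] at e
    exact e.symm
  have ht := MonoidHom.transfer_eq_pow (ϕ := MonoidHom.id ↥Sb) (q xN) hkey
  rw [show MonoidHom.transfer (MonoidHom.id ↥Sb) (q xN) = tr (q xN) from rfl, htriv] at ht
  have hpow : q xN ^ Sb.index = 1 := by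
    have := congrArg Subtype.val ht
    simpa using this.symm
  have hcard : Sb.index = compOrder G := by
    have h1 : (Sb.comap q) = (S : Subgroup G).subgroupOf N := by
      rw [comap_map_eq_self]
      intro a ha
      rw [QuotientGroup.ker_mk', mem_subgroupOf] at ha
      exact hA ha
    have h2 : (Sb.comap q).index = Sb.index := Sb.index_comap_of_surjective (QuotientGroup.mk'_surjective _)
    have h3 := ((S : Subgroup G).subgroupOf N).card_mul_index
    rw [Nat.card_congr (subgroupOfEquivOfLe le_normalizer).toEquiv, card_S h S, card_normalizer h S] at h3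
    rw [← h2, h1]; omega
  have h1 : q xN = 1 := by
    rw [← orderOf_eq_one_iff]
    refine Nat.eq_one_of_dvd_coprimes (a := 3) (b := compOrder G) ?_ ?_ (hcard ▸ orderOf_dvd_of_pow_eq_one hpow)
    · rcases card_sylow_three h with e | e <;> rw [compOrder, e] <;> norm_num
    · refine orderOf_dvd_of_pow_eq_one ?_
      rw [← map_pow, show xN ^ 3 = 1 from Subtype.ext (cube h S hx), map_one]
  exact (QuotientGroup.eq_one_iff _).1 h1 |> mem_subgroupOf.1

theorem exists_complement (h : Hyp G) (S : Sylow 3 G) :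
    ∃ T : Subgroup G, T ≤ normalizer ((S : Subgroup G) : Set G) ∧ Nat.card T = compOrder G ∧
      IsPGroup 2 T ∧ (∀ n ∈ normalizer ((S : Subgroup G) : Set G),
        ∃ s ∈ (S : Subgroup G), ∃ t ∈ T, n = s * t) ∧ (S : Subgroup G) ⊓ T = ⊥ := by
  haveI : Fact (Nat.Prime 2) := ⟨Nat.prime_two⟩
  set N := normalizer ((S : Subgroup G) : Set G)
  obtain ⟨T⟩ := (inferInstance : Nonempty (Sylow 2 ↥N))
  have hc : ∀ m, compOrder G = m → (m = 16 ∨ m = 4) := by
    rintro m rfl
    rcases card_sylow_three h with e | e <;> rw [compOrder, e] <;> norm_num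
  have hT : Nat.card (T : Subgroup ↥N) = compOrder G := by
    rw [T.card_eq_multiplicity, card_normalizer h S]
    have hv : ∀ a : ℕ, (27 * 2 ^ a).factorization 2 = a := fun a => by
      rw [Nat.factorization_mul (by norm_num) (by positivity), Finsupp.add_apply,
        Nat.factorization_eq_zero_of_not_dvd (by norm_num), zero_add,
        Nat.Prime.factorization_pow Nat.prime_two, Finsupp.single_eq_same]
    rcases hc _ rfl with e | e <;> rw [e]
    · rw [show (27 : ℕ) * 16 = 27 * 2 ^ 4 by norm_num, hv]; norm_num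
    · rw [show (27 : ℕ) * 4 = 27 * 2 ^ 2 by norm_num, hv]; norm_num
  have hcT : Nat.card ↥((T : Subgroup ↥N).map N.subtype) = compOrder G := by
    rw [card_map_of_injective N.subtype_injective, hT]
  haveI : ((S : Subgroup G).subgroupOf N).Normal := normal_in_normalizer
  have hcop : Nat.Coprime (Nat.card ↥((S : Subgroup G).subgroupOf N)) (Nat.card (T : Subgroup ↥N)) := by
    rw [Nat.card_congr (subgroupOfEquivOfLe le_normalizer).toEquiv, card_S h S, hT]
    rcases hc _ rfl with e | e <;> rw [e] <;> norm_num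
  have hcompl : IsComplement' ((S : Subgroup G).subgroupOf N) (T : Subgroup ↥N) :=
    isComplement'_of_coprime (by
      rw [Nat.card_congr (subgroupOfEquivOfLe le_normalizer).toEquiv, card_S h S, hT, card_normalizer h S]) hcop
  refine ⟨(T : Subgroup ↥N).map N.subtype, map_subtype_le _, hcT, T.2.map _, ?_, ?_⟩
  · intro n hn
    obtain ⟨⟨a, b⟩, e, -⟩ := hcompl.existsUnique (⟨n, hn⟩ : N)
    exact ⟨a.1.1, a.2, b.1.1, ⟨b.1, b.2, rfl⟩, (congrArg Subtype.val e).symm⟩
  · refine eq_bot_iff.2 ?_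
    rintro x ⟨hx, ⟨t, ht, rfl⟩⟩
    rw [mem_bot]
    exact congrArg Subtype.val (disjoint_def.1 hcompl.disjoint (x := t) hx ht)

end CfsgLib.Recog.G2TwoSpec
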