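import Cfsg.Agent.Lib.Recog.G2TwoSpec.Sylow

/-!
# Small tools about Sylow 3-subgroups
-/

set_option autoImplicit false
set_option linter.unusedSectionVars false
set_option linter.style.haveILetI false

open Subgroup
open scoped Pointwise

namespace CfsgLib.Recog.G2TwoSpec

variable {G : Type*} [Group G] [Finite G]

theorem mem_smul_iff (g : G) (S : Sylow 3 G) (x : G) :
    x ∈ ((g • S : Sylow 3 G) : Subgroup G) ↔ g⁻¹ * x * g ∈ (S : Subgroup G) := by
  exact conj_mem_sylow g S x

theorem fixed_iff (h : Hyp G) (Q : Sylow 3 G) {x : G} (hx : x ^ 3 = 1) :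
    x • Q = Q ↔ x ∈ (Q : Subgroup G) := by
  rw [Sylow.smul_eq_iff_mem_normalizer]
  exact ⟨fun hn => mem_of_normalizer h Q hn hx, fun hq => le_normalizer hq⟩

/-- The Sylow 3-subgroups containing an element. -/
noncomputable def fixCard (x : G) : ℕ := Nat.card {Q : Sylow 3 G // x ∈ (Q : Subgroup G)}

theorem fixCard_eq (h : Hyp G) {x : G} (hx : x ^ 3 = 1) :
    fixCard x = Nat.card ↥(MulAction.fixedBy (Sylow 3 G) x) :=
  Nat.card_congr (Equiv.subtypeEquivRight fun Q => (fixed_iff h Q hx).symm)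

theorem fixCard_mod (h : Hyp G) {x : G} (hx : x ^ 3 = 1) : fixCard x % 3 = 1 := by
  haveI : Fact (Nat.Prime 3) := ⟨Nat.prime_three⟩
  have hP : IsPGroup 3 ↥(zpowers x) := by
    rintro ⟨y, hy⟩
    obtain ⟨k, rfl⟩ := mem_zpowers_iff.1 hy
    refine ⟨1, Subtype.ext ?_⟩
    show (x ^ k) ^ (3 ^ 1) = 1
    rw [pow_one, ← zpow_natCast, ← zpow_mul, mul_comm, zpow_mul, zpow_natCast, hx, one_zpow]
  have e : fixCard x = Nat.card ↥(MulAction.fixedPoints ↥(zpowers x) (Sylow 3 G)) := by
    rw [fixCard_eq h hx]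
    refine Nat.card_congr (Equiv.subtypeEquivRight fun Q => ?_)
    rw [MulAction.mem_fixedBy, MulAction.mem_fixedPoints]
    constructor
    · rintro hQ ⟨y, hy⟩
      exact mem_stabilizer_of_mem_zpowers hQ hy
    · exact fun hQ => hQ ⟨x, mem_zpowers x⟩
  have hmod := hP.card_modEq_card_fixedPoints (Sylow 3 G)
  rw [← e] at hmod
  have h1 := card_sylow_modEq_one 3 G
  exact (hmod.symm.trans h1)
where
  mem_stabilizer_of_mem_zpowers {x y : G} {Q : Sylow 3 G} (hQ : x • Q = Q) (hy : y ∈ zpowers x) :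
      y • Q = Q :=
    (zpowers_le (H := MulAction.stabilizer G Q)).2 hQ hy

theorem fixCard_mul (h : Hyp G) (S : Sylow 3 G) {x : G} (hx : x ^ 3 = 1) :
    fixCard x * (27 * compOrder G) = Nat.card ↥(centralizer ({x} : Set G)) *
      Nat.card ↥({y | y ∈ normalizer ((S : Subgroup G) : Set G) ∧ IsConj x y} : Set G) := by
  haveI : Fact (Nat.Prime 3) := ⟨Nat.prime_three⟩
  have := fix_count (Ω := Sylow 3 G) S x
  rw [show MulAction.stabilizer G S = normalizer ((S : Subgroup G) : Set G) from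
    Sylow.stabilizer_eq_normalizer S, card_normalizer h S] at this
  rw [fixCard_eq h hx]; exact this

theorem sylow_eq_of_le (h : Hyp G) {S Q : Sylow 3 G} (hle : (S : Subgroup G) ≤ Q) : S = Q :=
  Sylow.ext (eq_of_le_of_card_ge hle (by rw [card_S h, card_S h]))

theorem inter_card (h : Hyp G) {S Q : Sylow 3 G} (hne : Q ≠ S) :
    Nat.card ↥((S : Subgroup G) ⊓ Q : Subgroup G) ∈ ([1, 3, 9] : List ℕ) := by
  have h1 := card_three_group h (S.2.to_le (inf_le_left : (S : Subgroup G) ⊓ (Q : Subgroup G) ≤ S))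
  simp only [List.mem_cons, List.not_mem_nil, or_false] at h1 ⊢
  rcases h1 with e | e | e | e
  · exact Or.inl e
  · exact Or.inr (Or.inl e)
  · exact Or.inr (Or.inr e)
  · exact absurd (sylow_eq_of_le h ((eq_of_le_of_card_ge inf_le_left (by rw [e, card_S h S])).symm.le.trans inf_le_right)).symm hne

/-- The number of conjugates inside the Sylow count of an intermediate group. -/
theorem card_over (h : Hyp G) (S : Sylow 3 G) {K : Subgroup G} (hS : (S : Subgroup G) ≤ K) :
    ∃ c : ℕ, c % 3 = 1 ∧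
      Nat.card K = c * Nat.card ↥(normalizer ((S : Subgroup G) : Set G) ⊓ K : Subgroup G) ∧
      (c = 1 → ∀ Q : Sylow 3 G, (Q : Subgroup G) ≤ K → Q = S) := by
  haveI : Fact (Nat.Prime 3) := ⟨Nat.prime_three⟩
  let S' := S.subtype hS
  refine ⟨Nat.card (Sylow 3 ↥K), card_sylow_modEq_one 3 ↥K, ?_, ?_⟩
  · have hn : normalizer ((S' : Subgroup ↥K) : Set ↥K) =
        (normalizer ((S : Subgroup G) : Set G) ⊓ K).subgroupOf K := by
      ext y
      rw [mem_subgroupOf, mem_inf, mem_normalizer_iff, mem_normalizer_iff]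
      refine ⟨fun hy => ⟨fun z => ⟨fun hz => (hy ⟨z, hS hz⟩).1 hz, fun hz => ?_⟩, y.2⟩, fun hy z => hy.1 z⟩
      have hzK : z ∈ K := by
        have := mul_mem (mul_mem (inv_mem y.2) (hS hz)) y.2
        simpa [mul_assoc] using this
      exact (hy ⟨z, hzK⟩).2 hz
    rw [sylow_index S', hn, mul_comm,
      ← Nat.card_congr (subgroupOfEquivOfLe (inf_le_right : normalizer ((S : Subgroup G) : Set G) ⊓ K ≤ K)).toEquiv,
      card_mul_index]
  · intro h1 Q hQ
    have : Q.subtype hQ = S' := by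
      haveI := (Nat.card_eq_one_iff_unique.1 h1).1
      exact Subsingleton.elim _ _
    exact Sylow.subtype_injective this

theorem normal_nine (h : Hyp G) (D : Subgroup G) (hD : Nat.card D = 9) : normalizer (D : Set G) ≠ ⊤ := by
  intro e
  haveI : D.Normal := normalizer_eq_top_iff.1 e
  have hb : D ≠ ⊥ := fun e' => by rw [e', card_bot] at hD; norm_num at hD
  rcases normal_card_cases h D hb with e' | e' <;> omega

theorem not_seven_normalizer (h : Hyp G) (D : Subgroup G) (hD : IsPGroup 3 D) (hD1 : Nat.card D ≠ 1) :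
    ¬ 7 ∣ Nat.card ↥(normalizer (D : Set G)) := by
  intro hd
  haveI : Fact (Nat.Prime 7) := ⟨by norm_num⟩
  obtain ⟨v, hv⟩ := exists_prime_orderOf_dvd_card' (G := ↥(normalizer (D : Set G))) 7 hd
  exact hD1 (three_normalised h (by rw [Subgroup.orderOf_coe, hv]) hD v.2)

theorem centralizer_le_normalizer_zpowers (x : G) :
    centralizer ({x} : Set G) ≤ normalizer ((zpowers x : Subgroup G) : Set G) := by
  rw [← centralizer_closure, ← zpowers_eq_closure]
  exact centralizer_le_normalizer _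

theorem card_centralizer_three (h : Hyp G) {x : G} (hx : x ^ 3 = 1) (hx1 : x ≠ 1) :
    Nat.card ↥(centralizer ({x} : Set G)) ∣ 1728 := by
  haveI : Fact (Nat.Prime 7) := ⟨by norm_num⟩
  have h7 : ¬ 7 ∣ Nat.card ↥(centralizer ({x} : Set G)) := by
    intro hd
    obtain ⟨v, hv⟩ := exists_prime_orderOf_dvd_card' (G := ↥(centralizer ({x} : Set G))) 7 hd
    refine not_commute_seven h (x := x) (by rw [Subgroup.orderOf_coe, hv]) (Or.inr ?_)
      (mem_centralizer_singleton_iff.1 v.2).symm
    haveI : Fact (Nat.Prime 3) := ⟨Nat.prime_three⟩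
    exact orderOf_eq_prime hx hx1
  refine Nat.Coprime.dvd_of_dvd_mul_left (m := 7) ?_ (by
    have := card_subgroup_dvd_card (centralizer ({x} : Set G))
    rw [h.card] at this
    norm_num; exact this)
  exact ((Nat.Prime.coprime_iff_not_dvd (by norm_num : Nat.Prime 7)).2 h7).symm

theorem not_full_centralizer (h : Hyp G) {x : G} (hx : x ^ 3 = 1) (hx1 : x ≠ 1)
    (hc : 1728 ∣ Nat.card ↥(centralizer ({x} : Set G))) : False := by
  have hd := card_centralizer_three h hx hx1
  have := no_two_adic h hc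
  rw [this, card_top, h.card] at hd
  norm_num at hd

end CfsgLib.Recog.G2TwoSpec
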