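import Cfsg.Agent.Lib.Recog.G2TwoSpec.ExtraTools
import Cfsg.Agent.Lib.Recog.G2TwoSpec.AbelianManyEight

/-!
# 112 Sylow 3-subgroups: the centre of one is not weakly closed
-/

set_option autoImplicit false
set_option linter.unusedSectionVars false
set_option linter.style.haveILetI false

open Subgroup
open scoped Pointwise

namespace CfsgLib.Recog.G2TwoSpec

variable {G : Type*} [Group G] [Finite G]

theorem mk_fixed_iff (H : Subgroup G) (y g : G) :
    y • ((g : G) : G ⧸ H) = ((g : G) : G ⧸ H) ↔ g⁻¹ * y * g ∈ H := by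
  show ((y * g : G) : G ⧸ H) = ((g : G) : G ⧸ H) ↔ _
  rw [QuotientGroup.eq, show (y * g)⁻¹ * g = (g⁻¹ * y * g)⁻¹ by group, inv_mem_iff]

/-- The fixed points of an element of order three on cosets of index 28 are 1 modulo 3. -/
theorem fixed_mod (H : Subgroup G) (hH : H.index = 28) {x : G} (hx : x ^ 3 = 1) :
    Nat.card ↥(MulAction.fixedBy (G ⧸ H) x) % 3 = 1 := by
  haveI : Fact (Nat.Prime 3) := ⟨Nat.prime_three⟩
  have hP : IsPGroup 3 ↥(zpowers x) := by
    rintro ⟨y, hy⟩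
    obtain ⟨k, rfl⟩ := mem_zpowers_iff.1 hy
    refine ⟨1, Subtype.ext ?_⟩
    show (x ^ k) ^ (3 ^ 1) = 1
    rw [pow_one, ← zpow_natCast, ← zpow_mul, mul_comm, zpow_mul, zpow_natCast, hx, one_zpow]
  have e : Nat.card ↥(MulAction.fixedBy (G ⧸ H) x) =
      Nat.card ↥(MulAction.fixedPoints ↥(zpowers x) (G ⧸ H)) := by
    refine Nat.card_congr (Equiv.subtypeEquivRight fun p => ?_)
    show x • p = p ↔ ∀ y : ↥(zpowers x), y • p = p
    exact ⟨fun hp y => (zpowers_le (H := MulAction.stabilizer G p)).2 hp y.2, fun hp => hp ⟨x, mem_zpowers x⟩⟩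
  have hmod := hP.card_modEq_card_fixedPoints (G ⧸ H)
  rw [← e, ← index_eq_card, hH] at hmod
  exact hmod.symm

theorem count_key : ∀ c ∈ Nat.divisors 1728, ∀ f ∈ Finset.range 29, ∀ k ∈ Finset.range 7,
    1 ≤ k ∧ 3 ∣ k ∧ 7 ≤ f ∧ f % 3 = 1 → f * 432 ≠ c * k := by decide +kernel

/-- With 112 Sylow subgroups the centre of a non-abelian one is fused inside it. -/
theorem weak_not_112 (h : Hyp G) (h112 : Nat.card (Sylow 3 G) = 112) (S : Sylow 3 G) {z : G}
    (e : Ex S z) (hwc : WC S z) : False := by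
  classical
  haveI : Fact (Nat.Prime 3) := ⟨Nat.prime_three⟩
  have h4 := comp_112 h112
  obtain ⟨Q, hQ, hQ9⟩ := exists_nine h h112 S
  have hzQ : z ∈ (Q : Subgroup G) := (e.mem_nine h inf_le_left hQ9).2
  set H := normalizer ((zpowers z : Subgroup G) : Set G)
  have hN : normalizer ((S : Subgroup G) : Set G) ≤ H := normalizer_le_center h e
  have hSH : (S : Subgroup G) ≤ H := le_normalizer.trans hN
  have hQH : (Q : Subgroup G) ≤ H := by
    obtain ⟨g, hg⟩ := MulAction.exists_smul_eq G S Q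
    have h1 := hwc g⁻¹ (by rw [inv_inv]; exact (mem_smul_iff g S z).1 (hg ▸ hzQ))
    rw [inv_inv] at h1
    obtain ⟨j, hj⟩ := mem_zpowers_iff.1 h1
    have hz' : (g * z * g⁻¹) ^ j = z := by rw [conj_zpow, hj]; group
    refine le_trans ?_ (centralizer_le_normalizer_zpowers z)
    rw [← hg]
    intro s hs
    exact mem_centralizer_singleton_iff.2 (by rw [← hz']; exact (((e.smul g).central s hs).zpow_left j).eq.symm)
  have hH : Nat.card H = 432 := over_432 h h4 S (zpowers z) (zpowers_le.2 e.mem)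
    (by rw [e.card_zpowers h]; norm_num) hN Q hQ hQH
  have hidx : H.index = 28 := by
    have := H.card_mul_index
    rw [hH, h.card] at this; omega
  obtain ⟨D, hD9, hDS, hDn, hDR⟩ := core_nine h h4 S H hN hH
  have hDH : D ≤ H := hDS.trans hSH
  have hzD : z ∈ D := e.mem_nine h hDS hD9
  obtain ⟨x0, hx0, hx0z⟩ : ∃ x0 ∈ D, x0 ∉ zpowers z := by
    by_contra hc
    push Not at hc
    have := Nat.le_of_dvd Nat.card_pos (card_dvd_of_le (hc : D ≤ zpowers z))
    rw [hD9, e.card_zpowers h] at this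
    omega
  have hDpl : D = plane z x0 := e.plane_eq h hDS hD9 hx0 hx0z
  set a : G ⧸ H := ((1 : G) : G ⧸ H)
  have hHfix : ∀ k ∈ H, k • a = a := fun k hk => (mk_fixed_iff H k 1).2 (by simpa using hk)
  -- the centre fixes one point
  have hA : ∀ p : G ⧸ H, p ≠ a → ∀ w ∈ zpowers z, w • p = p → w = 1 := by
    intro p hpa w hw hwp
    by_contra hw1
    have hzp : z • p = p := by
      rcases e.mem_zpowers_cases h hw with h1 | h1 | h1
      · exact absurd h1 hw1
      · rwa [h1] at hwp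
      · rw [h1, inv_smul_eq_iff] at hwp; exact hwp.symm
    obtain ⟨g, rfl⟩ := QuotientGroup.mk_surjective p
    obtain ⟨k, hk, hkS⟩ := conj_into h S hSH ((mk_fixed_iff H z g).1 hzp) (by
      have := conj_pow (i := 3) (a := g⁻¹) (b := z)
      rw [inv_inv] at this
      rw [this, cube h S e.mem, mul_one, inv_mul_cancel])
    have hm : (g * k)⁻¹ * z * (g * k)⁻¹⁻¹ ∈ (S : Subgroup G) := by
      rwa [show (g * k)⁻¹ * z * (g * k)⁻¹⁻¹ = k⁻¹ * (g⁻¹ * z * g) * k by group]
    have hmH : (g * k)⁻¹ ∈ H := card_normalizer_real.mem_normalizer_of_forall fun y hy => by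
      obtain ⟨j, rfl⟩ := mem_zpowers_iff.1 hy
      rw [← conj_zpow]
      exact zpow_mem (hwc _ hm) j
    have hgH : g ∈ H := by
      have := mul_mem (inv_mem hmH) (inv_mem hk)
      rwa [inv_inv, mul_inv_cancel_right] at this
    exact hpa ((QuotientGroup.eq (s := H)).2 (by rw [mul_one]; exact inv_mem hgH))
  -- the centraliser of the plane
  set C1 := H ⊓ centralizer ({z} : Set G) with hC1
  set C := C1 ⊓ centralizer ({x0} : Set G) with hC
  have hCH : C ≤ H := inf_le_left.trans inf_le_left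
  have hCD : ∀ c ∈ C, ∀ d ∈ D, Commute c d := by
    intro c hc d hd
    have hle : plane z x0 ≤ centralizer ({c} : Set G) := sup_le
      (zpowers_le.2 (mem_centralizer_singleton_iff.2 (mem_centralizer_singleton_iff.1 hc.2).symm))
      (zpowers_le.2 (mem_centralizer_singleton_iff.2 (mem_centralizer_singleton_iff.1 hc.1.2).symm))
    exact (mem_centralizer_singleton_iff.1 (hle (hDpl ▸ hd))).symm
  have hcenC : ∀ c : G, c ∈ H → (∀ d ∈ D, Commute c d) → c ∈ C := fun c hcH hc =>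
    ⟨⟨hcH, mem_centralizer_singleton_iff.2 (hc z hzD).eq⟩, mem_centralizer_singleton_iff.2 (hc x0 hx0).eq⟩
  have hC36 : 36 ≤ Nat.card C := by
    have h1 := conj_card H z
    rw [hH, ← hC1] at h1
    have h1' : Nat.card ↥({y | ∃ n ∈ H, n * z * n⁻¹ = y} : Set G) ≤ 2 := by
      rw [Nat.card_coe_set_eq]
      refine (Set.ncard_le_ncard (?_ : _ ⊆ ({z, z⁻¹} : Set G))).trans ?_
      · rintro _ ⟨n, hn, rfl⟩
        have := (mem_normalizer_iff.1 hn z).1 (mem_zpowers z)
        rcases e.mem_zpowers_cases h this with h2 | h2 | h2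
        · exact absurd (by rwa [mul_inv_eq_one, mul_eq_left] at h2) e.ne
        · exact Or.inl h2
        · exact Or.inr (Set.mem_singleton_iff.2 h2)
      · exact (Set.ncard_insert_le _ _).trans (by rw [Set.ncard_singleton])
    have h2 := conj_card C1 x0
    rw [← hC] at h2
    have h2' : Nat.card ↥({y | ∃ n ∈ C1, n * x0 * n⁻¹ = y} : Set G) ≤ 6 := by
      rw [Nat.card_coe_set_eq]
      refine (Set.ncard_le_ncard (?_ : _ ⊆ (D : Set G) \ (zpowers z : Set G))).trans (le_of_eq ?_)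
      · rintro _ ⟨n, hn, rfl⟩
        refine ⟨(mem_normalizer_iff.1 (hDn hn.1) x0).1 hx0, fun hmem => hx0z ?_⟩
        exact ((mem_normalizer_iff.1 hn.1) x0).2 hmem
      · rw [Set.ncard_diff (fun y hy => (zpowers_le.2 hzD) hy), ← Nat.card_coe_set_eq, ← Nat.card_coe_set_eq]
        show Nat.card ↥D - Nat.card ↥(zpowers z) = 6
        rw [hD9, e.card_zpowers h]
    have h216 : 216 ≤ Nat.card ↥C1 := by
      generalize Nat.card ↥C1 = u at h1
      generalize Nat.card ↥({y | ∃ n ∈ H, n * z * n⁻¹ = y} : Set G) = v at h1 h1'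
      nlinarith
    generalize Nat.card ↥C1 = u at h2 h216
    generalize Nat.card ↥C = w at h2 ⊢
    generalize Nat.card ↥({y | ∃ n ∈ C1, n * x0 * n⁻¹ = y} : Set G) = v at h2 h2'
    nlinarith
  have hDC : D ≤ C := fun d hd => hcenC d (hDH hd) fun d' hd' => by
    have hcA : ∀ p q : ↥D, p * q = q * p := IsPGroup.commutative_of_card_eq_prime_sq (p := 3) (by rw [hD9]; norm_num)
    exact congrArg Subtype.val (hcA ⟨d, hd⟩ ⟨d', hd'⟩)
  obtain ⟨m, hm⟩ := card_dvd_of_le hDC
  rw [hD9] at hm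
  have h27 : ¬ 27 ∣ Nat.card C := by
    intro hd
    obtain ⟨R0, hR0⟩ := Sylow.exists_subgroup_card_pow_prime 3 (n := 3) (show 3 ^ 3 ∣ Nat.card C by norm_num; exact hd)
    have hR0' : IsPGroup 3 ↥(R0.map C.subtype) := (IsPGroup.of_card hR0).map C.subtype
    obtain ⟨R, hR⟩ := hR0'.exists_le_sylow
    have heq : R0.map C.subtype = (R : Subgroup G) := eq_of_le_of_card_ge hR (by
      rw [card_S h R, card_map_of_injective C.subtype_injective, hR0]; norm_num)
    have hRC : (R : Subgroup G) ≤ C := heq ▸ Subgroup.map_subtype_le R0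
    obtain ⟨k, hk, hkR⟩ := sylow_conj_in S R hSH (hRC.trans hCH)
    have ek := e.smul k
    rw [hkR] at ek
    have hx0R : x0 ∈ (R : Subgroup G) := hDR R (hRC.trans hCH) hx0
    have h1 := ek.cen x0 hx0R fun s hs => (hCD s (hRC hs) x0 hx0).symm
    have h2 : zpowers (k * z * k⁻¹) ≤ zpowers z :=
      zpowers_le.2 ((mem_normalizer_iff.1 hk z).1 (mem_zpowers z))
    exact hx0z (h2 h1)
  have hm3 : ¬ 3 ∣ m := fun h3 => h27 (hm ▸ by obtain ⟨j, rfl⟩ := h3; exact ⟨j, by ring⟩)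
  have hm_cases : m = 4 ∨ m = 8 ∨ m = 16 := by
    have hd : 9 * m ∣ 432 := hm ▸ hH ▸ card_dvd_of_le hCH
    have hm48 : m ∈ Nat.divisors 48 :=
      Nat.mem_divisors.2 ⟨Nat.dvd_of_mul_dvd_mul_left (by norm_num : 0 < 9) (by norm_num; exact hd), by norm_num⟩
    have key : ∀ d ∈ Nat.divisors 48, ¬ 3 ∣ d → 4 ≤ d → d = 4 ∨ d = 8 ∨ d = 16 := by decide
    exact key m hm48 hm3 (by omega)
  obtain ⟨R, hR, hRm⟩ : ∃ R : Subgroup G, (∀ c, c ∈ R ↔ c ∈ C ∧ c ^ m = 1) ∧ Nat.card R = m := by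
    haveI : (D.subgroupOf C).Normal := ⟨fun d hd c => by
      rw [mem_subgroupOf] at hd ⊢
      show c.1 * d.1 * c.1⁻¹ ∈ D
      rw [(hCD c.1 c.2 d.1 hd).eq, mul_inv_cancel_right]; exact hd⟩
    have hDc : Nat.card ↥(D.subgroupOf C) = 9 := by
      rw [Nat.card_congr (subgroupOfEquivOfLe hDC).toEquiv, hD9]
    have hindex : (D.subgroupOf C).index = m := by
      have := (D.subgroupOf C).card_mul_index
      rw [hDc, hm] at this; omega
    obtain ⟨K, hK⟩ := exists_right_complement'_of_coprime (N := D.subgroupOf C) (by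
      rw [hDc, hindex]
      rcases hm_cases with e' | e' | e' <;> rw [e'] <;> norm_num)
    have hKm : Nat.card K = m := by
      have := hK.card_mul
      rw [hDc, hm] at this; omega
    refine ⟨K.map C.subtype, fun c => ⟨?_, ?_⟩, by rw [card_map_of_injective C.subtype_injective, hKm]⟩
    · rintro ⟨k, hk, rfl⟩
      refine ⟨k.2, ?_⟩
      have h1 : (⟨k, hk⟩ : ↥K) ^ Nat.card ↥K = 1 := pow_card_eq_one'
      rw [hKm] at h1
      exact congrArg (fun w : ↥K => ((w : ↥C) : G)) h1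
    · rintro ⟨hcC, hcm⟩
      obtain ⟨⟨⟨d, hd⟩, ⟨k, hk⟩⟩, hdk⟩ := hK.2 ⟨c, hcC⟩
      have hdk' : d.1 * k.1 = c := congrArg Subtype.val hdk
      have hkm : k.1 ^ m = 1 := by
        have h1 : (⟨k, hk⟩ : ↥K) ^ Nat.card ↥K = 1 := pow_card_eq_one'
        rw [hKm] at h1
        exact congrArg (fun w : ↥K => ((w : ↥C) : G)) h1
      have hd3 : d.1 ^ 3 = 1 := cube h S (hDS hd)
      have hdm : d.1 ^ m = 1 := by
        rw [← hdk', (hCD k.1 k.2 d.1 hd).symm.mul_pow, hkm, mul_one] at hcm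
        exact hcm
      have : d.1 = 1 := by
        have hg := pow_gcd_eq_one.2 (⟨hd3, hdm⟩ : d.1 ^ 3 = 1 ∧ d.1 ^ m = 1)
        rw [show Nat.gcd 3 m = 1 from (Nat.prime_three.coprime_iff_not_dvd).2 hm3, pow_one] at hg
        exact hg
      rw [this, one_mul] at hdk'
      exact ⟨k, hk, hdk'⟩
  have hRC : R ≤ C := fun r hr => ((hR r).1 hr).1
  have hRD : ∀ r ∈ R, ∀ d ∈ D, Commute r d := fun r hr => hCD r (hRC hr)
  have hRn : ∀ n ∈ H, ∀ r ∈ R, n⁻¹ * r * n ∈ R := by
    intro n hn r hr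
    obtain ⟨hrC, hrm⟩ := (hR r).1 hr
    refine (hR _).2 ⟨hcenC _ (mul_mem (mul_mem (inv_mem hn) (hCH hrC)) hn) fun d hd => ?_, ?_⟩
    · have hd' := (mem_normalizer_iff.1 (hDn hn) d).1 hd
      show n⁻¹ * r * n * d = d * (n⁻¹ * r * n)
      calc n⁻¹ * r * n * d = n⁻¹ * (r * (n * d * n⁻¹)) * n := by group
        _ = n⁻¹ * ((n * d * n⁻¹) * r) * n := by rw [(hRD r hr _ hd').eq]
        _ = d * (n⁻¹ * r * n) := by group
    · have := conj_pow (i := m) (a := n⁻¹) (b := r)
      rw [inv_inv] at this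
      rw [this, hrm, mul_one, inv_mul_cancel]
  -- the orbits of R
  let orb : G ⧸ H → Set (G ⧸ H) := fun b => {p | ∃ r ∈ R, r • b = p}
  have horb_self : ∀ b, b ∈ orb b := fun b => ⟨1, one_mem _, one_smul G b⟩
  have hne_a : ∀ k ∈ H, ∀ b : G ⧸ H, b ≠ a → k • b ≠ a := fun k hk b hb e' => hb (by
    rw [← inv_smul_smul k b, e']; exact hHfix _ (inv_mem hk))
  let St : G ⧸ H → Subgroup G := fun b =>
    { carrier := {s | s ∈ (S : Subgroup G) ∧ s • b ∈ orb b}
      one_mem' := ⟨one_mem _, by rw [one_smul]; exact horb_self b⟩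
      mul_mem' := by
        rintro s t ⟨hs, r1, hr1, e1⟩ ⟨ht, r2, hr2, e2⟩
        refine ⟨mul_mem hs ht, (s⁻¹⁻¹ * r2 * s⁻¹) * r1, mul_mem (hRn _ (inv_mem (hSH hs)) r2 hr2) hr1, ?_⟩
        rw [mul_smul s t, ← e2, mul_smul, e1, ← mul_smul, ← mul_smul]; group
      inv_mem' := by
        rintro s ⟨hs, r, hr, e1⟩
        refine ⟨inv_mem hs, s⁻¹ * r⁻¹ * s, hRn _ (hSH hs) _ (inv_mem hr), ?_⟩
        rw [mul_smul, mul_smul, ← e1, inv_smul_smul] }
  have hswap : ∀ (b : G ⧸ H) (u r r' : G), u ∈ (S : Subgroup G) → r ∈ R → r' ∈ R → u • r • b = r' • b → u ∈ St b := by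
    intro b u r r' hu hr hr' e'
    refine ⟨hu, (u⁻¹⁻¹ * r⁻¹ * u⁻¹) * r', mul_mem (hRn _ (inv_mem (hSH hu)) _ (inv_mem hr)) hr', ?_⟩
    rw [mul_smul, ← e']
    simp only [← mul_smul]
    group
  have hStz : ∀ b, b ≠ a → z ∉ St b := by
    rintro b hb ⟨-, r, hr, e1⟩
    have hc : Commute z r := (hRD r hr z hzD).symm
    have h3 : r ^ 3 • b = b := by
      have hsw : ∀ p : G ⧸ H, r • z • p = z • r • p := fun p => by rw [← mul_smul, ← hc.eq, mul_smul]
      calc r ^ 3 • b = r • r • r • b := by rw [pow_three, mul_smul, mul_smul]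
        _ = z • z • z • b := by rw [e1, hsw, e1, hsw, hsw, e1]
        _ = b := by rw [← mul_smul, ← mul_smul, mul_assoc, ← pow_three, cube h S e.mem, one_smul]
    have hrz : zpowers (r ^ 3) ≤ MulAction.stabilizer G b := zpowers_le.2 h3
    have hr' : r ∈ zpowers (r ^ 3) := by
      obtain ⟨j, hj⟩ := exists_pow_eq_self_of_coprime (x := r) (n := 3)
        ((Nat.Coprime.coprime_dvd_right (orderOf_dvd_of_pow_eq_one ((hR r).1 hr).2)
          ((Nat.prime_three.coprime_iff_not_dvd).2 hm3)))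
      exact mem_zpowers_iff.2 ⟨j, by rw [zpow_natCast]; exact hj⟩
    have hrb : r • b = b := hrz hr'
    exact e.ne (hA b hb z (mem_zpowers z) (e1 ▸ hrb))
  have hStS : ∀ b, St b ≤ (S : Subgroup G) := fun b s hs => hs.1
  have hSt3 : ∀ b, b ≠ a → Nat.card (St b) ≤ 3 := by
    intro b hb
    have h1 := card_three_group h (S.2.to_le (hStS b))
    simp only [List.mem_cons, List.not_mem_nil, or_false] at h1
    rcases h1 with e' | e' | e' | e'
    · omega
    · omega
    · exact absurd (e.mem_nine h (hStS b) e') (hStz b hb)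
    · exact absurd ((eq_of_le_of_card_ge (hStS b) (by rw [e', card_S h S])).symm.le e.mem) (hStz b hb)
  have hcompl : ∀ b, b ≠ a → ∃ A : Subgroup G, A ≤ (S : Subgroup G) ∧ Nat.card A = 9 ∧
      ∀ y ∈ A, y ∈ St b → y = 1 := by
    intro b hb
    by_cases hD' : ∀ y ∈ D, y ∈ St b → y = 1
    · exact ⟨D, hDS, hD9, hD'⟩
    push Not at hD'
    obtain ⟨y0, hy0D, hy0, hy01⟩ := hD'
    obtain ⟨s, hs, hsD⟩ : ∃ s ∈ (S : Subgroup G), s ∉ D := by
      by_contra hc
      push Not at hc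
      have := Nat.le_of_dvd Nat.card_pos (card_dvd_of_le (hc : (S : Subgroup G) ≤ D))
      rw [hD9, card_S h S] at this; omega
    have hsz : s ∉ zpowers z := fun hsz => hsD (zpowers_le.2 hzD hsz)
    refine ⟨plane z s, e.plane_le h hs, e.card_plane h hs hsz, fun y hy hySt => ?_⟩
    by_contra hy1
    have heq : zpowers y0 = St b := eq_of_le_of_card_ge (zpowers_le.2 hy0) (by
      rw [Nat.card_zpowers, orderOf_eq_prime (cube h S (hStS b hy0)) hy01]; exact hSt3 b hb)
    have hy' : y ∈ D := zpowers_le.2 hy0D (heq ▸ hySt)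
    have hyz : y ∉ zpowers z := fun hyz => hy1 (by
      rcases e.mem_zpowers_cases h hyz with h1 | h1 | h1
      · exact h1
      · exact absurd (h1 ▸ hySt) (hStz b hb)
      · exact absurd (by rw [← inv_inv z, ← h1]; exact inv_mem hySt) (hStz b hb))
    refine hsD ?_
    rw [e.plane_eq h hDS hD9 hy' hyz,
      ← e.plane_eq h (e.plane_le h hs) (e.card_plane h hs hsz) hy hyz]
    exact (le_sup_left : zpowers s ≤ plane z s) (mem_zpowers s)
  have hinj : ∀ (b : G ⧸ H) (A : Subgroup G), A ≤ (S : Subgroup G) → (∀ y ∈ A, y ∈ St b → y = 1) →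
      Function.Injective fun p : ↥A × ↥(orb b) => (p.1 : G) • (p.2 : G ⧸ H) := by
    rintro b A hAS hA' ⟨⟨s, hs⟩, p, r, hr, rfl⟩ ⟨⟨t, ht⟩, q, r', hr', rfl⟩ e'
    have e1 : s • r • b = t • r' • b := e'
    have hmem : t⁻¹ * s ∈ St b := hswap b _ r r' (hAS (mul_mem (inv_mem ht) hs)) hr hr'
      (by rw [mul_smul, e1, inv_smul_smul])
    have hst : s = t := (inv_mul_eq_one.1 (hA' _ (mul_mem (inv_mem ht) hs) hmem)).symm
    subst hst
    refine Prod.ext rfl (Subtype.ext ?_)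
    exact MulAction.injective s e1
  have horb_ne : ∀ b, b ≠ a → ∀ p ∈ orb b, p ≠ a := by
    rintro b hb _ ⟨r, hr, rfl⟩
    exact hne_a r (hCH (hRC hr)) b hb
  have hcard27 : (({a} : Set (G ⧸ H))ᶜ).ncard = 27 := by
    rw [Set.ncard_compl, Set.ncard_singleton, ← index_eq_card, hidx]
  have horb2 : ∀ b, b ≠ a → (orb b).ncard ≤ 2 := by
    intro b hb
    obtain ⟨A, hAS, hA9, hA'⟩ := hcompl b hb
    have h1 := Set.ncard_le_ncard (show Set.range (fun p : ↥A × ↥(orb b) => (p.1 : G) • (p.2 : G ⧸ H)) ⊆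
      ({a} : Set (G ⧸ H))ᶜ from by
        rintro _ ⟨p, rfl⟩
        exact hne_a _ (hSH (hAS p.1.2)) _ (horb_ne b hb _ p.2.2))
    rw [Set.ncard_range_of_injective (hinj b A hAS hA'), Nat.card_prod, hA9, Nat.card_coe_set_eq, hcard27] at h1
    have heq : orb b = MulAction.orbit ↥R b := by
      ext p
      exact ⟨fun ⟨r, hr, e'⟩ => ⟨⟨r, hr⟩, e'⟩, fun ⟨r, e'⟩ => ⟨r.1, r.2, e'⟩⟩
    have h2 : (orb b).ncard ∣ m := by
      rw [heq, ← MulAction.index_stabilizer, ← hRm]
      exact index_dvd_card _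
    have h3 : (orb b).ncard ≤ 3 := by omega
    by_contra h4'
    exact hm3 (show (orb b).ncard = 3 by omega ▸ h2)
  obtain ⟨b, r0, hr0, hb0⟩ : ∃ b : G ⧸ H, ∃ r0 ∈ R, r0 • b ≠ b := by
    by_contra hc
    push Not at hc
    have hb : R = ⊥ := eq_bot_iff.2 fun r hr => mem_bot.2 (faithful_cosets h H (by omega) fun p => hc p r hr)
    rw [hb, card_bot] at hRm; omega
  have hb : b ≠ a := fun e' => hb0 (e' ▸ hHfix r0 (hCH (hRC hr0)))
  have hpair : ∀ c r, c ≠ a → r ∈ R → r • c ≠ c → orb c = {c, r • c} := by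
    intro c r hc hr hrc
    refine (Set.eq_of_subset_of_ncard_le ?_ ?_).symm
    · rintro p (hp | hp)
      · rw [hp]; exact horb_self c
      · rw [Set.mem_singleton_iff.1 hp]; exact ⟨r, hr, rfl⟩
    · rw [Set.ncard_pair (Ne.symm hrc)]; exact horb2 c hc
  have hStfix : ∀ c r, c ≠ a → r ∈ R → r • c ≠ c → ∀ s ∈ St c, s • c = c := by
    intro c r hc hr hrc s hs
    obtain ⟨hsS, hsc⟩ := hs
    rw [hpair c r hc hr hrc] at hsc
    rcases hsc with h1 | h1
    · exact h1
    · exfalso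
      rw [Set.mem_singleton_iff] at h1
      have h2 : s • r • c ∈ orb c := by
        refine ⟨(s⁻¹⁻¹ * r * s⁻¹) * r, mul_mem (hRn _ (inv_mem (hSH hsS)) r hr) hr, ?_⟩
        rw [mul_smul, show (s⁻¹⁻¹ * r * s⁻¹) • r • c = (s⁻¹⁻¹ * r * s⁻¹) • s • c by rw [h1]]
        simp only [← mul_smul]
        group
      rw [hpair c r hc hr hrc] at h2
      rcases h2 with h3 | h3
      · have h5 : s ^ 3 • c = c := by rw [cube h S hsS, one_smul]
        rw [pow_three, mul_smul, mul_smul, h1, h3, h1] at h5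
        exact hrc h5
      · exact hrc (MulAction.injective s ((Set.mem_singleton_iff.1 h3).trans h1.symm))
  -- the union of the orbits over a Sylow orbit
  let U : G ⧸ H → Set (G ⧸ H) := fun c => {p | ∃ s ∈ (S : Subgroup G), ∃ r ∈ R, p = s • r • c}
  have hUne : ∀ c, c ≠ a → U c ⊆ ({a} : Set (G ⧸ H))ᶜ := by
    rintro c hc _ ⟨s, hs, r, hr, rfl⟩
    exact hne_a s (hSH hs) _ (hne_a r (hCH (hRC hr)) c hc)
  have hUeq : ∀ c d p, p ∈ U c → p ∈ U d → d ∈ U c := by
    rintro c d p ⟨s, hs, r, hr, rfl⟩ ⟨t, ht, r', hr', e'⟩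
    refine ⟨t⁻¹ * s, mul_mem (inv_mem ht) hs, ((t⁻¹ * s)⁻¹ * r'⁻¹ * (t⁻¹ * s)) * r,
      mul_mem (hRn _ (hSH (mul_mem (inv_mem ht) hs)) _ (inv_mem hr')) hr, ?_⟩
    calc d = r'⁻¹ • t⁻¹ • (t • r' • d) := by rw [inv_smul_smul, inv_smul_smul]
      _ = r'⁻¹ • t⁻¹ • (s • r • c) := by rw [← e']
      _ = _ := by simp only [← mul_smul]; group
  have h18 : ∀ c r, c ≠ a → r ∈ R → r • c ≠ c → 18 ≤ (U c).ncard := by
    intro c r hc hr hrc
    obtain ⟨A, hAS, hA9, hA'⟩ := hcompl c hc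
    have h1 := Set.ncard_le_ncard (show Set.range (fun p : ↥A × ↥(orb c) => (p.1 : G) • (p.2 : G ⧸ H)) ⊆ U c from by
      rintro _ ⟨⟨s, p, r', hr', rfl⟩, rfl⟩
      exact ⟨s.1, hAS s.2, r', hr', rfl⟩)
    rw [Set.ncard_range_of_injective (hinj c A hAS hA'), Nat.card_prod, hA9, Nat.card_coe_set_eq,
      hpair c r hc hr hrc, Set.ncard_pair (Ne.symm hrc)] at h1
    exact h1
  have hmoved : ∀ c r, c ≠ a → r ∈ R → r • c ≠ c → c ∈ U b := by
    intro c r hc hr hrc
    by_contra hcU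
    have hdis : Disjoint (U b) (U c) := Set.disjoint_left.2 fun p hp hp' => hcU (hUeq b c p hp hp')
    have h1 := Set.ncard_le_ncard (Set.union_subset (hUne b hb) (hUne c hc))
    rw [Set.ncard_union_eq hdis, hcard27] at h1
    have := h18 c r hc hr hrc
    have := h18 b r0 hb hr0 hb0
    omega
  -- an element of the plane fixes the moved point
  obtain ⟨x, hxD, hx1, hxb⟩ : ∃ x ∈ D, x ≠ 1 ∧ x • b = b := by
    by_contra hc
    push Not at hc
    have hD' : ∀ y ∈ D, y ∈ St b → y = 1 := fun y hy hySt =>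
      by_contra fun hy1 => hc y hy hy1 (hStfix b r0 hb hr0 hb0 y hySt)
    have hg : Function.Injective fun p : ↥D × ↥(St b) =>
        (⟨(p.1 : G) * p.2, mul_mem (hDS p.1.2) (hStS b p.2.2)⟩ : ↥(S : Subgroup G)) := by
      rintro ⟨⟨d, hd⟩, ⟨y, hy⟩⟩ ⟨⟨d', hd'⟩, ⟨y', hy'⟩⟩ e'
      have e1 : d * y = d' * y' := congrArg Subtype.val e'
      have e2 : d'⁻¹ * d = y' * y⁻¹ := by rw [eq_mul_inv_iff_mul_eq, mul_assoc, e1, inv_mul_cancel_left]
      have hd1 : d = d' := (inv_mul_eq_one.1 (hD' _ (mul_mem (inv_mem hd') hd)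
        (e2 ▸ mul_mem hy' (inv_mem hy)))).symm
      subst hd1
      have hy2 : y = y' := mul_left_cancel e1
      subst hy2
      rfl
    have hSt : 3 ≤ Nat.card (St b) := by
      by_contra hlt
      have h1 := card_three_group h (S.2.to_le (hStS b))
      simp only [List.mem_cons, List.not_mem_nil, or_false] at h1
      have hbot : St b = ⊥ := Subgroup.eq_bot_of_card_eq _ (by omega)
      have h2 := Set.ncard_le_ncard (show Set.range (fun p : ↥(S : Subgroup G) × ↥(orb b) =>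
          (p.1 : G) • (p.2 : G ⧸ H)) ⊆ ({a} : Set (G ⧸ H))ᶜ from by
        rintro _ ⟨p, rfl⟩
        exact hne_a _ (hSH p.1.2) _ (horb_ne b hb _ p.2.2))
      rw [Set.ncard_range_of_injective (hinj b _ le_rfl fun y _ hy => mem_bot.1 (hbot ▸ hy)), Nat.card_prod,
        card_S h S, Nat.card_coe_set_eq, hpair b r0 hb hr0 hb0, Set.ncard_pair (Ne.symm hb0), hcard27] at h2
      omega
    have hbij : Function.Surjective fun p : ↥D × ↥(St b) =>
        (⟨(p.1 : G) * p.2, mul_mem (hDS p.1.2) (hStS b p.2.2)⟩ : ↥(S : Subgroup G)) := by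
      refine (hg.bijective_of_nat_card_le ?_).2
      rw [card_S h S, Nat.card_prod, hD9]; omega
    -- a stabiliser in R of the point fixes all moved points
    have hK : ∀ r ∈ R, r • b = b → r = 1 := by
      intro r hr hrb
      refine faithful_cosets h H (by omega) fun p => ?_
      by_contra hp
      have hpa : p ≠ a := fun e' => hp (e' ▸ hHfix r (hCH (hRC hr)))
      obtain ⟨s, hs, r1, hr1, rfl⟩ := hmoved p r hpa hr hp
      obtain ⟨⟨⟨d, hd⟩, ⟨y, hy⟩⟩, hdy⟩ := hbij ⟨s, hs⟩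
      have hdy' : d * y = s := congrArg Subtype.val hdy
      have hin : y • r1 • b ∈ orb b := by
        refine ⟨y⁻¹⁻¹ * r1 * y⁻¹, hRn _ (inv_mem (hSH (hStS b hy))) r1 hr1, ?_⟩
        calc (y⁻¹⁻¹ * r1 * y⁻¹) • b = (y⁻¹⁻¹ * r1 * y⁻¹) • y • b := by rw [hStfix b r0 hb hr0 hb0 y hy]
          _ = y • r1 • b := by simp only [← mul_smul]; group
      have hfix : ∀ q ∈ orb b, r • q = q := by
        intro q hq
        rw [hpair b r0 hb hr0 hb0] at hq
        rcases hq with h1 | h1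
        · rw [h1]; exact hrb
        · rw [Set.mem_singleton_iff.1 h1]
          have h2 : r • r0 • b ∈ orb b := ⟨r * r0, mul_mem hr hr0, mul_smul r r0 b⟩
          rw [hpair b r0 hb hr0 hb0] at h2
          rcases h2 with h3 | h3
          · exact absurd (MulAction.injective r (h3.trans hrb.symm)) hb0
          · exact h3
      apply hp
      rw [← hdy', mul_smul, ← mul_smul r d, (hRD r hr d hd).eq, mul_smul, hfix _ hin]
    have hRinj : Function.Injective fun r : ↥R => (⟨(r : G) • b, show (r : G) • b ∈ orb b from ⟨r.1, r.2, rfl⟩⟩ : {p : G ⧸ H // p ∈ orb b}) := by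
      intro r r' e'
      have e1 : (r : G) • b = (r' : G) • b := congrArg Subtype.val e'
      refine Subtype.ext (inv_mul_eq_one.1 (hK _ (mul_mem (inv_mem r.2) r'.2) ?_))
      rw [mul_smul, ← e1, inv_smul_smul]
    have h1 := Nat.card_le_card_of_injective _ hRinj
    rw [hRm, Nat.card_coe_set_eq] at h1
    have := horb2 b hb
    omega
  have hxS : x ∈ (S : Subgroup G) := hDS hxD
  have hxz : x ∉ zpowers z := fun hxz => hx1 (hA b hb x hxz hxb)
  have hx3 := cube h S hxS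
  have hStx : St b = zpowers x := (eq_of_le_of_card_ge (zpowers_le.2 (show x ∈ St b from ⟨hxS, by rw [hxb]; exact horb_self b⟩)) (by
    rw [Nat.card_zpowers, orderOf_eq_prime hx3 hx1]; exact hSt3 b hb)).symm
  -- the points fixed by x
  set f : G → ℕ := fun y => Nat.card ↥(MulAction.fixedBy (G ⧸ H) y)
  have hf7 : 7 ≤ f x := by
    have hzn : ∀ j : ℕ, z ^ j ∈ D := fun j => pow_mem hzD j
    have hAz : ∀ y ∈ zpowers z, y ∈ St b → y = 1 := by
      intro y hy hy'
      by_contra hy1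
      rcases e.mem_zpowers_cases h hy with h1 | h1 | h1
      · exact hy1 h1
      · exact hStz b hb (h1 ▸ hy')
      · exact hStz b hb (by rw [← inv_inv z, ← h1]; exact inv_mem hy')
    have hsub : insert a (Set.range fun p : ↥(zpowers z) × ↥(orb b) => (p.1 : G) • (p.2 : G ⧸ H)) ⊆
        MulAction.fixedBy (G ⧸ H) x := by
      rintro p (rfl | ⟨⟨⟨w, hw⟩, q, r, hr, rfl⟩, rfl⟩)
      · exact hHfix x (hDH hxD)
      · show x • w • r • b = w • r • b
        have hwx : Commute x w := by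
          obtain ⟨j, rfl⟩ := mem_zpowers_iff.1 hw
          exact (e.central x hxS).symm.zpow_right j
        rw [← mul_smul x w, hwx.eq, mul_smul, ← mul_smul x r, ← (hRD r hr x hxD).eq, mul_smul, hxb]
    have h1 := Set.ncard_le_ncard hsub
    rw [Set.ncard_insert_of_notMem ?_, Set.ncard_range_of_injective (hinj b _ (zpowers_le.2 e.mem) hAz),
      Nat.card_prod, e.card_zpowers h, Nat.card_coe_set_eq, hpair b r0 hb hr0 hb0,
      Set.ncard_pair (Ne.symm hb0)] at h1
    · rw [← Nat.card_coe_set_eq (MulAction.fixedBy (G ⧸ H) x)] at h1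
      exact h1
    · rintro ⟨p, hp⟩
      exact hne_a _ (hSH (zpowers_le.2 e.mem p.1.2)) _ (horb_ne b hb _ p.2.2) hp
  have hfS : ∀ y ∈ (S : Subgroup G), y ∉ D → f y ≤ 4 := by
    intro y hy hyD
    have hyz : y ∉ zpowers z := fun hyz => hyD (zpowers_le.2 hzD hyz)
    have hyU : ∀ p ∈ U b, y • p ≠ p := by
      rintro _ ⟨s, hs, r, hr, rfl⟩ he
      have hs' : s⁻¹ * y * s ∈ St b := hswap b _ r r (mul_mem (mul_mem (inv_mem hs) hy) hs) hr hr
        (by rw [mul_smul, mul_smul, he, inv_smul_smul])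
      rw [hStx] at hs'
      refine hyD ?_
      have := (mem_normalizer_iff.1 (hDn (hSH hs)) _).1 (zpowers_le.2 hxD hs')
      rwa [show s * (s⁻¹ * y * s) * s⁻¹ = y by group] at this
    set F := MulAction.fixedBy (G ⧸ H) y
    by_cases hex : ∃ p ∈ F, p ≠ a
    · obtain ⟨p0, hp0, hp0a⟩ := hex
      obtain ⟨A, hAS, hA9, hA'⟩ := hcompl p0 hp0a
      have hp0U : p0 ∉ U b := fun hp => hyU p0 hp hp0
      have hWsub : Set.range (fun s : ↥A => (s : G) • p0) ⊆ ({a} : Set (G ⧸ H))ᶜ \ U b := by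
        rintro _ ⟨s, rfl⟩
        refine ⟨hne_a _ (hSH (hAS s.2)) p0 hp0a, fun hs => hp0U ?_⟩
        exact hUeq b p0 _ hs ⟨s.1, hAS s.2, 1, one_mem _, by rw [one_smul]⟩
      have hW : (({a} : Set (G ⧸ H))ᶜ \ U b).ncard ≤ 9 := by
        rw [Set.ncard_diff (hUne b hb), hcard27]
        have := h18 b r0 hb hr0 hb0
        omega
      have hinj' : Function.Injective fun s : ↥A => (s : G) • p0 := by
        intro s t e'
        exact congrArg Prod.fst (hinj p0 A hAS hA' (a₁ := (s, ⟨p0, horb_self p0⟩)) (a₂ := (t, ⟨p0, horb_self p0⟩)) e')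
      have hWeq := Set.eq_of_subset_of_ncard_le hWsub (by
        rw [Set.ncard_range_of_injective hinj', hA9]; exact hW)
      have hFsub : F ⊆ insert a ((fun j : ℕ => z ^ j • p0) '' ({0, 1, 2} : Set ℕ)) := by
        intro p hp
        by_cases hpa : p = a
        · exact Set.mem_insert_iff.2 (Or.inl hpa)
        refine Set.mem_insert_iff.2 (Or.inr ?_)
        obtain ⟨u, rfl⟩ : p ∈ Set.range fun s : ↥A => (s : G) • p0 := by
          rw [hWeq]; exact ⟨hpa, fun hpU => hyU p hpU hp⟩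
        obtain ⟨j, hj, ej⟩ := e.fixed_orbit h (hA p0 hp0a) hy hyz (hAS u.2) hp0 hp
        exact ⟨j, by interval_cases j <;> simp, ej.symm⟩
      have h1 := (Set.ncard_le_ncard hFsub).trans (Set.ncard_insert_le _ _)
      have h2 := Set.ncard_image_le (f := fun j : ℕ => z ^ j • p0) (s := ({0, 1, 2} : Set ℕ))
      have h3 : ({0, 1, 2} : Set ℕ).ncard = 3 := by simp
      show Nat.card ↥F ≤ 4
      rw [Nat.card_coe_set_eq]
      omega
    · push Not at hex
      have h1 := Set.ncard_le_ncard (show F ⊆ {a} from fun p hp => hex p hp)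
      show Nat.card ↥F ≤ 4
      rw [Nat.card_coe_set_eq]
      rw [Set.ncard_singleton] at h1
      omega
  -- counting
  set X : Set G := {y | y ∈ H ∧ IsConj x y}
  have hfconj : ∀ g y : G, f (g * y * g⁻¹) = f y := fun g y => Nat.card_congr
    { toFun := fun p => ⟨g⁻¹ • p.1, by
        show y • g⁻¹ • p.1 = g⁻¹ • p.1
        have : (g * y * g⁻¹) • p.1 = p.1 := p.2
        rw [eq_inv_smul_iff, ← mul_smul, ← mul_smul]; exact this⟩
      invFun := fun p => ⟨g • p.1, by
        show (g * y * g⁻¹) • g • p.1 = g • p.1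
        rw [← mul_smul, inv_mul_cancel_right, mul_smul, show y • p.1 = p.1 from p.2]⟩
      left_inv := fun p => Subtype.ext (smul_inv_smul g p.1)
      right_inv := fun p => Subtype.ext (inv_smul_smul g p.1) }
  have hXsub : X ⊆ (D : Set G) \ (zpowers z : Set G) := by
    rintro y ⟨hyH, hyc⟩
    obtain ⟨g, rfl⟩ := isConj_iff.1 hyc
    obtain ⟨k, hk, hkS⟩ := conj_into h S hSH hyH (by rw [conj_pow, hx3, mul_one, mul_inv_cancel])
    set y' := k⁻¹ * (g * x * g⁻¹) * k
    have hy' : f y' = f x := by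
      rw [show y' = (k⁻¹ * g) * x * (k⁻¹ * g)⁻¹ by simp only [y']; group, hfconj]
    have hy'D : y' ∈ D := by
      by_contra hn
      have := hfS y' hkS hn
      omega
    refine ⟨?_, fun hmem => ?_⟩
    · have := (mem_normalizer_iff.1 (hDn hk) y').1 hy'D
      rwa [show k * y' * k⁻¹ = g * x * g⁻¹ by simp only [y']; group] at this
    · have hne : g * x * g⁻¹ ≠ 1 := fun e' => hx1 (by rwa [mul_inv_eq_one, mul_eq_left] at e')
      have h1 := Set.ncard_le_ncard (show MulAction.fixedBy (G ⧸ H) (g * x * g⁻¹) ⊆ {a} from fun p hp => by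
        by_contra hpa
        exact hne (hA p hpa _ hmem hp))
      rw [Set.ncard_singleton, ← Nat.card_coe_set_eq] at h1
      have h1' : f (g * x * g⁻¹) ≤ 1 := h1
      rw [hfconj] at h1'
      omega
  have hk3 : 3 ∣ Nat.card ↥X := e.three_dvd_class h X
    (fun y hy => ⟨hDS (hXsub hy).1, (hXsub hy).2⟩)
    fun s hs y hy => ⟨mul_mem (mul_mem (hSH hs) hy.1) (inv_mem (hSH hs)), hy.2.trans (isConj_iff.2 ⟨s, rfl⟩)⟩
  have hk6 : Nat.card ↥X ≤ 6 := by
    rw [Nat.card_coe_set_eq]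
    refine (Set.ncard_le_ncard hXsub).trans (le_of_eq ?_)
    rw [Set.ncard_diff (fun y hy => (zpowers_le.2 hzD) hy), ← Nat.card_coe_set_eq, ← Nat.card_coe_set_eq]
    show Nat.card ↥D - Nat.card ↥(zpowers z) = 6
    rw [hD9, e.card_zpowers h]
  have hcount := fix_count (Ω := G ⧸ H) a x
  have hstab : MulAction.stabilizer G a = H := by
    ext k
    rw [MulAction.mem_stabilizer_iff, mk_fixed_iff]; simp
  rw [hstab, hH] at hcount
  have hf28 : f x ≤ 28 := by
    have := Nat.card_le_card_of_injective _ (Subtype.val_injective (p := fun p : G ⧸ H => p ∈ MulAction.fixedBy (G ⧸ H) x))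
    rwa [← index_eq_card, hidx] at this
  have hkpos : 1 ≤ Nat.card ↥X := by
    haveI : Nonempty ↥X := ⟨⟨x, hDH hxD, IsConj.refl x⟩⟩
    exact Nat.card_pos
  exact count_key _ (Nat.mem_divisors.2 ⟨card_centralizer_three h hx3 hx1, by norm_num⟩) (f x)
    (Finset.mem_range.2 (by omega)) (Nat.card ↥X) (Finset.mem_range.2 (by omega))
    ⟨hkpos, hk3, hf7, fixed_mod H hidx hx3⟩ hcount

end CfsgLib.Recog.G2TwoSpec
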